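import Cfsg.Agent.Lib.Coprime.PGroup
import Cfsg.Agent.Lib.Coprime.OmegaDetect
import Cfsg.Agent.Lib.PGroups.UniqueSubgroup

/-!
`p`-groups, `p` odd, in which all elements of order `p` are central, and their coprime action: the
commutator with a `p'`-element contains no fixed point of order `p`, if there are at most `p ^ 2`
solutions of `e ^ p = 1`.
-/

set_option autoImplicit false

namespace Cfsg.Agent.IsolatedRank

open Subgroup
open scoped commutatorElement

universe u

variable {p : ℕ} [Fact p.Prime]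

/-- The elements of order dividing `p` are central in `Q`. -/
def PCentral {H : Type*} [Group H] (p : ℕ) (Q : Subgroup H) : Prop :=
  ∀ e ∈ Q, e ^ p = 1 → ∀ g ∈ Q, Commute g e

/-- The subgroup of solutions of `e ^ p = 1`. -/
def omega {H : Type*} [Group H] {Q : Subgroup H} (hc : PCentral p Q) : Subgroup H where
  carrier := {e | e ∈ Q ∧ e ^ p = 1}
  one_mem' := ⟨one_mem _, one_pow p⟩
  mul_mem' := fun {a b} ha hb =>
    ⟨mul_mem ha.1 hb.1, by rw [(hc b hb.1 hb.2 a ha.1).mul_pow, ha.2, hb.2, one_mul]⟩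
  inv_mem' := fun {a} ha => ⟨inv_mem ha.1, by rw [inv_pow, ha.2, inv_one]⟩

theorem PCentral.mul_pow_of {H : Type*} [Group H] {Q : Subgroup H} (hp : p ≠ 2) (hc : PCentral p Q) {a b : H}
    (ha : a ∈ Q) (hb : b ∈ Q) (h : (b⁻¹ * a⁻¹ * b * a) ^ p = 1) : (a * b) ^ p = a ^ p * b ^ p := by
  have hpp : p.Prime := Fact.out
  have hm : b⁻¹ * a⁻¹ * b * a ∈ Q := mul_mem (mul_mem (mul_mem (inv_mem hb) (inv_mem ha)) hb) ha
  have h2 := hpp.two_le
  rw [Coprime.OmegaDetect.mul_pow_central (x := b) (y := a) (c := b⁻¹ * a⁻¹ * b * a) (by group)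
    (hc _ hm h b hb).symm (hc _ hm h a ha).symm p]
  obtain ⟨k, hk⟩ := hpp.dvd_choose_self two_ne_zero (lt_of_le_of_ne h2 (Ne.symm hp))
  rw [hk, pow_mul, h, one_pow, mul_one]

/-- Commutators with elements of order dividing `p ^ 2` have order dividing `p`. -/
theorem PCentral.commutator_pow {H : Type*} [Group H] [Finite H] {Q : Subgroup H} (hp : p ≠ 2)
    (hQ : IsPGroup p Q) (hc : PCentral p Q) {a g : H} (ha : a ∈ Q) (hap : (a ^ p) ^ p = 1) (hg : g ∈ Q) :
    (g * a * g⁻¹ * a⁻¹) ^ p = 1 := by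
  induction hn : Nat.card Q using Nat.strongRecOn generalizing Q a g with
  | ind n ih =>
    subst hn
    haveI := hQ.isNilpotent
    set b := g * a * g⁻¹ with hb
    have hbQ : b ∈ Q := mul_mem (mul_mem hg ha) (inv_mem hg)
    set L := closure ({a, b} : Set H) with hL
    have hLQ : L ≤ Q := (closure_le Q).2 (by simp [Set.insert_subset_iff, ha, hbQ])
    have haL : a ∈ L := subset_closure (by simp)
    have hbL : b ∈ L := subset_closure (by simp)
    by_cases hLe : L = Q
    · have hz : zpowers a = Q := by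
        refine Coprime.eq_of_le_of_sup_commutator_eq (zpowers_le.2 ha)
          (le_antisymm (sup_le (zpowers_le.2 ha) (commutator_le_self Q)) ?_)
        conv_lhs => rw [← hLe]
        rw [hL, closure_le, Set.insert_subset_iff, Set.singleton_subset_iff]
        refine ⟨mem_sup_left (mem_zpowers a), ?_⟩
        have : b = ⁅g, a⁆ * a := by rw [hb, commutatorElement_def]; group
        rw [this]
        exact mul_mem (mem_sup_right (commutator_mem_commutator hg ha)) (mem_sup_left (mem_zpowers a))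
      obtain ⟨i, rfl⟩ := mem_zpowers_iff.1 (hz.ge hg)
      have : b * a⁻¹ = 1 := by rw [hb]; group
      rw [this, one_pow]
    · have hlt : Nat.card L < Nat.card Q :=
        lt_of_not_ge fun hge => hLe (eq_of_le_of_card_ge hLQ hge)
      have hcL : PCentral p L := fun e he hep k hk => hc e (hLQ he) hep k (hLQ hk)
      have hbp : (b ^ p) ^ p = 1 := by rw [hb, conj_pow, conj_pow, hap, mul_one, mul_inv_cancel]
      have h := ih _ hlt (hQ.to_le hLQ) hcL (inv_mem hbL) (by rw [inv_pow, inv_pow, hbp, inv_one]) haL rfl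
      rw [inv_inv] at h
      have h' : (a * b⁻¹ * a⁻¹ * b) ^ p = 1 := h
      rw [hc.mul_pow_of hp hbQ (inv_mem ha) (by rw [inv_inv]; convert h' using 2), inv_pow]
      rw [hb, conj_pow, mul_inv_eq_one]
      have hcm : Commute g (a ^ p) := hc _ (pow_mem ha p) hap g hg
      rw [hcm.eq, mul_inv_cancel_right]

theorem PCentral.mul_pow {H : Type*} [Group H] [Finite H] {Q : Subgroup H} (hp : p ≠ 2)
    (hQ : IsPGroup p Q) (hc : PCentral p Q) {a b : H} (ha : a ∈ Q) (hb : b ∈ Q) (hap : (a ^ p) ^ p = 1) :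
    (a * b) ^ p = a ^ p * b ^ p := by
  refine hc.mul_pow_of hp ha hb ?_
  have h := hc.commutator_pow hp hQ (inv_mem ha) (by rw [inv_pow, inv_pow, hap, inv_one]) (inv_mem hb)
  rwa [inv_inv, inv_inv] at h

/-- The key fact: no fixed element of order `p` lies in the commutator with a `p'`-element. -/
theorem no_fixed_aux (hp : p ≠ 2) : ∀ (n : ℕ) (H : Type u) [Group H] [Finite H] (Q : Subgroup H) [Q.Normal],
    Nat.card Q = n → IsPGroup p Q → ∀ hc : PCentral p Q, Nat.card (omega hc) ≤ p ^ 2 → ∀ h : H,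
    (orderOf h).Coprime p → ⁅Q, zpowers h⁆ = Q → ∀ x ∈ Q, x ^ p = 1 → x ≠ 1 → ¬ Commute h x := by
  intro n
  induction n using Nat.strong_induction_on with
  | _ n ih =>
  intro H _ _ Q _ hn hQ hc hΩ h ho hQh x hxQ hxp hx1 hhx
  haveI hN : (omega hc).Normal := ⟨fun e he g => ⟨(inferInstance : Q.Normal).conj_mem e he.1 g, by
    rw [conj_pow, he.2, mul_one, mul_inv_cancel]⟩⟩
  set f := QuotientGroup.mk' (omega hc) with hf
  have hfs : Function.Surjective f := QuotientGroup.mk'_surjective _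
  set R := Q.map f with hR
  have hsq : ∀ a ∈ Q, (f a) ^ p = 1 → (a ^ p) ^ p = 1 := fun a ha e => by
    rw [← map_pow] at e
    exact ((QuotientGroup.eq_one_iff _).1 e).2
  have hcR : PCentral p R := by
    rintro _ ⟨a, ha, rfl⟩ hap _ ⟨g, hg, rfl⟩
    rw [← commutatorElement_eq_one_iff_commute, ← map_commutatorElement]
    refine (QuotientGroup.eq_one_iff _).2 ⟨?_, hc.commutator_pow hp hQ ha (hsq a ha hap) hg⟩
    exact mul_mem (mul_mem (mul_mem hg ha) (inv_mem hg)) (inv_mem ha)
  have hrep : ∀ q : omega hcR, ∃ a ∈ Q, f a = (q : H ⧸ omega hc) := fun q => q.2.1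
  choose r hr hrq using hrep
  have hrp : ∀ q : omega hcR, ((r q) ^ p) ^ p = 1 := fun q => hsq _ (hr q) (by rw [hrq]; exact q.2.2)
  let ψ : omega hcR → omega hc := fun q => ⟨(r q) ^ p, pow_mem (hr q) p, hrp q⟩
  have hψ : Function.Injective ψ := fun q q' e => by
    have e' : r q ^ p = r q' ^ p := congrArg Subtype.val e
    have h1 := hc.mul_pow hp hQ (hr q) (inv_mem (hr q')) (hrp q)
    rw [inv_pow, e', mul_inv_cancel] at h1
    apply Subtype.ext
    rw [← hrq q, ← hrq q']
    have h2 : f (r q * (r q')⁻¹) = 1 :=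
      (QuotientGroup.eq_one_iff _).2 ⟨mul_mem (hr q) (inv_mem (hr q')), h1⟩
    rw [map_mul, map_inv, mul_inv_eq_one] at h2
    exact h2
  have hΩR : Nat.card (omega hcR) ≤ p ^ 2 := (Nat.card_le_card_of_injective ψ hψ).trans hΩ
  by_cases hfix : ∃ q ∈ omega hcR, q ≠ 1 ∧ Commute (f h) q
  · obtain ⟨q, hq, hq1, hhq⟩ := hfix
    haveI : R.Normal := Subgroup.Normal.map inferInstance f hfs
    refine ih _ ?_ (H ⧸ omega hc) R rfl (hQ.map f) hcR hΩR (f h) ?_ ?_ q hq.1 hq.2 hq1 hhq
    · rw [← hn]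
      refine lt_of_le_of_ne (Nat.le_of_dvd Nat.card_pos (card_map_dvd Q f)) fun e => ?_
      have hb : Function.Bijective (f.subgroupMap Q) :=
        (MonoidHom.subgroupMap_surjective f Q).bijective_of_nat_card_le (le_of_eq e.symm)
      have h1 : f.subgroupMap Q ⟨x, hxQ⟩ = 1 :=
        Subtype.ext ((QuotientGroup.eq_one_iff x).2 ⟨hxQ, hxp⟩)
      exact hx1 (congrArg Subtype.val (hb.1 (h1.trans (map_one _).symm)))
    · exact Nat.Coprime.coprime_dvd_left (orderOf_map_dvd f h) ho
    · rw [hR, ← MonoidHom.map_zpowers, ← map_commutator, hQh]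
  push Not at hfix
  have hsmall : Nat.card (omega hcR) ≤ p := by
    by_contra hlt
    push Not at hlt
    obtain ⟨k, hk⟩ := ((hQ.map f).to_le (fun q hq => hq.1 : omega hcR ≤ R)).exists_card_eq
    have hk2 : 2 ≤ k := by
      by_contra hk2
      rw [hk] at hlt
      exact hlt.not_ge ((Nat.pow_le_pow_right (Fact.out : p.Prime).pos (by omega : k ≤ 1)).trans (pow_one p).le)
    have hbij := hψ.bijective_of_nat_card_le (hΩ.trans (by
      rw [hk]; exact Nat.pow_le_pow_right (Fact.out : p.Prime).pos hk2))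
    obtain ⟨q, hq⟩ := hbij.2 ⟨x, hxQ, hxp⟩
    have hq' : r q ^ p = x := congrArg Subtype.val hq
    refine hfix q q.2 (fun e => hx1 ?_) ?_
    · rw [← hrq q] at e
      rw [← hq']
      exact ((QuotientGroup.eq_one_iff _).1 e).2
    · rw [← hrq q]
      have hhr : h * r q * h⁻¹ ∈ Q := (inferInstance : Q.Normal).conj_mem _ (hr q) h
      have h1 := hc.mul_pow hp hQ (hr q) (inv_mem hhr) (hrp q)
      rw [inv_pow, conj_pow, hq', hhx.eq, mul_inv_cancel_right, mul_inv_cancel] at h1
      have h2 : f (r q * (h * r q * h⁻¹)⁻¹) = 1 :=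
        (QuotientGroup.eq_one_iff _).2 ⟨mul_mem (hr q) (inv_mem hhr), h1⟩
      rw [map_mul, map_inv, mul_inv_eq_one, map_mul, map_mul, map_inv] at h2
      exact (eq_mul_inv_iff_mul_eq.1 h2).symm
  -- at most one subgroup of order `p` in the quotient
  have hcyc : IsCyclic R := by
    refine (PGroups.UniqueSubgroup.isCyclic_or_quaternion (hQ.map f) fun X Y hX hY => ?_).resolve_right
      fun e => hp e.1
    have key : ∀ Z : Subgroup R, Nat.card Z = p → Z.map R.subtype = omega hcR := by
      intro Z hZ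
      refine eq_of_le_of_card_ge (fun z hz => ?_) ?_
      · obtain ⟨z, hz, rfl⟩ := hz
        refine ⟨z.2, ?_⟩
        have h1 := pow_card_eq_one' (x := (⟨z, hz⟩ : Z))
        rw [hZ] at h1
        exact congrArg (fun t : Z => ((t : R) : H ⧸ omega hc)) h1
      · rw [card_map_of_injective R.subtype_injective, hZ]
        exact hsmall
    exact map_injective R.subtype_injective ((key X hX).trans (key Y hY).symm)
  haveI : IsMulCommutative Q :=
    MonoidHom.isMulCommutative_of_isCyclic_of_ker_le_center (f.subgroupMap Q) fun k hk =>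
      mem_center_iff.2 fun g => Subtype.ext (by
        have h1 : f (k : H) = 1 := congrArg Subtype.val hk
        obtain ⟨h2, h3⟩ := (QuotientGroup.eq_one_iff _).1 h1
        exact (hc k h2 h3 g g.2).eq)
  have hcop : (Nat.card (zpowers h)).Coprime (Nat.card Q) := by
    obtain ⟨k, hk⟩ := hQ.exists_card_eq
    rw [Nat.card_zpowers, hk]
    exact ho.pow_right k
  have hmem : x ∈ (Q ⊓ centralizer (zpowers h : Set H)) ⊓ ⁅Q, zpowers h⁆ := by
    refine ⟨⟨hxQ, mem_centralizer_iff.2 fun z hz => ?_⟩, hQh.symm ▸ hxQ⟩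
    obtain ⟨i, rfl⟩ := mem_zpowers_iff.1 hz
    exact (hhx.zpow_left i).eq
  rw [Coprime.inf_centralizer_inf_commutator (normalizer_eq_top Q ▸ le_top) hcop, mem_bot] at hmem
  exact hx1 hmem

/-- A fixed element of order `p` is not in the commutator with a `p'`-element. -/
theorem not_mem_commutator {H : Type u} [Group H] [Finite H] (hp : p ≠ 2) {P : Subgroup H} (hP : IsPGroup p P)
    (hc : PCentral p P) (hΩ : Nat.card (omega hc) ≤ p ^ 2) {h x : H} (ho : (orderOf h).Coprime p)
    (hh : h ∈ normalizer (P : Set H)) (hxp : x ^ p = 1) (hx1 : x ≠ 1) (hhx : Commute h x) :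
    x ∉ ⁅P, zpowers h⁆ := by
  intro hxQ
  set Q := ⁅P, zpowers h⁆ with hQdef
  have hQP : Q ≤ P := Coprime.commutator_le_of_le_normalizer (zpowers_le.2 hh)
  have hcop : (Nat.card (zpowers h)).Coprime (Nat.card P) := by
    obtain ⟨k, hk⟩ := hP.exists_card_eq
    rw [Nat.card_zpowers, hk]
    exact ho.pow_right k
  have hQQ : ⁅Q, zpowers h⁆ = Q := Coprime.commutator_commutator_eq (zpowers_le.2 hh) hcop
    (Or.inr (Coprime.isSolvable_of_isPGroup hP))
  set N := normalizer (Q : Set H)
  have hhN : h ∈ N := zpowers_le.1 (normalizer_commutator_ge_right P (zpowers h))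
  set Q' := Q.subgroupOf N
  haveI : Q'.Normal := normal_in_normalizer
  have hc' : PCentral p Q' := fun e he hep g hg => Subtype.ext
    (hc e (hQP he) (congrArg Subtype.val hep) g (hQP hg)).eq
  refine no_fixed_aux hp _ N Q' rfl (hP.to_le hQP).comap_subtype hc' ?_ ⟨h, hhN⟩
    (by rwa [orderOf_mk]) ?_ ⟨x, le_normalizer hxQ⟩ hxQ (Subtype.ext hxp)
    (fun e => hx1 (congrArg Subtype.val e)) (Subtype.ext hhx.eq)
  · refine le_trans ?_ hΩ
    refine Nat.card_le_card_of_injective
      (fun e : omega hc' => (⟨((e : N) : H), hQP e.2.1, congrArg Subtype.val e.2.2⟩ : omega hc))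
      fun a b e => ?_
    have e' := congrArg Subtype.val e
    exact Subtype.ext (Subtype.ext e')
  · apply map_injective N.subtype_injective
    rw [map_commutator, MonoidHom.map_zpowers, map_subgroupOf_eq_of_le le_normalizer]
    exact hQQ

end Cfsg.Agent.IsolatedRank
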