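import Cfsg.Agent.Lib.IsolatedRank.NoOutside
import Cfsg.Agent.Lib.IsolatedRank.PCentral
import Cfsg.Agent.Lib.PGroups.UniqueSubgroup

/-!
No perfect group has a frame whose outside element of order `p` centralizes more of `C_P(w)` than `⟨x⟩`.
-/

set_option autoImplicit false

namespace Cfsg.Agent.IsolatedRank

open Subgroup Cfsg.Agent.CharP
open scoped commutatorElement

variable {K : Type*} [Group K] {p : ℕ} [Fact p.Prime] {P : Subgroup K} {x w : K}

omit [Fact p.Prime] in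
/-- Iterated conjugation by `u`, when the second difference is fixed. -/
theorem conj_pow_iterate {u v b z : K} (hv : u * v * u⁻¹ = v * b) (hb : u * b * u⁻¹ = b * z)
    (hz : Commute u z) (hbz : Commute b z) :
    ∀ n : ℕ, u ^ n * v * (u ^ n)⁻¹ = v * b ^ n * z ^ n.choose 2 := by
  intro n
  induction n with
  | zero => simp
  | succ n ih =>
    calc u ^ (n + 1) * v * (u ^ (n + 1))⁻¹ = u * (u ^ n * v * (u ^ n)⁻¹) * u⁻¹ := by rw [pow_succ']; group
      _ = u * v * u⁻¹ * (u * b ^ n * u⁻¹) * (u * z ^ n.choose 2 * u⁻¹) := by rw [ih]; group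
      _ = v * b * (b ^ n * z ^ n) * z ^ n.choose 2 := by
        rw [hv, ← conj_pow (i := n), hb, hbz.mul_pow, (hz.pow_right _).eq, mul_inv_cancel_right]
      _ = v * b ^ (n + 1) * z ^ (n + n.choose 2) := by rw [pow_succ' b, pow_add]; group
      _ = _ := by rw [Nat.choose_succ_succ, Nat.choose_one_right]

theorem Frame.pcentral (F : Frame p P x w) : PCentral p (cA P w) := by
  intro e he hep g hg
  obtain ⟨i, j, rfl⟩ := F.omega e he.1 (mem_cA.1 he).2 hep
  exact ((mem_cA.1 hg).2.zpow_right i).mul_right ((F.central g hg.1).zpow_right j)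

variable [Finite K]

/-- In `A = C_P(w)` the elements with `v ^ (p ^ 2) = 1` lie in `⟨w₀, w, x⟩`. -/
theorem Frame.exists_form_sq (F : Frame p P x w) (hp : p ≠ 2) {u w0 : K} (hu : u ∈ P) (huA : u ∉ cA P w)
    (hup : u ^ p = 1) (hw0 : w0 ∈ cA P w) (hw0u : Commute u w0) {d : ℤ} (hd : w0 ^ p = x ^ d)
    (hd' : ¬ (p : ℤ) ∣ d) {v : K} (hv : v ∈ cA P w) (hvp : (v ^ p) ^ p = 1) :
    ∃ k : ℤ, ∃ e ∈ cA P w, e ^ p = 1 ∧ v = w0 ^ k * e := by
  have hA : IsPGroup p (cA P w) := F.pgrp.to_le inf_le_left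
  have hpp : p.Prime := Fact.out
  obtain ⟨e, f, hef⟩ := F.omega _ (_root_.pow_mem hv.1 p) ((mem_cA.1 hv).2.pow_left p) hvp
  obtain ⟨c, hc⟩ := F.move u hu
  have hc' : ¬ (p : ℤ) ∣ c := fun hd => huA (mem_cA.2 ⟨hu, conj_eq_iff.1 (by
    rw [hc, zpow_eq_one_of_dvd F.pow_x hd, mul_one])⟩)
  obtain ⟨a1, a2, hab⟩ := ((Nat.prime_iff_prime_int).1 hpp).coprime_iff_not_dvd.2 hd'
  have hwx : Commute w x := F.central w F.mem_w
  -- absorb a power of `w₀`
  have absorb : ∀ (b : K) (m : ℤ), b ∈ cA P w → b ^ p = x ^ m →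
      ∃ k : ℤ, ∃ e ∈ cA P w, e ^ p = 1 ∧ b = w0 ^ k * e := by
    intro b m hb hbp
    refine ⟨a2 * m, (w0 ^ (a2 * m))⁻¹ * b, mul_mem (inv_mem (zpow_mem hw0 _)) hb, ?_, by group⟩
    have h1 : (w0 ^ (a2 * m)) ^ p = x ^ (d * (a2 * m)) := by
      rw [← zpow_natCast, ← zpow_mul, mul_comm (a2 * m), zpow_mul, zpow_natCast, hd, ← zpow_mul]
    have h2 := F.pcentral.mul_pow hp hA (inv_mem (zpow_mem hw0 (a2 * m))) hb (by
      rw [inv_pow, inv_pow, h1, ← zpow_natCast, ← zpow_mul, zpow_eq_one_of_dvd F.pow_x (dvd_mul_left _ _), inv_one])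
    rw [h2, inv_pow, h1, hbp, ← zpow_neg, ← zpow_add]
    exact zpow_eq_one_of_dvd F.pow_x ⟨a1 * m, by linear_combination (-m) * hab⟩
  by_cases he : (p : ℤ) ∣ e
  · exact absorb v f hv (by rw [hef, zpow_eq_one_of_dvd F.pow_w he, one_mul])
  exfalso
  set b := v⁻¹ * (u * v * u⁻¹) with hb
  have hbA : b ∈ cA P w := mul_mem (inv_mem hv) (F.conj_mem hu hv)
  have hbp : b ^ p = x ^ (c * e) := by
    rw [hb, F.pcentral.mul_pow hp hA (inv_mem hv) (F.conj_mem hu hv) (by rw [inv_pow, inv_pow, hvp, inv_one]),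
      inv_pow, conj_pow, hef, ← conj_mul, ← conj_zpow, ← conj_zpow, hc, (hwx.zpow_right c).mul_zpow, ← zpow_mul,
      (F.central u hu).eq, mul_inv_cancel_right, mul_inv_rev, mul_assoc, ← mul_assoc ((w ^ e)⁻¹), ← mul_assoc ((w ^ e)⁻¹),
      inv_mul_cancel, one_mul, ← zpow_neg, ← zpow_add, ← zpow_add]
    congr 1
    ring
  obtain ⟨k, e', he', he'p, hbe⟩ := absorb b (c * e) hbA hbp
  obtain ⟨i, j, rfl⟩ := F.omega e' he'.1 (mem_cA.1 he').2 he'p
  have hz : u * b * u⁻¹ = b * x ^ (c * i) := by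
    have hu0 : u * w0 ^ k * u⁻¹ = w0 ^ k := mul_inv_eq_iff_eq_mul.2 (hw0u.zpow_right k).eq
    rw [hbe, ← conj_mul, hu0, ← conj_mul, ← conj_zpow, ← conj_zpow, hc, (hwx.zpow_right c).mul_zpow, ← zpow_mul,
      (F.central u hu).eq, mul_inv_cancel_right, mul_assoc (w0 ^ k), mul_assoc (w ^ i), mul_assoc (w ^ i), ← zpow_add, ← zpow_add,
      add_comm (c * i)]
  have hit := conj_pow_iterate (show u * v * u⁻¹ = v * b by rw [hb]; group) hz ((F.central u hu).zpow_right _)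
    ((F.central b hbA.1).zpow_right _) p
  obtain ⟨m, hm⟩ := hpp.dvd_choose_self two_ne_zero (lt_of_le_of_ne hpp.two_le (Ne.symm hp))
  rw [hup, one_mul, inv_one, mul_one, hm, pow_mul, ← zpow_natCast (x ^ (c * i)), ← zpow_mul,
    zpow_eq_one_of_dvd F.pow_x (dvd_mul_left _ _), one_pow, mul_one, left_eq_mul, hbp] at hit
  rcases Int.Prime.dvd_mul' hpp (F.eq_one_of_zpow hit) with h | h
  · exact hc' h
  · exact he h

variable {u w0 : K} {d : ℤ}

/-- `C_P(w)` is abelian. -/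
theorem Frame.cA_comm (F : Frame p P x w) (hp : p ≠ 2) (hu : u ∈ P) (huA : u ∉ cA P w)
    (hup : u ^ p = 1) (hw0 : w0 ∈ cA P w) (hw0u : Commute u w0) (hd : w0 ^ p = x ^ d)
    (hd' : ¬ (p : ℤ) ∣ d) : ∀ a ∈ cA P w, ∀ b ∈ cA P w, Commute a b := by
  set A := cA P w
  set Ω := IsolatedRank.omega F.pcentral
  set Ω' := Ω.subgroupOf A
  have hcen : Ω' ≤ Subgroup.center A := fun e he => mem_center_iff.2 fun g => Subtype.ext
    (F.pcentral _ e.2 he.2 g g.2).eq
  haveI : Ω'.Normal := ⟨fun e he g => by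
    rw [mem_center_iff.1 (hcen he) g, mul_inv_cancel_right]
    exact he⟩
  set f := QuotientGroup.mk' Ω'
  have hA : IsPGroup p A := F.pgrp.to_le inf_le_left
  have hf1 : ∀ v : A, f v = 1 → ((v : K) ^ p) = 1 := fun v h => ((QuotientGroup.eq_one_iff v).1 h).2
  have hw0p : f ⟨w0, hw0⟩ ^ p = 1 := by
    rw [← map_pow]
    refine (QuotientGroup.eq_one_iff _).2 (mem_subgroupOf.2 ⟨_root_.pow_mem hw0 p, ?_⟩)
    rw [Subgroup.coe_pow, hd, ← zpow_natCast, ← zpow_mul, zpow_eq_one_of_dvd F.pow_x (dvd_mul_left _ _)]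
  have hkey : ∀ q : A ⧸ Ω', q ^ p = 1 → q ∈ zpowers (f ⟨w0, hw0⟩) := by
    intro q hq
    obtain ⟨v, rfl⟩ := QuotientGroup.mk'_surjective Ω' q
    have h1 : ((v ^ p : A) : K) ^ p = 1 := hf1 _ (by rw [map_pow]; exact hq)
    obtain ⟨k, e, he, hep, hve⟩ := F.exists_form_sq hp hu huA hup hw0 hw0u hd hd' v.2 (by simpa using h1)
    refine ⟨k, ?_⟩
    show f ⟨w0, hw0⟩ ^ k = f v
    rw [show v = ⟨w0, hw0⟩ ^ k * ⟨e, he⟩ from Subtype.ext hve, map_mul, map_zpow,
      show f ⟨e, he⟩ = 1 from (QuotientGroup.eq_one_iff _).2 ⟨he, hep⟩, mul_one]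
  haveI : IsCyclic (A ⧸ Ω') := by
    refine (PGroups.UniqueSubgroup.isCyclic_or_quaternion (hA.to_quotient _) fun X Y hX hY => ?_).resolve_right
      fun e => hp e.1
    have key : ∀ Z : Subgroup (A ⧸ Ω'), Nat.card Z = p → Z = zpowers (f ⟨w0, hw0⟩) := by
      intro Z hZ
      refine eq_of_le_of_card_ge (fun z hz => hkey z ?_) ?_
      · have h1 := pow_card_eq_one' (x := (⟨z, hz⟩ : Z))
        rw [hZ] at h1
        exact congrArg Subtype.val h1
      · rw [hZ, Nat.card_zpowers]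
        exact Nat.le_of_dvd (Fact.out : p.Prime).pos (orderOf_dvd_of_pow_eq_one hw0p)
    exact (key X hX).trans (key Y hY).symm
  haveI : IsMulCommutative A := MonoidHom.isMulCommutative_of_isCyclic_of_ker_le_center f (by
    rw [QuotientGroup.ker_mk']; exact hcen)
  exact fun a ha b hb => congrArg Subtype.val (mul_comm' (⟨a, ha⟩ : A) ⟨b, hb⟩)

/-- `u` moves the elements of `C_P(w)` inside their cosets of `⟨w, x⟩`. -/
theorem Frame.conj_u (F : Frame p P x w) (hp : p ≠ 2) (hu : u ∈ P) (huA : u ∉ cA P w)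
    (hup : u ^ p = 1) (hw0 : w0 ∈ cA P w) (hw0u : Commute u w0) (hd : w0 ^ p = x ^ d)
    (hd' : ¬ (p : ℤ) ∣ d) {a : K} (ha : a ∈ cA P w) : (a⁻¹ * (u * a * u⁻¹)) ^ p = 1 := by
  have hpp : p.Prime := Fact.out
  have hAc := F.cA_comm hp hu huA hup hw0 hw0u hd hd'
  induction hn : orderOf a using Nat.strongRecOn generalizing a with
  | ind n ih =>
    subst hn
    by_cases ha1 : a = 1
    · rw [ha1]; group
    set b := a⁻¹ * (u * a * u⁻¹) with hb
    have hbA : b ∈ cA P w := mul_mem (inv_mem ha) (F.conj_mem hu ha)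
    have hbp : b ^ p = (a ^ p)⁻¹ * (u * a ^ p * u⁻¹) := by
      rw [hb, (hAc _ (inv_mem ha) _ (F.conj_mem hu ha)).mul_pow, inv_pow, conj_pow]
    obtain ⟨m, hm⟩ := IsPGroup.iff_orderOf.1 F.pgrp ⟨a, ha.1⟩
    rw [orderOf_mk] at hm
    have hm1 : 1 ≤ m := by
      rcases Nat.eq_zero_or_pos m with h0 | h0
      · exact absurd (orderOf_eq_one_iff.1 (by rw [hm, h0, pow_zero])) ha1
      · exact h0
    have hlt : orderOf (a ^ p) < orderOf a := by
      rw [orderOf_pow_of_dvd hpp.ne_zero (by rw [hm]; exact dvd_pow_self p (by omega))]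
      exact Nat.div_lt_self (orderOf_pos a) hpp.one_lt
    have h1 := ih _ hlt (_root_.pow_mem ha p) rfl
    rw [← hbp] at h1
    obtain ⟨k, e, he, hep, hbe⟩ := F.exists_form_sq hp hu huA hup hw0 hw0u hd hd' hbA h1
    obtain ⟨i, j, rfl⟩ := F.omega e he.1 (mem_cA.1 he).2 hep
    obtain ⟨c, hc⟩ := F.move u hu
    have hz : u * b * u⁻¹ = b * x ^ (c * i) := by
      have hu0 : u * w0 ^ k * u⁻¹ = w0 ^ k := mul_inv_eq_iff_eq_mul.2 (hw0u.zpow_right k).eq
      have hwx : Commute w x := F.central w F.mem_w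
      rw [hbe, ← conj_mul, hu0, ← conj_mul, ← conj_zpow, ← conj_zpow, hc, (hwx.zpow_right c).mul_zpow, ← zpow_mul,
        (F.central u hu).eq, mul_inv_cancel_right, mul_assoc (w0 ^ k), mul_assoc (w ^ i), mul_assoc (w ^ i), ← zpow_add, ← zpow_add,
        add_comm (c * i)]
    have hit := conj_pow_iterate (show u * a * u⁻¹ = a * b by rw [hb]; group) hz ((F.central u hu).zpow_right _)
      ((F.central b hbA.1).zpow_right _) p
    obtain ⟨m', hm'⟩ := hpp.dvd_choose_self two_ne_zero (lt_of_le_of_ne hpp.two_le (Ne.symm hp))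
    rw [hup, one_mul, inv_one, mul_one, hm', pow_mul, ← zpow_natCast (x ^ (c * i)), ← zpow_mul,
      zpow_eq_one_of_dvd F.pow_x (dvd_mul_left _ _), one_pow, mul_one, left_eq_mul] at hit
    exact hit

/-- The subgroup generated by `u`, `w` and `x`, as the solutions of `e ^ p = 1`; it contains the derived
subgroup, and the solutions of `e ^ p ∈ C` lie in `C⟨w₀⟩`. -/
theorem Frame.exists_omega_subgroup (F : Frame p P x w) (hp : p ≠ 2) (hu : u ∈ P) (huA : u ∉ cA P w)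
    (hup : u ^ p = 1) (hw0 : w0 ∈ cA P w) (hw0u : Commute u w0) (hd : w0 ^ p = x ^ d)
    (hd' : ¬ (p : ℤ) ∣ d) :
    ∃ C : Subgroup K, (∀ e, e ∈ C ↔ e ∈ P ∧ e ^ p = 1) ∧ (∀ a ∈ P, ∀ b ∈ P, ⁅a, b⁆ ∈ C) ∧
      ∀ e ∈ P, e ^ p ∈ C → ∃ k : ℤ, (w0 ^ k)⁻¹ * e ∈ C := by
  have hpp : p.Prime := Fact.out
  have hAc := F.cA_comm hp hu huA hup hw0 hw0u hd hd'
  have hwx : Commute w x := F.central w F.mem_w
  haveI hn : ((IsolatedRank.omega F.pcentral).subgroupOf P).Normal := ⟨fun e he g => by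
    obtain ⟨heA, hep⟩ := mem_subgroupOf.1 he
    exact mem_subgroupOf.2 ⟨F.conj_mem g.2 heA, by push_cast; rw [conj_pow, hep, mul_one, mul_inv_cancel]⟩⟩
  set f := QuotientGroup.mk' ((IsolatedRank.omega F.pcentral).subgroupOf P) with hf
  have hfx : ∀ a ∈ cA P w, ∀ ha : a ∈ P, Commute (f ⟨u, hu⟩) (f ⟨a, ha⟩) := by
    intro a ha haP
    rw [← commutatorElement_eq_one_iff_commute, ← map_commutatorElement]
    refine (QuotientGroup.eq_one_iff _).2 (mem_subgroupOf.2 ⟨F.commutator_mem hu haP, ?_⟩)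
    have h1 := F.conj_u hp hu huA hup hw0 hw0u hd hd' ha
    show (u * a * u⁻¹ * a⁻¹) ^ p = 1
    rw [show u * a * u⁻¹ * a⁻¹ = a * (a⁻¹ * (u * a * u⁻¹)) * a⁻¹ by group, conj_pow, h1, mul_one, mul_inv_cancel]
  have hfc : ∀ g g' : P, Commute (f g) (f g') := by
    have hsplit : ∀ g : P, ∃ (k : ℕ) (a : P), (a : K) ∈ cA P w ∧ g = ⟨u, hu⟩ ^ k * a := fun g => by
      obtain ⟨k, hk⟩ := F.exists_pow_mul hu huA g.2
      exact ⟨k, ⟨_, hk.1⟩, hk, Subtype.ext (by push_cast; group)⟩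
    intro g g'
    obtain ⟨k, a, ha, rfl⟩ := hsplit g
    obtain ⟨l, b, hb, rfl⟩ := hsplit g'
    rw [map_mul, map_mul, map_pow, map_pow]
    have hua := hfx a ha a.2
    have hub := hfx b hb b.2
    refine Commute.mul_left (Commute.mul_right ((Commute.refl _).pow_pow k l) (hub.pow_left k))
      (Commute.mul_right (hua.symm.pow_right l) ?_)
    exact (show Commute a b from Subtype.ext (hAc a ha b hb).eq).map f
  have hkill : ∀ g : P, f g = 1 ↔ (g : K) ∈ cA P w ∧ (g : K) ^ p = 1 := fun g =>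
    (QuotientGroup.eq_one_iff g).trans Iff.rfl
  have hder : ∀ a ∈ P, ∀ b ∈ P, ⁅a, b⁆ ∈ cA P w ∧ ⁅a, b⁆ ^ p = 1 := fun a ha b hb => by
    have h1 : f ⁅(⟨a, ha⟩ : P), ⟨b, hb⟩⁆ = 1 := by
      rw [map_commutatorElement, commutatorElement_eq_one_iff_commute]
      exact hfc _ _
    exact (hkill _).1 h1
  -- the elements `u ^ k e` have order dividing `p`
  have hpow : ∀ (k : ℕ) e, e ∈ cA P w → e ^ p = 1 → (u ^ k * e) ^ p = 1 := by
    intro k e he hep
    obtain ⟨i, j, rfl⟩ := F.omega e he.1 (mem_cA.1 he).2 hep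
    obtain ⟨c, hc⟩ := F.move u hu
    have h1 : u ^ k * w ^ i * (u ^ k)⁻¹ = w ^ i * x ^ ((k : ℤ) * c * i) := by
      rw [← conj_zpow, F.pow_move hu hc k, (hwx.zpow_right _).mul_zpow, ← zpow_mul]
    have h2 : u ^ k * (w ^ i * x ^ j) = w ^ i * x ^ j * (u ^ k) * x ^ ((k : ℤ) * c * i) := by
      calc u ^ k * (w ^ i * x ^ j) = u ^ k * w ^ i * (u ^ k)⁻¹ * (u ^ k * x ^ j) := by group
        _ = w ^ i * x ^ j * (u ^ k * x ^ ((k : ℤ) * c * i)) := by
          rw [h1, ((F.central _ (_root_.pow_mem hu k)).zpow_right j).eq,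
            ((F.central _ (_root_.pow_mem hu k)).zpow_right ((k : ℤ) * c * i)).eq]
          group
        _ = _ := (mul_assoc _ _ _).symm
    obtain ⟨m, hm⟩ := hpp.dvd_choose_self two_ne_zero (lt_of_le_of_ne hpp.two_le (Ne.symm hp))
    have h3 := Coprime.OmegaDetect.mul_pow_central h2
      ((F.central _ (_root_.pow_mem hu k)).zpow_right _).symm ((F.central _ he.1).zpow_right _).symm p
    rw [hm, ← pow_mul u, mul_comm k p, pow_mul u, hup, one_pow, mul_one, hep, one_mul, pow_mul,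
      ← zpow_natCast (x ^ _), ← zpow_mul, zpow_eq_one_of_dvd F.pow_x (dvd_mul_left _ _), one_pow] at h3
    have h4 : u ^ k * (w ^ i * x ^ j) =
        u ^ k * ((w ^ i * x ^ j) * u ^ k) * (u ^ k)⁻¹ := by group
    rw [h4, conj_pow, h3, mul_one, mul_inv_cancel]
  have hform : ∀ g : P, f g ^ p = 1 →
      ∃ (k : ℕ) (l : ℤ), ∃ e ∈ cA P w, e ^ p = 1 ∧ (g : K) = w0 ^ l * (u ^ k * e) := by
    intro g hg
    obtain ⟨k, hk⟩ := F.exists_pow_mul hu huA g.2
    set a := (u ^ k)⁻¹ * (g : K) with ha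
    have hga : g = ⟨u, hu⟩ ^ k * ⟨a, hk.1⟩ := Subtype.ext (by push_cast; rw [ha]; group)
    rw [hga, map_mul, (hfc _ _).mul_pow, ← map_pow, ← map_pow, ← pow_mul, mul_comm k p, pow_mul,
      show (⟨u, hu⟩ : P) ^ p = 1 from Subtype.ext hup, one_pow, map_one, one_mul] at hg
    obtain ⟨l, e, he, hep, hle⟩ := F.exists_form_sq hp hu huA hup hw0 hw0u hd hd' hk (by
      simpa using ((hkill _).1 hg).2)
    refine ⟨k, l, e, he, hep, ?_⟩
    rw [← mul_assoc, ← ((hw0u.pow_left k).zpow_right l).eq, mul_assoc, ← hle, ha]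
    group
  have hmem : ∀ g : P, (g : K) ^ p = 1 → ∃ (k : ℕ), ∃ e ∈ cA P w, e ^ p = 1 ∧ (g : K) = u ^ k * e := by
    intro g hg
    have hg' : f g ^ p = 1 := by
      rw [← map_pow, show g ^ p = 1 from Subtype.ext hg, map_one]
    obtain ⟨k, l, e, he, hep, hge⟩ := hform g hg'
    have hcm : Commute (w0 ^ l) (u ^ k * e) := ((hw0u.pow_left k).symm.mul_right (hAc w0 hw0 e he)).zpow_left l
    have h1 : x ^ (d * l) = 1 := by
      rw [hge, hcm.mul_pow, hpow k e he hep, mul_one, ← zpow_natCast, ← zpow_mul, mul_comm l, zpow_mul,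
        zpow_natCast, hd, ← zpow_mul] at hg
      exact hg
    obtain ⟨l', hl'⟩ := (Int.Prime.dvd_mul' hpp (F.eq_one_of_zpow h1)).resolve_left hd'
    refine ⟨k, x ^ (d * l') * e, mul_mem (mem_cA.2 ⟨zpow_mem F.mem_x _, (hwx.symm.zpow_left _)⟩) he, ?_, ?_⟩
    · rw [((F.central e he.1).zpow_right _).symm.mul_pow, hep, mul_one, ← zpow_natCast, ← zpow_mul,
        zpow_eq_one_of_dvd F.pow_x (dvd_mul_left _ _)]
    · rw [hge, hl', zpow_mul, zpow_natCast, hd, ← zpow_mul, ← mul_assoc, ← mul_assoc,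
        ((F.central _ (_root_.pow_mem hu k)).zpow_right _).eq]
  let C : Subgroup K :=
    { carrier := {e | e ∈ P ∧ e ^ p = 1}
      one_mem' := ⟨one_mem _, one_pow p⟩
      inv_mem' := fun {a} ha => ⟨inv_mem ha.1, by rw [inv_pow, ha.2, inv_one]⟩
      mul_mem' := fun {a b} ha hb => ⟨mul_mem ha.1 hb.1, by
        obtain ⟨k, e, he, hep, rfl⟩ : ∃ (k : ℕ), ∃ e ∈ cA P w, e ^ p = 1 ∧ a = u ^ k * e := hmem ⟨a, ha.1⟩ ha.2
        obtain ⟨l, e', he', he'p, rfl⟩ : ∃ (k : ℕ), ∃ e ∈ cA P w, e ^ p = 1 ∧ b = u ^ k * e := hmem ⟨b, hb.1⟩ hb.2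
        have hconj : (u ^ l)⁻¹ * e * u ^ l ∈ cA P w := by
          simpa using F.conj_mem (inv_mem (_root_.pow_mem hu l)) he
        have hconjp : ((u ^ l)⁻¹ * e * u ^ l) ^ p = 1 := by
          have := conj_pow (i := p) (a := (u ^ l)⁻¹) (b := e)
          rwa [inv_inv, hep, mul_one, inv_mul_cancel] at this
        rw [show u ^ k * e * (u ^ l * e') = u ^ (k + l) * ((u ^ l)⁻¹ * e * u ^ l * e') by rw [pow_add]; group]
        refine hpow _ _ (mul_mem hconj he') ?_
        rw [(hAc _ hconj _ he').mul_pow, hconjp, he'p, one_mul]⟩ }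
  refine ⟨C, fun e => Iff.rfl, fun a ha b hb => ⟨(hder a ha b hb).1.1, (hder a ha b hb).2⟩, fun e he hep => ?_⟩
  have h0 : f (⟨e, he⟩ : P) ^ p = 1 := by
    obtain ⟨k, e', he', he'p, hee⟩ : ∃ (k : ℕ), ∃ e' ∈ cA P w, e' ^ p = 1 ∧ e ^ p = u ^ k * e' :=
      hmem ⟨e ^ p, _root_.pow_mem he p⟩ hep.2
    have hkA : u ^ k ∈ cA P w := by
      have : u ^ k = e ^ p * e'⁻¹ := by rw [hee, mul_inv_cancel_right]
      rw [this]
      exact mul_mem (F.pow_mem he) (inv_mem he')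
    rw [← map_pow]
    refine (hkill _).2 ⟨F.pow_mem he, ?_⟩
    show (e ^ p) ^ p = 1
    exact hep.2
  obtain ⟨k, l, e', he', he'p, hee⟩ := hform ⟨e, he⟩ h0
  refine ⟨l, ?_⟩
  show _ ∈ P ∧ _
  have : (w0 ^ l)⁻¹ * e = u ^ k * e' := by
    rw [show e = w0 ^ l * (u ^ k * e') from hee]; group
  rw [this]
  exact ⟨mul_mem (_root_.pow_mem hu k) he'.1, hpow k e' he' he'p⟩

theorem big_false (hp : p ≠ 2) (hperf : commutator K = ⊤) {x w : K} (hiso : Cfsg.IsIsolated x)
    (S : Sylow p K) (F : Frame p (S : Subgroup K) x w) {u a : K} (hu : u ∈ (S : Subgroup K))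
    (huA : u ∉ cA (S : Subgroup K) w) (hup : u ^ p = 1) (ha : a ∈ cA (S : Subgroup K) w) (hua : Commute u a)
    (hax : a ∉ zpowers x) : False := by
  have hpp : p.Prime := Fact.out
  obtain ⟨w0, d, hw0, hw0u, hd, hd'⟩ : ∃ (w0 : K) (d : ℤ), w0 ∈ cA (S : Subgroup K) w ∧ Commute u w0 ∧
      w0 ^ p = x ^ d ∧ ¬ (p : ℤ) ∣ d := by
    obtain ⟨m, hm⟩ := IsPGroup.iff_orderOf.1 S.2 ⟨a, ha.1⟩
    rw [orderOf_mk] at hm
    have hm2 : 2 ≤ m := by
      by_contra h
      refine hax (F.mem_zpowers_of_commute hu huA ha ?_ hua)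
      exact orderOf_dvd_iff_pow_eq_one.1 (by rw [hm]; exact (pow_dvd_pow p (by omega : m ≤ 1)).trans (pow_one p).dvd)
    obtain ⟨n, rfl⟩ : ∃ n, m = n + 2 := ⟨m - 2, by omega⟩
    have hp2 : (a ^ p ^ n) ^ p = a ^ p ^ (n + 1) := by rw [← pow_mul, ← pow_succ]
    have h1 : a ^ p ^ (n + 1) ∈ zpowers x := by
      refine F.mem_zpowers_of_commute hu huA (_root_.pow_mem ha _) ?_ (hua.pow_right _)
      rw [← pow_mul, ← pow_succ, ← hm, pow_orderOf_eq_one]
    obtain ⟨d, hd⟩ := mem_zpowers_iff.1 h1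
    refine ⟨a ^ p ^ n, d, _root_.pow_mem ha _, hua.pow_right _, by rw [hp2, hd], fun hdd => ?_⟩
    have h2 : orderOf a ∣ p ^ (n + 1) :=
      orderOf_dvd_iff_pow_eq_one.2 (by rw [← hd, zpow_eq_one_of_dvd F.pow_x hdd])
    rw [hm] at h2
    have := (Nat.pow_dvd_pow_iff_le_right hpp.one_lt).1 h2
    omega
  have hAc := F.cA_comm hp hu huA hup hw0 hw0u hd hd'
  have hwx : Commute w x := F.central w F.mem_w
  have hw0z : ∀ g ∈ (S : Subgroup K), Commute g w0 := fun g hg => by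
    obtain ⟨k, hk⟩ := F.exists_pow_mul hu huA hg
    have h1 := (hw0u.pow_left k).mul_left (hAc _ hk w0 hw0)
    rwa [mul_inv_cancel_left] at h1
  obtain ⟨C, hC, hder, hroot⟩ := F.exists_omega_subgroup hp hu huA hup hw0 hw0u hd hd'
  have hCS : C ≤ (S : Subgroup K) := fun e he => ((hC e).1 he).1
  have hxC : x ∈ C := (hC x).2 ⟨F.mem_x, F.pow_x⟩
  have hwC : w ∈ C := (hC w).2 ⟨F.mem_w, F.pow_w⟩
  have hw0C : w0 ∉ C := fun h => by
    have h1 := ((hC w0).1 h).2
    rw [hd] at h1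
    exact hd' (F.eq_one_of_zpow h1)
  -- an element fixing `w₀` acts trivially modulo `C`
  have htriv : ∀ E : Subgroup K, E ≤ (S : Subgroup K) → ∀ h ∈ Subgroup.normalizer (E : Set K),
      (orderOf h).Coprime p → Commute h w0 → Inv C E h := by
    intro E hE h hh ho hhw e he
    have main : ∀ e ∈ E, e⁻¹ * (h * e * h⁻¹) ∈ C := by
      intro e he
      induction hn : orderOf e using Nat.strongRecOn generalizing e with
      | ind n ih =>
        subst hn
        by_cases he1 : e = 1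
        · rw [he1]; simp
        have heS := hE he
        have heh : h * e * h⁻¹ ∈ E := (mem_normalizer_iff.1 hh e).1 he
        haveI hCn : (C.subgroupOf (S : Subgroup K)).Normal := ⟨fun c hc g => by
          rw [mem_subgroupOf] at hc ⊢
          have h1 := mul_mem (hder g g.2 c c.2) hc
          convert h1 using 1
          push_cast
          rw [commutatorElement_def]
          group⟩
        set f := QuotientGroup.mk' (C.subgroupOf (S : Subgroup K))
        have hfc : ∀ g g', Commute (f g) (f g') := fun g g' => by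
          rw [← commutatorElement_eq_one_iff_commute, ← map_commutatorElement]
          exact (QuotientGroup.eq_one_iff _).2 (hder g g.2 g' g'.2)
        set D : (S : Subgroup K) := ⟨e⁻¹ * (h * e * h⁻¹), mul_mem (inv_mem heS) (hE heh)⟩ with hD
        obtain ⟨m, hm⟩ := IsPGroup.iff_orderOf.1 S.2 ⟨e, heS⟩
        rw [orderOf_mk] at hm
        have hm0 : m ≠ 0 := fun h0 => he1 (orderOf_eq_one_iff.1 (by rw [hm, h0, pow_zero]))
        have hlt : orderOf (e ^ p) < orderOf e := by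
          rw [orderOf_pow_of_dvd hpp.ne_zero (by rw [hm]; exact dvd_pow_self p hm0)]
          exact Nat.div_lt_self (orderOf_pos e) hpp.one_lt
        have h1 := ih _ hlt (e ^ p) (_root_.pow_mem he p) rfl
        have h2 : (D : K) ^ p ∈ C := by
          have : f (D ^ p) = 1 := by
            have e1 : D = ⟨e, heS⟩⁻¹ * ⟨h * e * h⁻¹, hE heh⟩ := rfl
            rw [map_pow, e1, map_mul, (hfc _ _).mul_pow, map_inv, inv_pow, ← map_pow, ← map_pow, ← map_inv, ← map_mul]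
            refine (QuotientGroup.eq_one_iff _).2 (mem_subgroupOf.2 ?_)
            push_cast
            rwa [conj_pow]
          exact mem_subgroupOf.1 ((QuotientGroup.eq_one_iff _).1 this)
        obtain ⟨l, hl⟩ := hroot _ D.2 h2
        set c := (w0 ^ l)⁻¹ * (D : K) with hc
        have hstep : h * e * h⁻¹ = e * w0 ^ l * c := by rw [hc, hD]; group
        have hCh : ∀ g ∈ C, ∀ k : ℕ, h ^ k * g * (h ^ k)⁻¹ ∈ (S : Subgroup K) → h ^ k * g * (h ^ k)⁻¹ ∈ C :=
          fun g hg k hgS => (hC _).2 ⟨hgS, by rw [conj_pow, ((hC g).1 hg).2, mul_one, mul_inv_cancel]⟩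
        have hiter : ∀ k : ℕ, (e * w0 ^ (l * (k : ℤ)))⁻¹ * (h ^ k * e * (h ^ k)⁻¹) ∈ C := by
          intro k
          induction k with
          | zero => simp
          | succ k ihk =>
            have hEk : ∀ k : ℕ, h ^ k * e * (h ^ k)⁻¹ ∈ (S : Subgroup K) := fun k =>
              hE ((mem_normalizer_iff.1 (_root_.pow_mem hh k) e).1 he)
            set r := (e * w0 ^ (l * (k : ℤ)))⁻¹ * (h ^ k * e * (h ^ k)⁻¹) with hr
            have hk1 : h ^ (k + 1) * e * (h ^ (k + 1))⁻¹ = h * e * h⁻¹ * w0 ^ (l * (k : ℤ)) * (h * r * h⁻¹) := by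
              calc h ^ (k + 1) * e * (h ^ (k + 1))⁻¹ = h * (h ^ k * e * (h ^ k)⁻¹) * h⁻¹ := by rw [pow_succ']; group
                _ = h * e * h⁻¹ * (h * w0 ^ (l * (k : ℤ)) * h⁻¹) * (h * r * h⁻¹) := by rw [hr]; group
                _ = _ := by rw [(hhw.zpow_right _).eq, mul_inv_cancel_right]
            have hrS : h * r * h⁻¹ ∈ (S : Subgroup K) := by
              have : h * r * h⁻¹ = (h * e * h⁻¹ * w0 ^ (l * (k : ℤ)))⁻¹ * (h ^ (k + 1) * e * (h ^ (k + 1))⁻¹) := by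
                rw [hk1]; group
              rw [this]
              exact mul_mem (inv_mem (mul_mem (hE heh) (zpow_mem (show w0 ∈ (S : Subgroup K) from hw0.1) _))) (hEk _)
            have hrC : h * r * h⁻¹ ∈ C := by
              have := hCh r ihk 1 (by rwa [pow_one])
              rwa [pow_one] at this
            have hcm : Commute c (w0 ^ (l * (k : ℤ))) := (hw0z c (hCS hl)).zpow_right _
            have : (e * w0 ^ (l * ((k + 1 : ℕ) : ℤ)))⁻¹ * (h ^ (k + 1) * e * (h ^ (k + 1))⁻¹) = c * (h * r * h⁻¹) := by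
              rw [hk1, hstep, mul_assoc (e * w0 ^ l) c, hcm.eq]
              push_cast
              rw [mul_add, mul_one, zpow_add]
              group
            rw [this]
            exact mul_mem hl hrC
        have h3 := hiter (orderOf h)
        rw [pow_orderOf_eq_one, one_mul, inv_one, mul_one, mul_inv_rev, inv_mul_cancel_right] at h3
        have h4 := ((hC _).1 h3).2
        rw [inv_pow, inv_eq_one, ← zpow_natCast, ← zpow_mul, mul_comm, zpow_mul, zpow_natCast, hd, ← zpow_mul] at h4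
        have hno : ¬ (p : ℤ) ∣ (orderOf h : ℤ) := fun h' =>
          hpp.coprime_iff_not_dvd.1 (Nat.Coprime.symm ho) (Int.natCast_dvd_natCast.1 h')
        have hdl : (p : ℤ) ∣ l := ((Int.Prime.dvd_mul' hpp (F.eq_one_of_zpow h4)).resolve_left hd' |>
          Int.Prime.dvd_mul' hpp).resolve_right hno
        obtain ⟨l', rfl⟩ := hdl
        have hwl : w0 ^ ((p : ℤ) * l') ∈ C := by
          rw [zpow_mul, zpow_natCast, hd, ← zpow_mul]
          exact zpow_mem hxC _
        have hfin := mul_mem hwl hl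
        rw [hc, mul_inv_cancel_left] at hfin
        exact hfin
    have he' : h⁻¹ * e * h ∈ E := by simpa using (mem_normalizer_iff.1 (inv_mem hh) e).1 he
    have := inv_mem (main _ he')
    convert this using 1
    group
  -- the centre fixes `w₀`
  have hfixw0 : ∀ E : Subgroup K, E ≤ (S : Subgroup K) → x ∈ E → w ∈ E → w0 ∈ E →
      ∀ v ∈ E, v ∉ cA (S : Subgroup K) w → ∀ h ∈ Subgroup.normalizer (E : Set K),
      (orderOf h).Coprime p → Commute h w0 := by
    intro E hE hxE hwE hw0E v hv hvA h hh ho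
    have hhx : Commute h x := mul_inv_eq_iff_eq_mul.1
      (isolated_eq_of_pgroup hiso (S.2.to_le hE) hxE ((mem_normalizer_iff.1 hh x).1 hxE))
    have hcen := centralizes_of_unique hp (S.2.to_le (inf_le_left.trans hE)) (C := E ⊓ centralizer (E : Set K)) ho
      (inf_normalizer_le_normalizer_inf ⟨hh, normalizer_le_normalizer_centralizer _ hh⟩) hhx
      fun b hb hbp => F.mem_zpowers_of_commute (hE hv) hvA
        (mem_cA.2 ⟨hE hb.1, (hb.2 w hwE).symm⟩) hbp (hb.2 v hv)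
    exact (hcen w0 ⟨hw0E, fun g hg => (hw0z g (hE hg)).eq⟩).symm
  have h := reduce hperf S (F := C) (fun a ha b hb => by
      have h := hder _ (inv_mem ha) _ (inv_mem hb)
      convert h using 1
      rw [commutatorElement_def]
      group) (fun h hh ho => ?_) fun E hE hne ih => ?_
  · exact hw0C (h hw0.1)
  · exact htriv _ le_rfl h hh ho (hfixw0 _ le_rfl F.mem_x F.mem_w hw0.1 u hu huA h hh ho)
  · by_cases hbig : (S : Subgroup K) ⊓ centralizer (E : Set K) ≤ E
    swap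
    · exact step_centralizer hE ih hbig
    have hxE : x ∈ E := hbig ⟨F.mem_x, fun e he => (F.central e (hE.le he)).eq⟩
    have hw0E : w0 ∈ E := hbig ⟨hw0.1, fun e he => (hw0z e (hE.le he)).eq⟩
    by_cases huni : ∀ a ∈ E, a ^ p = 1 → ∀ g ∈ (S : Subgroup K) ⊓ Subgroup.normalizer (E : Set K),
        g * a * g⁻¹ * a⁻¹ ∈ zpowers x
    · exact step_unipotent hp F.pow_x hiso hE hne ih hxE huni
    push Not at huni
    obtain ⟨v, hv, hvp, g, ⟨hg, hgE⟩, hgv⟩ := huni
    have hvA : v ∉ cA (S : Subgroup K) w := fun hA =>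
      hgv (F.move_omega (hE.le hv) (mem_cA.1 hA).2 hvp hg)
    have hdE : g * v * g⁻¹ * v⁻¹ ∈ E := mul_mem ((mem_normalizer_iff.1 hgE v).1 hv) (inv_mem hv)
    obtain ⟨i, j, hij⟩ := F.omega _ (hE.le hdE) (mem_cA.1 (F.commutator_mem hg (hE.le hv))).2
      ((hC _).1 (hder g hg v (hE.le hv))).2
    have hi : ¬ (p : ℤ) ∣ i := fun hd' => hgv (by
      rw [hij, zpow_eq_one_of_dvd F.pow_w hd', one_mul]
      exact ⟨j, rfl⟩)
    have hwi : w ^ i ∈ E := by
      rw [show w ^ i = g * v * g⁻¹ * v⁻¹ * (x ^ j)⁻¹ by rw [hij, mul_inv_cancel_right]]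
      exact mul_mem hdE (inv_mem (zpow_mem hxE _))
    have hwE : w ∈ E := by
      obtain ⟨c, d', hcd⟩ := ((Nat.prime_iff_prime_int).1 hpp).coprime_iff_not_dvd.2 hi
      have h1 := zpow_mem hwi d'
      rwa [← zpow_mul, show i * d' = 1 - c * (p : ℤ) by linear_combination hcd, zpow_sub, zpow_one,
        zpow_eq_one_of_dvd F.pow_w (dvd_mul_left _ _), inv_one, mul_one] at h1
    intro n hn
    have hT : IsSylIn p ((S : Subgroup K) ⊓ Subgroup.normalizer (E : Set K)) (Subgroup.normalizer (E : Set K)) := hE.syl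
    have hle : Subgroup.normalizer (E : Set K) ≤ invSub C E := le_of_sylow_of_coprime hT
      (fun t ht => ⟨ht.2, fun e he => by
        have h := hder _ (inv_mem (hE.le he)) _ (inv_mem ht.1)
        convert h using 1
        rw [commutatorElement_def]
        group⟩)
      fun h hh ho => ⟨hh, htriv E hE.le h hh ho (hfixw0 E hE.le hxE hwE hw0E v hv hvA h hh ho)⟩
    exact (hle hn).2

end Cfsg.Agent.IsolatedRank
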