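import Cfsg.Agent.Lib.IsolatedRank.Fusion

/-!
A `p`-group `P` with a central element `x` of order `p` and an element `w` of order `p`, moved by `P`
inside `w⟨x⟩`, such that the elements of order `p` commuting with `w` lie in `⟨w, x⟩`.
-/

set_option autoImplicit false

namespace Cfsg.Agent.IsolatedRank

open Subgroup
open scoped commutatorElement

variable {K : Type*} [Group K] {p : ℕ} [Fact p.Prime]

/-- The data. -/
structure Frame (p : ℕ) (P : Subgroup K) (x w : K) : Prop where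
  pgrp : IsPGroup p P
  mem_x : x ∈ P
  pow_x : x ^ p = 1
  x_ne : x ≠ 1
  central : ∀ g ∈ P, Commute g x
  mem_w : w ∈ P
  pow_w : w ^ p = 1
  w_not : w ∉ zpowers x
  move : ∀ g ∈ P, ∃ i : ℤ, g * w * g⁻¹ = w * x ^ i
  nc : ∃ g ∈ P, g * w * g⁻¹ ≠ w
  omega : ∀ a ∈ P, Commute a w → a ^ p = 1 → ∃ i j : ℤ, a = w ^ i * x ^ j

/-- The centralizer of `w` in `P`. -/
def cA (P : Subgroup K) (w : K) : Subgroup K := P ⊓ centralizer ({w} : Set K)

theorem mem_cA {P : Subgroup K} {w a : K} : a ∈ cA P w ↔ a ∈ P ∧ Commute a w := by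
  rw [cA, mem_inf, mem_centralizer_singleton_iff]
  exact Iff.rfl

variable {P : Subgroup K} {x w : K}

omit [Fact p.Prime] in
theorem conj_eq_iff {g : K} : g * w * g⁻¹ = w ↔ Commute g w := mul_inv_eq_iff_eq_mul

theorem Frame.eq_one_of_zpow (F : Frame p P x w) {i : ℤ} (h : x ^ i = 1) : (p : ℤ) ∣ i := by
  have := orderOf_dvd_iff_zpow_eq_one.2 h
  rwa [orderOf_eq_prime F.pow_x F.x_ne] at this

theorem zpow_eq_one_of_dvd {a : K} (ha : a ^ p = 1) {i : ℤ} (h : (p : ℤ) ∣ i) : a ^ i = 1 := by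
  obtain ⟨k, rfl⟩ := h
  rw [zpow_mul, zpow_natCast, ha, one_zpow]

omit [Fact p.Prime] in
/-- Two elements act alike on `w` exactly when they differ by an element of the centralizer. -/
theorem conj_w_eq_iff {a b : K} : a * w * a⁻¹ = b * w * b⁻¹ ↔ Commute (b⁻¹ * a) w := by
  rw [← conj_eq_iff]
  constructor
  · intro h
    calc b⁻¹ * a * w * (b⁻¹ * a)⁻¹ = b⁻¹ * (a * w * a⁻¹) * b := by group
      _ = w := by rw [h]; group
  · intro h
    calc a * w * a⁻¹ = b * (b⁻¹ * a * w * (b⁻¹ * a)⁻¹) * b⁻¹ := by group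
      _ = _ := by rw [h]

theorem Frame.mul_move (F : Frame p P x w) {a b : K} (ha : a ∈ P) {i j : ℤ} (hi : a * w * a⁻¹ = w * x ^ i)
    (hj : b * w * b⁻¹ = w * x ^ j) : a * b * w * (a * b)⁻¹ = w * x ^ (i + j) := by
  calc a * b * w * (a * b)⁻¹ = a * (b * w * b⁻¹) * a⁻¹ := by group
    _ = a * w * a⁻¹ * (a * x ^ j * a⁻¹) := by rw [hj]; group
    _ = w * x ^ i * x ^ j := by rw [hi, ((F.central a ha).zpow_right j).eq, mul_inv_cancel_right]
    _ = _ := by rw [mul_assoc, ← zpow_add]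

theorem Frame.cA_le (_F : Frame p P x w) : cA P w ≤ P := inf_le_left

theorem Frame.commutator_mem (F : Frame p P x w) {a b : K} (ha : a ∈ P) (hb : b ∈ P) : ⁅a, b⁆ ∈ cA P w := by
  have hP : ⁅a, b⁆ ∈ P := by
    rw [commutatorElement_def]
    exact mul_mem (mul_mem (mul_mem ha hb) (inv_mem ha)) (inv_mem hb)
  refine mem_cA.2 ⟨hP, ?_⟩
  obtain ⟨i, hi⟩ := F.move a ha
  obtain ⟨j, hj⟩ := F.move b hb
  obtain ⟨i', hi'⟩ := F.move a⁻¹ (inv_mem ha)
  obtain ⟨j', hj'⟩ := F.move b⁻¹ (inv_mem hb)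
  have h1 := F.mul_move (inv_mem ha) hi' hi
  have h2 := F.mul_move (inv_mem hb) hj' hj
  rw [inv_mul_cancel, one_mul, inv_one, mul_one, left_eq_mul] at h1 h2
  rw [← conj_eq_iff, commutatorElement_def,
    F.mul_move (mul_mem (mul_mem ha hb) (inv_mem ha)) (F.mul_move (mul_mem ha hb) (F.mul_move ha hi hj) hi') hj',
    show i + j + i' + j' = (i' + i) + (j' + j) by ring, zpow_add, h1, h2, one_mul, mul_one]

theorem Frame.conj_mem (F : Frame p P x w) {g a : K} (hg : g ∈ P) (ha : a ∈ cA P w) : g * a * g⁻¹ ∈ cA P w := by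
  have h := mul_mem (F.commutator_mem hg ha.1) ha
  convert h using 1
  rw [commutatorElement_def]
  group

theorem Frame.pow_move (F : Frame p P x w) {g : K} (hg : g ∈ P) {i : ℤ} (hi : g * w * g⁻¹ = w * x ^ i) :
    ∀ k : ℕ, g ^ k * w * (g ^ k)⁻¹ = w * x ^ ((k : ℤ) * i) := by
  intro k
  induction k with
  | zero => simp
  | succ k ih =>
    rw [pow_succ, F.mul_move (pow_mem hg k) ih hi]
    push_cast
    rw [add_mul, one_mul]

theorem Frame.pow_mem (F : Frame p P x w) {g : K} (hg : g ∈ P) : g ^ p ∈ cA P w := by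
  obtain ⟨i, hi⟩ := F.move g hg
  refine mem_cA.2 ⟨_root_.pow_mem hg p, ?_⟩
  rw [← conj_eq_iff, F.pow_move hg hi, zpow_eq_one_of_dvd F.pow_x (dvd_mul_right _ _), mul_one]

/-- Every element of `P` is a power of `u` times an element of `C_P(w)`, if `u` moves `w`. -/
theorem Frame.exists_pow_mul (F : Frame p P x w) {u g : K} (hu : u ∈ P) (huA : u ∉ cA P w) (hg : g ∈ P) :
    ∃ k : ℕ, (u ^ k)⁻¹ * g ∈ cA P w := by
  obtain ⟨a, ha⟩ := F.move u hu
  obtain ⟨b, hb⟩ := F.move g hg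
  have hna : ¬ (p : ℤ) ∣ a := fun hd => huA (mem_cA.2 ⟨hu, conj_eq_iff.1 (by
    rw [ha, zpow_eq_one_of_dvd F.pow_x hd, mul_one])⟩)
  obtain ⟨c, d, hcd⟩ := ((Nat.prime_iff_prime_int).1 (Fact.out : p.Prime)).coprime_iff_not_dvd.2 hna
  refine ⟨((b * d) % (p : ℤ)).toNat, mem_cA.2 ⟨mul_mem (inv_mem (_root_.pow_mem hu _)) hg, conj_w_eq_iff.1 ?_⟩⟩
  have hp0 : (p : ℤ) ≠ 0 := by exact_mod_cast (Fact.out : p.Prime).ne_zero
  rw [hb, F.pow_move hu ha, Int.toNat_of_nonneg (Int.emod_nonneg _ hp0), mul_right_inj,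
    ← mul_inv_eq_one, ← zpow_neg, ← zpow_add]
  refine zpow_eq_one_of_dvd F.pow_x ⟨b * c + (b * d) / (p : ℤ) * a, ?_⟩
  have := Int.emod_add_mul_ediv (b * d) (p : ℤ)
  linear_combination (-b) * hcd - a * this

/-- An element moving `w` commutes with no element of order `p` of `C_P(w)` outside `⟨x⟩`. -/
theorem Frame.mem_zpowers_of_commute (F : Frame p P x w) {u a : K} (hu : u ∈ P) (huA : u ∉ cA P w)
    (ha : a ∈ cA P w) (hap : a ^ p = 1) (hua : Commute u a) : a ∈ zpowers x := by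
  obtain ⟨i, j, rfl⟩ := F.omega a ha.1 (mem_cA.1 ha).2 hap
  obtain ⟨c, hc⟩ := F.move u hu
  have hui : Commute u (w ^ i) := by
    simpa using hua.mul_right ((F.central u hu).zpow_right (-j))
  have h1 : u * w ^ i * u⁻¹ = w ^ i := mul_inv_eq_iff_eq_mul.2 hui.eq
  rw [← conj_zpow, hc, ((F.central w F.mem_w).zpow_right c).mul_zpow, mul_eq_left, ← zpow_mul] at h1
  rcases Int.Prime.dvd_mul' (Fact.out : p.Prime) (F.eq_one_of_zpow h1) with hd | hd
  · exact absurd (mem_cA.2 ⟨hu, conj_eq_iff.1 (by rw [hc, zpow_eq_one_of_dvd F.pow_x hd, mul_one])⟩) huA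
  · rw [zpow_eq_one_of_dvd F.pow_w hd, one_mul]
    exact ⟨j, rfl⟩

variable [Finite K]

/-- A `p'`-element fixing `w` modulo `⟨x⟩` fixes it. -/
theorem Frame.commute_w (F : Frame p P x w) {h : K} (ho : (orderOf h).Coprime p) (hhx : Commute h x) {j : ℤ}
    (hw : h * w * h⁻¹ = w * x ^ j) : Commute h w := by
  have hd : h * w * h⁻¹ * w⁻¹ = x ^ j := by
    rw [hw, ((F.central w F.mem_w).zpow_right j).eq, mul_inv_cancel_right]
  refine Coprime.OmegaDetect.eq_one_of_fix (by rw [hd]; exact hhx.zpow_right j) ?_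
  exact Coprime.OmegaDetect.coprime_of_mem F.pgrp ho (hd ▸ zpow_mem F.mem_x j)

/-- A `p'`-element fixing `x` and `w` centralizes each subgroup of `P` it normalizes. -/
theorem Frame.centralizes (F : Frame p P x w) (hp : p ≠ 2) {E : Subgroup K} (hE : E ≤ P) {h : K}
    (ho : (orderOf h).Coprime p) (hh : h ∈ normalizer (E : Set K)) (hhx : Commute h x) (hhw : Commute h w) :
    h ∈ centralizer (E : Set K) := by
  set D := E ⊓ centralizer ({w} : Set K)
  have hcw : h ∈ normalizer ((centralizer ({w} : Set K) : Subgroup K) : Set K) :=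
    le_normalizer (mem_centralizer_singleton_iff.2 hhw.eq)
  have hD : h ∈ centralizer (D : Set K) := by
    refine Coprime.OmegaDetect.mem_centralizer_of_fix ho (F.pgrp.to_le (inf_le_left.trans hE))
      (inf_normalizer_le_normalizer_inf ⟨hh, hcw⟩) fun a ha hap => ?_
    rcases hap with hap | ⟨h2, -⟩
    · obtain ⟨i, j, rfl⟩ := F.omega a (hE ha.1) (mem_centralizer_singleton_iff.1 ha.2) hap
      exact ((hhw.zpow_right i).mul_right (hhx.zpow_right j)).eq
    · exact absurd h2 hp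
  refine Coprime.OmegaDetect.centralizes_of_commutators (F.pgrp.to_le hE) ho hh (fun e he => ?_) hD
  refine ⟨E.mul_mem ((mem_normalizer_iff.1 hh e).1 he) (E.inv_mem he), mem_centralizer_singleton_iff.2 ?_⟩
  obtain ⟨i, hi⟩ := F.move e (hE he)
  obtain ⟨i', hi'⟩ := F.move e⁻¹ (inv_mem (hE he))
  have h1 : h * e * h⁻¹ * w * (h * e * h⁻¹)⁻¹ = e * w * e⁻¹ := by
    calc h * e * h⁻¹ * w * (h * e * h⁻¹)⁻¹ = h * (e * (h⁻¹ * w * h) * e⁻¹) * h⁻¹ := by group
      _ = h * (w * x ^ i) * h⁻¹ := by rw [hhw.inv_left.eq, inv_mul_cancel_right, hi]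
      _ = e * w * e⁻¹ := by rw [((hhw.mul_right (hhx.zpow_right i))).eq, mul_inv_cancel_right, hi]
  have h2 := conj_w_eq_iff.1 h1
  have h3 := conj_eq_iff.2 h2
  refine (conj_eq_iff.1 ?_).eq
  calc h * e * h⁻¹ * e⁻¹ * w * (h * e * h⁻¹ * e⁻¹)⁻¹
      = h * e * h⁻¹ * (e⁻¹ * w * e⁻¹⁻¹) * (h * e * h⁻¹)⁻¹ := by group
    _ = h * e * h⁻¹ * w * (h * e * h⁻¹)⁻¹ * (h * e * h⁻¹ * x ^ i' * (h * e * h⁻¹)⁻¹) := by rw [hi']; group
    _ = w * x ^ i * x ^ i' := by
      rw [h1, hi, ((F.central _ (hE ((mem_normalizer_iff.1 hh e).1 he))).zpow_right i').eq, mul_inv_cancel_right]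
    _ = w := by
      have h4 := F.mul_move (inv_mem (hE he)) hi' hi
      rw [inv_mul_cancel, one_mul, inv_one, mul_one, left_eq_mul] at h4
      rw [mul_assoc, ← zpow_add, add_comm, h4, mul_one]

/-- If a `p'`-element fixing `x` normalizes `⟨w, x⟩` and the coset of an element moving `w`, it fixes `w`. -/
theorem Frame.commute_of_coset (F : Frame p P x w) {h u : K} (ho : (orderOf h).Coprime p) (hhx : Commute h x)
    (hu : u ∈ P) (huA : u ∉ cA P w) {i j : ℤ} (hw : h * w * h⁻¹ = w ^ i * x ^ j)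
    (hsame : h * u * h⁻¹ * w * (h * u * h⁻¹)⁻¹ = u * w * u⁻¹) : Commute h w := by
  obtain ⟨c, hc⟩ := F.move u hu
  set v := h * u * h⁻¹ with hv
  have hvx : v * x * v⁻¹ = x := by
    have e1 : h⁻¹ * x * h = x := by rw [hhx.inv_left.eq, inv_mul_cancel_right]
    calc v * x * v⁻¹ = h * (u * (h⁻¹ * x * h) * u⁻¹) * h⁻¹ := by rw [hv]; group
      _ = x := by rw [e1, (F.central u hu).eq, mul_inv_cancel_right, hhx.eq, mul_inv_cancel_right]
  -- conjugate the relation `u w u⁻¹ = w x ^ c`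
  have h1 : v * (w ^ i * x ^ j) * v⁻¹ = w ^ i * x ^ j * x ^ c := by
    rw [← hw]
    calc v * (h * w * h⁻¹) * v⁻¹ = h * (u * w * u⁻¹) * h⁻¹ := by rw [hv]; group
      _ = h * w * h⁻¹ * (h * x ^ c * h⁻¹) := by rw [hc]; group
      _ = _ := by rw [(hhx.zpow_right c).eq, mul_inv_cancel_right]
  rw [← conj_mul, ← conj_zpow, ← conj_zpow, hsame, hvx, hc,
    ((F.central w F.mem_w).zpow_right c).mul_zpow, ← zpow_mul, mul_assoc, mul_assoc, mul_right_inj,
    ← zpow_add, ← zpow_add, ← mul_inv_eq_one, ← zpow_neg, ← zpow_add,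
    show c * i + j + -(j + c) = c * (i - 1) by ring] at h1
  rcases Int.Prime.dvd_mul' (Fact.out : p.Prime) (F.eq_one_of_zpow h1) with hd | hd
  · exact absurd (mem_cA.2 ⟨hu, conj_eq_iff.1 (by rw [hc, zpow_eq_one_of_dvd F.pow_x hd, mul_one])⟩) huA
  · refine F.commute_w ho hhx (j := j) ?_
    rw [hw, show w ^ i = w by
      rw [← sub_add_cancel i 1, zpow_add_one, zpow_eq_one_of_dvd F.pow_w hd, one_mul]]

/-- A `p'`-element fixing `x` fixes every `p`-subgroup whose elements of order `p` are powers of `x`. -/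
theorem centralizes_of_unique (hp : p ≠ 2) {C : Subgroup K} (hC : IsPGroup p C) {h : K}
    (ho : (orderOf h).Coprime p) (hh : h ∈ normalizer (C : Set K)) (hhx : Commute h x)
    (hu : ∀ a ∈ C, a ^ p = 1 → a ∈ zpowers x) : h ∈ centralizer (C : Set K) := by
  refine Coprime.OmegaDetect.mem_centralizer_of_fix ho hC hh fun a ha hap => ?_
  rcases hap with hap | ⟨h2, -⟩
  · obtain ⟨i, rfl⟩ := hu a ha hap
    exact (hhx.zpow_right i).eq
  · exact absurd h2 hp

end Cfsg.Agent.IsolatedRank
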