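import Cfsg.Agent.Lib.IsolatedRank.Fusion
import Cfsg.Agent.Lib.IsolatedRank.PCentral
import Cfsg.Agent.Lib.IsolatedRank.Frame
import Cfsg.Agent.Techniques.IsolatedRankTwo
import Mathlib

/-!
No perfect group of `p`-rank at most two has an isolated element of order `p` in a Sylow subgroup all
of whose elements of order `p` are central.
-/

set_option autoImplicit false

namespace Cfsg.Agent.IsolatedRank

open Subgroup Cfsg.Agent.CharP
open scoped commutatorElement

variable {K : Type*} [Group K] [Finite K] {p : ℕ} [Fact p.Prime]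

omit [Fact p.Prime] in
theorem card_omega_le (hrank : Cfsg.PRankLE p 2 K) {Q : Subgroup K} (hc : PCentral p Q) :
    Nat.card (omega hc) ≤ p ^ 2 :=
  hrank _ ⟨⟨fun a b => Subtype.ext (hc b b.2.1 b.2.2 a a.2.1).eq⟩⟩ fun _ ha => ha.2

/-- The commutator form of the fusion relation. -/
theorem inv_eq_commutator {K : Type*} [Group K] (d h : K) : d⁻¹ * (h⁻¹ * d * h) = ⁅d⁻¹, h⁻¹⁆ := by
  rw [commutatorElement_def]
  group

theorem central_false (hp : p ≠ 2) (hperf : commutator K = ⊤) (hrank : Cfsg.PRankLE p 2 K) {x : K}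
    (hiso : Cfsg.IsIsolated x) (hxp : x ^ p = 1) (hx1 : x ≠ 1) (P : Sylow p K) (hxP : x ∈ (P : Subgroup K))
    (hc : PCentral p (P : Subgroup K)) : False := by
  classical
  have hnorm : ∀ n ∈ Subgroup.normalizer ((P : Subgroup K) : Set K), Commute n x := fun n hn =>
    mul_inv_eq_iff_eq_mul.1 (isolated_eq_of_pgroup hiso P.2 hxP ((mem_normalizer_iff.1 hn x).1 hxP))
  have hPne : (P : Subgroup K) ≠ ⊥ := fun e => hx1 (mem_bot.1 (e ▸ hxP))
  have hkey : ∀ F E : Subgroup K,
      Techniques.Alperin.Basic.FullyNormalized p (P : Subgroup K) E → E ≠ (P : Subgroup K) →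
      IH P F E → ∀ n ∈ Subgroup.normalizer (E : Set K), Inv F E n := by
    intro F E hE hne ih
    by_cases hxE : x ∈ E
    · refine step_unipotent hp hxp hiso hE hne ih hxE fun a ha hap g hg => ?_
      rw [(hc a (hE.le ha) hap g hg.1).eq, mul_inv_cancel_right, mul_inv_cancel]
      exact one_mem _
    · refine step_centralizer hE ih fun hle => hxE (hle ⟨hxP, fun e he => ?_⟩)
      exact (hc x hxP hxp e (hE.le he)).eq
  have hFP : ∀ F : Subgroup K, ⁅(P : Subgroup K), (P : Subgroup K)⁆ ≤ F →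
      (∀ h ∈ Subgroup.normalizer ((P : Subgroup K) : Set K), (orderOf h).Coprime p → Inv F (P : Subgroup K) h) →
      (P : Subgroup K) ≤ F := fun F hF hP => reduce hperf P (fun a ha b hb => by
    rw [inv_eq_commutator]
    exact hF (commutator_mem_commutator (inv_mem ha) (inv_mem hb))) hP (hkey F)
  by_cases hall : ∀ h ∈ Subgroup.normalizer ((P : Subgroup K) : Set K), (orderOf h).Coprime p →
      h ∈ centralizer ((P : Subgroup K) : Set K)
  · have h := hFP _ le_rfl fun h hh ho d hd => by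
      rw [mul_assoc h⁻¹, ((hall h hh ho) d hd), inv_mul_cancel_left, inv_mul_cancel]
      exact one_mem _
    exact Transfer.Frobenius.not_le_commutator_self P.2 hPne h
  push Not at hall
  obtain ⟨h1, hh1, ho1, hh1c⟩ := hall
  obtain ⟨w, hwP, hwp, hhw⟩ : ∃ w ∈ (P : Subgroup K), w ^ p = 1 ∧ h1 * w ≠ w * h1 := by
    by_contra hno
    push Not at hno
    refine hh1c (Coprime.OmegaDetect.mem_centralizer_of_fix ho1 P.2 hh1 fun a ha hap => ?_)
    rcases hap with hap | ⟨h2, -⟩
    · exact hno a ha hap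
    · exact absurd h2 hp
  have hwx : w ∉ zpowers x := fun hw => hhw (by
    obtain ⟨i, rfl⟩ := mem_zpowers_iff.1 hw
    exact ((hnorm h1 hh1).zpow_right i).eq)
  have hΩ : ∀ a ∈ (P : Subgroup K), a ^ p = 1 → ∃ i j : ℤ, a = w ^ i * x ^ j := by
    intro a ha hap
    obtain ⟨s, hs, t, ht, rfl⟩ := Techniques.IsolatedRankTwo.exists_mul_eq hrank hwp hxp hap
      (hc w hwP hwp x hxP).symm (hc w hwP hwp a ha).symm (hc x hxP hxp a ha).symm hx1 hwx
    obtain ⟨i, rfl⟩ := mem_zpowers_iff.1 hs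
    obtain ⟨j, rfl⟩ := mem_zpowers_iff.1 ht
    exact ⟨i, j, rfl⟩
  have huniq : ∀ i j i' j' : ℤ, w ^ i * x ^ j = w ^ i' * x ^ j' → (i : ZMod p) = i' := by
    intro i j i' j' e
    have h0 : w ^ (i - i') = x ^ (j' - j) := by
      calc w ^ (i - i') = (w ^ i')⁻¹ * (w ^ i * x ^ j) * (x ^ j)⁻¹ := by group
        _ = (w ^ i')⁻¹ * (w ^ i' * x ^ j') * (x ^ j)⁻¹ := by rw [e]
        _ = _ := by group
    rw [ZMod.intCast_eq_intCast_iff_dvd_sub]
    by_contra hd
    obtain ⟨c, d, hcd⟩ := ((Nat.prime_iff_prime_int).1 (Fact.out : p.Prime)).coprime_iff_not_dvd.2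
      (fun h => hd (dvd_sub_comm.1 h) : ¬ (p : ℤ) ∣ (i - i'))
    refine hwx ⟨(j' - j) * d, ?_⟩
    show x ^ ((j' - j) * d) = w
    rw [zpow_mul, ← h0, ← zpow_mul, show (i - i') * d = 1 - c * (p : ℤ) by linear_combination hcd,
      zpow_sub, zpow_one, zpow_eq_one_of_dvd hwp (dvd_mul_left _ _), inv_one, mul_one]
  set N := Subgroup.normalizer ((P : Subgroup K) : Set K)
  have hex : ∀ n : N, ∃ i j : ℤ, (n : K) * w * (n : K)⁻¹ = w ^ i * x ^ j := fun n =>
    hΩ _ ((mem_normalizer_iff.1 n.2 w).1 hwP) (by rw [conj_pow, hwp, mul_one, mul_inv_cancel])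
  choose li lj hl using hex
  let L : N →* ZMod p :=
    { toFun := fun n => (li n : ZMod p)
      map_one' := by
        have := huniq (li 1) (lj 1) 1 0 (by rw [← hl]; simp)
        simpa using this
      map_mul' := fun m n => by
        have h1 : ((m * n : N) : K) * w * ((m * n : N) : K)⁻¹ =
            w ^ (li m * li n) * x ^ (lj m * li n + lj n) := by
          calc ((m * n : N) : K) * w * ((m * n : N) : K)⁻¹
              = (m : K) * ((n : K) * w * (n : K)⁻¹) * (m : K)⁻¹ := by push_cast; group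
            _ = ((m : K) * w * (m : K)⁻¹) ^ li n * ((m : K) * x ^ lj n * (m : K)⁻¹) := by
              rw [hl n, conj_zpow]; group
            _ = _ := by
              rw [hl m, ((hnorm m m.2).zpow_right _).eq, mul_inv_cancel_right,
                ((hc w hwP hwp x hxP).symm.zpow_zpow _ _).mul_zpow, ← zpow_mul, ← zpow_mul, mul_assoc, ← zpow_add]
        rw [hl] at h1
        rw [huniq _ _ _ _ h1, Int.cast_mul] }
  obtain ⟨⟨_, n0, rfl⟩, hn0⟩ := IsCyclic.exists_generator (α := L.toHomUnits.range)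
  obtain ⟨a, m, hm, hord⟩ := Nat.exists_eq_pow_mul_and_not_dvd (orderOf_pos n0).ne' p (Fact.out : p.Prime).ne_one
  set h0 := n0 ^ p ^ a
  have ho0 : (orderOf (h0 : K)).Coprime p := by
    rw [Subgroup.orderOf_coe, orderOf_pow_of_dvd (pow_ne_zero _ (Fact.out : p.Prime).ne_zero)
      (by rw [hord]; exact dvd_mul_right _ _), hord, Nat.mul_div_cancel_left _ (pow_pos (Fact.out : p.Prime).pos _)]
    exact ((Fact.out : p.Prime).coprime_iff_not_dvd.2 hm).symm
  have hL0 : L.toHomUnits h0 = L.toHomUnits n0 := by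
    refine Units.ext ?_
    simp only [h0, map_pow, Units.val_pow_eq_pow_val]
    exact ZMod.pow_card_pow _
  set F := ⁅(P : Subgroup K), (P : Subgroup K)⁆ ⊔ ⁅(P : Subgroup K), zpowers (h0 : K)⁆
  have hh0 : (h0 : K) ∈ invSub F (P : Subgroup K) := ⟨h0.2, fun d hd => by
    rw [inv_eq_commutator]
    exact mem_sup_right (commutator_mem_commutator (inv_mem hd) (inv_mem (mem_zpowers _)))⟩
  have hker : L.ker.map N.subtype ≤ invSub F (P : Subgroup K) := by
    have hPker : (P : Subgroup K) ≤ L.ker.map N.subtype := fun t ht => by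
      refine ⟨⟨t, le_normalizer ht⟩, ?_, rfl⟩
      have hmem : ((⟨t, le_normalizer ht⟩ : N) : K) * w * ((⟨t, le_normalizer ht⟩ : N) : K)⁻¹ = w ^ (1 : ℤ) * x ^ (0 : ℤ) := by
        rw [zpow_one, zpow_zero, mul_one]
        exact mul_inv_eq_iff_eq_mul.2 (hc w hwP hwp t ht).eq
      rw [hl] at hmem
      rw [SetLike.mem_coe, MonoidHom.mem_ker]
      show (li _ : ZMod p) = 1
      rw [huniq _ _ _ _ hmem, Int.cast_one]
    have hT : IsSylIn p (P : Subgroup K) (L.ker.map N.subtype) :=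
      isSylIn_of_not_dvd P.2 hPker fun hd => P.not_dvd_index (hd.trans (relIndex_dvd_index_of_le hPker))
    refine le_of_sylow_of_coprime hT (fun t ht => ⟨le_normalizer ht, fun d hd => ?_⟩) fun h hh ho => ?_
    · rw [inv_eq_commutator]
      exact mem_sup_left (commutator_mem_commutator (inv_mem hd) (inv_mem ht))
    obtain ⟨n, hn, rfl⟩ := hh
    have hdvd : (p : ℤ) ∣ li n - 1 := by
      have h1 : (li n : ZMod p) = ((1 : ℤ) : ZMod p) := by rw [Int.cast_one]; exact MonoidHom.mem_ker.1 hn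
      exact dvd_sub_comm.1 ((ZMod.intCast_eq_intCast_iff_dvd_sub _ _ _).1 h1)
    have hw1 : (n : K) * w * (n : K)⁻¹ = w * x ^ lj n := by
      rw [hl, show w ^ li n = w by
        rw [← sub_add_cancel (li n) 1, zpow_add_one, zpow_eq_one_of_dvd hwp hdvd, one_mul]]
    have hcw : Commute (n : K) w := by
      have hd : (n : K) * w * (n : K)⁻¹ * w⁻¹ = x ^ lj n := by
        rw [hw1, ((hc w hwP hwp x hxP).symm.zpow_right _).eq, mul_inv_cancel_right]
      refine Coprime.OmegaDetect.eq_one_of_fix (by rw [hd]; exact (hnorm n n.2).zpow_right _) ?_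
      exact Coprime.OmegaDetect.coprime_of_mem P.2 ho (hd ▸ zpow_mem hxP _)
    have hcen : (n : K) ∈ centralizer ((P : Subgroup K) : Set K) := by
      refine Coprime.OmegaDetect.mem_centralizer_of_fix ho P.2 n.2 fun e he hep => ?_
      rcases hep with hep | ⟨h2, -⟩
      · obtain ⟨i, j, rfl⟩ := hΩ e he hep
        exact ((hcw.zpow_right i).mul_right ((hnorm n n.2).zpow_right j)).eq
      · exact absurd h2 hp
    refine ⟨n.2, fun d hd => ?_⟩
    show d⁻¹ * ((n : K)⁻¹ * d * (n : K)) ∈ F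
    rw [mul_assoc (n : K)⁻¹, hcen d hd, inv_mul_cancel_left, inv_mul_cancel]
    exact one_mem _
  have hle := hFP F le_sup_left fun h hh _ => by
    obtain ⟨k, hk⟩ := mem_zpowers_iff.1 (hn0 ⟨L.toHomUnits ⟨h, hh⟩, _, rfl⟩)
    have hk' : L.toHomUnits n0 ^ k = L.toHomUnits ⟨h, hh⟩ := congrArg Subtype.val hk
    have hmem : ((h0 ^ k)⁻¹ * ⟨h, hh⟩ : N) ∈ L.ker := by
      have : L.toHomUnits ((h0 ^ k)⁻¹ * ⟨h, hh⟩) = 1 := by
        rw [map_mul, map_inv, map_zpow, hL0, hk', inv_mul_cancel]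
      exact MonoidHom.mem_ker.2 (congrArg Units.val this)
    have h2 := mul_mem (zpow_mem hh0 k) (hker ⟨_, hmem, rfl⟩)
    simpa using h2.2
  haveI := P.2.isNilpotent
  have hle' : ⁅(P : Subgroup K), zpowers (h0 : K)⁆ ≤ (P : Subgroup K) :=
    Coprime.commutator_le_of_le_normalizer (zpowers_le.2 h0.2)
  have heq := Coprime.eq_of_le_of_sup_commutator_eq hle'
    (le_antisymm (sup_le hle' (commutator_le_self _)) (hle.trans (le_of_eq (sup_comm _ _))))
  exact not_mem_commutator hp P.2 hc (card_omega_le hrank hc) ho0 h0.2 hxp hx1 (hnorm h0 h0.2) (heq.symm ▸ hxP)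

end Cfsg.Agent.IsolatedRank
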