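import Cfsg.Agent.Lib.Coprime.PGroup
import Mathlib

/-!
A `p'`-element acting on a `p`-group `P` and on a subgroup `A` with `P / A` of order `p` normalizes a
cyclic subgroup of `P` outside `A`.
-/

set_option autoImplicit false

namespace Cfsg.Agent.IsolatedRank

open Subgroup
open scoped commutatorElement

variable {K : Type*} [Group K] [Finite K] {p : ℕ} [Fact p.Prime]

/-- An invariant cyclic subgroup covering the quotient by `A`. -/
theorem exists_invariant_zpowers {P A : Subgroup K} (hP : IsPGroup p P)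
    (hder : ∀ a ∈ P, ∀ b ∈ P, ⁅a, b⁆ ∈ A) {h : K} (ho : (orderOf h).Coprime p) (hhP : h ∈ normalizer (P : Set K))
    {i : ℕ} (hi : ∀ g ∈ P, (g ^ i)⁻¹ * (h * g * h⁻¹) ∈ A) (hpow : ∀ g ∈ P, g ^ p ∈ A) {u : K} (hu : u ∈ P) (huA : u ∉ A) :
    ∃ e ∈ P, e ∉ A ∧ h ∈ normalizer (zpowers e : Set K) := by
  classical
  have hpp : p.Prime := Fact.out
  suffices ∀ n (Q : Subgroup K), Nat.card Q = n → Q ≤ P → h ∈ normalizer (Q : Set K) → (∃ q ∈ Q, q ∉ A) →
      ∃ e ∈ P, e ∉ A ∧ h ∈ normalizer (zpowers e : Set K) from this _ P rfl le_rfl hhP ⟨u, hu, huA⟩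
  intro n
  induction n using Nat.strong_induction_on with
  | _ n ih =>
  intro Q hn hQP hhQ hq
  obtain ⟨v, hv, hvA⟩ := hq
  have hc : ∀ q ∈ Q, h * q * h⁻¹ ∈ Q := fun q hq => (mem_normalizer_iff.1 hhQ q).1 hq
  let c : Q →* Q :=
    { toFun := fun q => ⟨h * q * h⁻¹, hc q q.2⟩
      map_one' := Subtype.ext (by simp)
      map_mul' := fun a b => Subtype.ext (by simp [mul_assoc]) }
  let σ : Abelianization Q →* Abelianization Q := Abelianization.map c
  have hσ : ∀ q : Q, σ (Abelianization.of q) = Abelianization.of (c q) := Abelianization.map_of c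
  have hcpow : ∀ (j : ℕ) (q : Q), ((c^[j] q : Q) : K) = h ^ j * q * (h ^ j)⁻¹ := by
    intro j q
    induction j with
    | zero => simp
    | succ j ih =>
      rw [Function.iterate_succ_apply']
      show h * ((c^[j] q : Q) : K) * h⁻¹ = _
      rw [ih, pow_succ']
      group
  set m := orderOf h with hm
  obtain ⟨N, hN⟩ := (hP.to_le hQP).exists_card_eq
  -- work in the quotient by `A`
  haveI : (A.subgroupOf P).Normal := ⟨fun a ha g => by
    rw [mem_subgroupOf] at ha ⊢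
    have h1 := mul_mem (hder g g.2 a a.2) ha
    convert h1 using 1
    push_cast
    rw [commutatorElement_def]
    group⟩
  set f := QuotientGroup.mk' (A.subgroupOf P)
  have hfi : ∀ g : P, f ⟨h * g * h⁻¹, (mem_normalizer_iff.1 hhP g).1 g.2⟩ = f g ^ i := fun g => by
    rw [← map_pow, QuotientGroup.mk'_apply, QuotientGroup.mk'_apply, eq_comm, QuotientGroup.eq, mem_subgroupOf]
    exact hi g g.2
  have hfj : ∀ k : ℕ, f ⟨h ^ k * v * (h ^ k)⁻¹, (mem_normalizer_iff.1 (pow_mem hhP k) v).1 (hQP hv)⟩ =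
      f ⟨v, hQP hv⟩ ^ (i ^ k) := by
    intro k
    induction k with
    | zero => simp
    | succ k ihk =>
      rw [pow_succ i, pow_mul, ← ihk, ← hfi]
      congr 1
      exact Subtype.ext (by simp only [pow_succ' h]; group)
  have hfp : f ⟨v, hQP hv⟩ ^ p = 1 := by
    rw [← map_pow]
    exact (QuotientGroup.eq_one_iff _).2 (mem_subgroupOf.2 (hpow v (hQP hv)))
  have him : i ^ m ≡ 1 [MOD p] := by
    have h1 := hfj m
    have h2 : (⟨h ^ m * v * (h ^ m)⁻¹, (mem_normalizer_iff.1 (pow_mem hhP m) v).1 (hQP hv)⟩ : P) = ⟨v, hQP hv⟩ :=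
      Subtype.ext (by simp [hm, pow_orderOf_eq_one])
    rw [h2] at h1
    conv_lhs at h1 => rw [← pow_one (f ⟨v, hQP hv⟩)]
    have h3 := pow_eq_pow_iff_modEq.1 h1
    rw [orderOf_eq_prime hfp (fun e => hvA (mem_subgroupOf.1 ((QuotientGroup.eq_one_iff _).1 e)))] at h3
    exact h3.symm
  set i' := i ^ p ^ N with hi'
  have hi'1 : i' ≡ i [MOD p] := by
    rw [← ZMod.natCast_eq_natCast_iff, hi', Nat.cast_pow]
    exact ZMod.pow_card_pow _
  have hi'm : i' ^ m ≡ 1 [MOD p ^ N] := by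
    have h1 : (p : ℤ) ∣ ((i ^ m : ℕ) : ℤ) - 1 := by simpa using Nat.modEq_iff_dvd.1 him.symm
    have h2 := (pow_dvd_pow _ (Nat.le_succ N)).trans (dvd_sub_pow_of_dvd_sub (R := ℤ) (p := p) h1 N)
    rw [one_pow] at h2
    refine (Nat.modEq_iff_dvd.2 ?_).symm
    rw [show i' ^ m = (i ^ m) ^ (p ^ N) by rw [hi', ← pow_mul, ← pow_mul, mul_comm]]
    push_cast at h2 ⊢
    exact h2
  set r := i' ^ (m - 1) with hr
  have hm1 : m - 1 + 1 = m := Nat.sub_add_cancel (orderOf_pos h)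
  have hexp : ∀ (z : Abelianization Q) (a b : ℕ), a ≡ b [MOD p ^ N] → z ^ a = z ^ b := by
    intro z a b hab
    refine pow_eq_pow_iff_modEq.2 (hab.of_dvd ?_)
    rw [← hN]
    exact (orderOf_dvd_natCard z).trans (Subgroup.card_quotient_dvd_card _)
  let φ : ℕ → Abelianization Q := fun j => Abelianization.of (c^[j] ⟨v, hv⟩) ^ (r ^ j)
  have hφm : φ m = φ 0 := by
    have e : c^[m] ⟨v, hv⟩ = ⟨v, hv⟩ := Subtype.ext (by rw [hcpow, hm, pow_orderOf_eq_one]; simp)
    simp only [φ, e, Function.iterate_zero_apply, pow_zero]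
    refine hexp _ _ _ ?_
    rw [hr, ← pow_mul, mul_comm, pow_mul]
    simpa using hi'm.pow (m - 1)
  have hstep : ∀ j, σ (φ j) = φ (j + 1) ^ i' := by
    intro j
    simp only [φ, map_pow, hσ, Function.iterate_succ_apply', ← pow_mul]
    refine hexp _ _ _ ?_
    rw [pow_succ, mul_assoc, hr, ← pow_succ, hm1]
    simpa using ((Nat.ModEq.refl ((i' ^ (m - 1)) ^ j)).mul hi'm).symm
  set E := ∏ j ∈ Finset.range m, φ j with hE
  have hshift : ∏ j ∈ Finset.range m, φ (j + 1) = E := by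
    have h1 := Finset.prod_range_succ' φ m
    rw [Finset.prod_range_succ, hφm] at h1
    exact (mul_right_cancel h1).symm
  have heig : σ E = E ^ i' := by
    rw [hE, map_prod]
    simp only [hstep, Finset.prod_pow]
    rw [hshift]
  set B := (A.subgroupOf Q).map (Abelianization.of (G := Q))
  have hφB : ∀ j, φ j / Abelianization.of ⟨v, hv⟩ ∈ B := by
    intro j
    refine ⟨c^[j] ⟨v, hv⟩ ^ (r ^ j) * ⟨v, hv⟩⁻¹, ?_, by rw [map_mul, map_pow, map_inv, div_eq_mul_inv]⟩
    rw [SetLike.mem_coe, mem_subgroupOf, Subgroup.coe_mul, Subgroup.coe_pow, Subgroup.coe_inv, hcpow]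
    show (h ^ j * v * (h ^ j)⁻¹) ^ (r ^ j) * v⁻¹ ∈ A
    have h2 : f (⟨h ^ j * v * (h ^ j)⁻¹, (mem_normalizer_iff.1 (pow_mem hhP j) v).1 (hQP hv)⟩ ^ (r ^ j) *
        ⟨v, hQP hv⟩⁻¹) = 1 := by
      rw [map_mul, map_pow, map_inv, hfj, ← pow_mul, mul_inv_eq_one]
      conv_rhs => rw [← pow_one (f ⟨v, hQP hv⟩)]
      refine pow_eq_pow_iff_modEq.2 (Nat.ModEq.of_dvd (orderOf_dvd_of_pow_eq_one hfp) ?_)
      calc i ^ j * r ^ j = (i * i' ^ (m - 1)) ^ j := by rw [hr, mul_pow]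
        _ ≡ (i * i ^ (m - 1)) ^ j [MOD p] := ((Nat.ModEq.refl i).mul (hi'1.pow _)).pow j
        _ = (i ^ m) ^ j := by rw [← pow_succ', hm1]
        _ ≡ 1 [MOD p] := by simpa using him.pow j
    simpa [mem_subgroupOf] using (QuotientGroup.eq_one_iff _).1 h2
  obtain ⟨e, he⟩ := QuotientGroup.mk'_surjective (commutator Q) E
  have he' : Abelianization.of e = E := he
  have heA : (e : K) ∉ A := by
    intro heA
    have h1 : E / Abelianization.of ⟨v, hv⟩ ^ m ∈ B := by
      have := Subgroup.prod_mem B (t := Finset.range m) fun j _ => hφB j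
      rwa [Finset.prod_div_distrib, Finset.prod_const, Finset.card_range] at this
    have h2 : Abelianization.of ⟨v, hv⟩ ^ m ∈ B := by
      have := mul_mem (inv_mem h1) (⟨e, mem_subgroupOf.2 heA, he'⟩ : E ∈ B)
      simpa using this
    obtain ⟨a, ha, hav⟩ := h2
    rw [← map_pow] at hav
    have hmem : ((a : K))⁻¹ * v ^ m ∈ A := by
      have h3 : a⁻¹ * (⟨v, hv⟩ : Q) ^ m ∈ commutator Q := QuotientGroup.eq.1 hav
      have hle : (commutator Q).map Q.subtype ≤ A := by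
        rw [Subgroup.map_subtype_commutator, commutator_le]
        exact fun a ha b hb => hder a (hQP ha) b (hQP hb)
      exact hle ⟨_, h3, by simp⟩
    have hvm : v ^ m ∈ A := by simpa using mul_mem (mem_subgroupOf.1 ha) hmem
    refine hvA ?_
    obtain ⟨a', b', hab⟩ := Int.isCoprime_iff_nat_coprime.2 (show Nat.Coprime (m : ℤ).natAbs (p : ℤ).natAbs from by simpa using ho)
    have h5 := mul_mem (zpow_mem hvm a') (zpow_mem (hpow v (hQP hv)) b')
    rw [← zpow_natCast, ← zpow_natCast v p, ← zpow_mul, ← zpow_mul, ← zpow_add, mul_comm _ a', mul_comm _ b', hab,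
      zpow_one] at h5
    exact h5
  set Q' := zpowers (e : K) ⊔ ⁅Q, Q⁆
  have hQ'Q : Q' ≤ Q := sup_le (zpowers_le.2 e.2) (commutator_le_self Q)
  by_cases hQe : Q' = Q
  · refine ⟨e, hQP e.2, heA, ?_⟩
    haveI := (hP.to_le hQP).isNilpotent
    rw [Coprime.eq_of_le_of_sup_commutator_eq (zpowers_le.2 e.2) hQe]
    exact hhQ
  · refine ih _ ?_ Q' rfl (hQ'Q.trans hQP) ?_ ⟨e, mem_sup_left (mem_zpowers _), heA⟩
    · rw [← hn]
      exact lt_of_not_ge fun hge => hQe (eq_of_le_of_card_ge hQ'Q hge)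
    have hcQ : ⁅Q, Q⁆.map (MulAut.conj h).toMonoidHom = ⁅Q, Q⁆ := by
      rw [map_commutator]
      exact congrArg (fun X => ⁅X, X⁆) (mem_normalizer_iff_map_conj_eq.1 hhQ)
    refine mem_normalizer_iff_map_conj_eq.2 (eq_of_le_of_card_ge ?_
      (card_map_of_injective (MulAut.conj h).injective).ge)
    rw [Subgroup.map_sup, MonoidHom.map_zpowers]
    refine sup_le (zpowers_le.2 ?_) (hcQ.le.trans le_sup_right)
    show h * (e : K) * h⁻¹ ∈ Q'
    have h1 : Abelianization.of (c e) = Abelianization.of (e ^ i') := by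
      rw [map_pow, ← hσ, he', heig]
    have h2 : (e ^ i')⁻¹ * c e ∈ commutator Q := QuotientGroup.eq.1 h1.symm
    have h3 : ((e : K) ^ i')⁻¹ * (h * (e : K) * h⁻¹) ∈ ⁅Q, Q⁆ := by
      rw [← Subgroup.map_subtype_commutator]
      exact ⟨_, h2, by simp [c]⟩
    simpa using mul_mem (mem_sup_left (T := ⁅Q, Q⁆) (pow_mem (mem_zpowers (e : K)) i')) (mem_sup_right h3)

end Cfsg.Agent.IsolatedRank
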