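import Cfsg.Agent.Techniques.Alperin.Basic
import Cfsg.Agent.Lib.CharP.Isolated
import Cfsg.Agent.Lib.CharP.Parabolic
import Cfsg.Agent.Lib.Coprime.OmegaDetect
import Cfsg.Agent.Lib.Coprime.Basic

/-!
Transfer control in a perfect group with an isolated element of order `p`: a subgroup `F` of the
Sylow subgroup absorbing all local fusion contains the Sylow subgroup.
-/

set_option autoImplicit false

namespace Cfsg.Agent.IsolatedRank

open Subgroup Cfsg.Agent.CharP
open Cfsg.Agent.Techniques.Alperin.Basic (cv FullyNormalized mem_cv cv_of_mem)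

variable {K : Type*} [Group K]

/-- `g` moves the elements of `D` only inside their cosets of `F`. -/
def Inv (F D : Subgroup K) (g : K) : Prop := ∀ d ∈ D, d⁻¹ * (g⁻¹ * d * g) ∈ F

theorem Inv.mono {F D D' : Subgroup K} {g : K} (h : D ≤ D') (hi : Inv F D' g) : Inv F D g :=
  fun d hd => hi d (h hd)

theorem Inv.mul {F D : Subgroup K} {a b : K} (ha : Inv F D a) (hb : Inv F (cv a D) b) :
    Inv F D (a * b) := fun d hd => by
  have h := mul_mem (ha d hd) (hb _ (Techniques.Alperin.Basic.conj_mem_cv hd))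
  convert h using 1
  group

theorem Inv.symm {F D : Subgroup K} {a : K} (ha : Inv F D a) : Inv F (cv a D) a⁻¹ := fun e he => by
  have h := inv_mem (ha _ (mem_cv.1 he))
  convert h using 1
  group

/-- The elements of the normalizer of `E` moving `E` only inside cosets of `F`. -/
def invSub (F E : Subgroup K) : Subgroup K where
  carrier := {n | n ∈ normalizer (E : Set K) ∧ Inv F E n}
  one_mem' := ⟨one_mem _, fun d _ => by simp⟩
  mul_mem' := fun {a b} ha hb => ⟨mul_mem ha.1 hb.1, ha.2.mul (by rw [cv_of_mem ha.1]; exact hb.2)⟩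
  inv_mem' := fun {a} ha => ⟨inv_mem ha.1, by
    have h := ha.2.symm
    rwa [cv_of_mem ha.1] at h⟩

/-- Elements that agree on `D` modulo the centralizer move it in the same way. -/
theorem Inv.centralizer_mul {F D : Subgroup K} {c g : K} (hc : c ∈ centralizer (D : Set K))
    (hg : Inv F D g) : Inv F D (c * g) := fun d hd => by
  have : (c * g)⁻¹ * d * (c * g) = g⁻¹ * d * g := by
    rw [show (c * g)⁻¹ * d * (c * g) = g⁻¹ * (c⁻¹ * (d * c)) * g by group, hc d hd, inv_mul_cancel_left]
  rw [this]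
  exact hg d hd

variable [Finite K] {p : ℕ} [Fact p.Prime]

/-- A subgroup containing a Sylow `p`-subgroup of `H` and all its `p'`-elements contains `H`. -/
theorem le_of_sylow_of_coprime {H T S : Subgroup K} (hT : IsSylIn p T H) (hTS : T ≤ S)
    (hS : ∀ h ∈ H, (orderOf h).Coprime p → h ∈ S) : H ≤ S := by
  rw [← relIndex_eq_one]
  by_contra hne
  obtain ⟨q, hq, hqd⟩ := Nat.exists_prime_and_dvd hne
  haveI := Fact.mk hq
  by_cases hqp : q = p
  · subst hqp
    exact hT.not_dvd (hqd.trans (relIndex_dvd_of_le_left H hTS))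
  · obtain ⟨Q, hQ⟩ := exists_isSylIn q H
    refine hQ.not_dvd (hqd.trans (relIndex_dvd_of_le_left H fun y hy => ?_))
    obtain ⟨k, hk⟩ := IsPGroup.iff_orderOf.1 hQ.isPGroup ⟨y, hy⟩
    rw [orderOf_mk] at hk
    refine hS y (hQ.le hy) ?_
    rw [hk]
    exact Nat.Coprime.pow_left k ((Nat.coprime_primes hq Fact.out).2 hqp)

/-- If the `p'`-elements of `M` centralize `E`, then `M` acts on `E` as its Sylow subgroup does. -/
theorem exists_mul_centralizer {M T E : Subgroup K} (hT : IsSylIn p T M)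
    (hME : M ≤ normalizer (E : Set K))
    (hM : ∀ h ∈ M, (orderOf h).Coprime p → h ∈ centralizer (E : Set K)) :
    ∀ c ∈ M, ∃ a ∈ centralizer (E : Set K), ∃ t ∈ T, c = a * t := by
  intro c hc
  have hn : T ≤ normalizer ((centralizer (E : Set K) : Subgroup K) : Set K) :=
    (hT.le.trans hME).trans (normalizer_le_normalizer_centralizer _)
  have hle : M ≤ centralizer (E : Set K) ⊔ T :=
    le_of_sylow_of_coprime hT le_sup_right fun h hh ho => mem_sup_left (hM h hh ho)
  obtain ⟨a, ha, t, ht, e⟩ := (Coprime.mem_sup_of_le_normalizer hn).1 (hle hc)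
  exact ⟨a, ha, t, ht, e.symm⟩

variable {P : Sylow p K}

/-- What the fusion induction hands to each step. -/
def IH (P : Sylow p K) (F E : Subgroup K) : Prop :=
  ∀ (E' : Subgroup K) (g : K), E < E' → E' ≤ (P : Subgroup K) → cv g E' ≤ (P : Subgroup K) → Inv F E' g

theorem IH.normalizer {F E E' : Subgroup K} (ih : IH P F E) (h : E < E') (hP : E' ≤ (P : Subgroup K))
    {m : K} (hm : m ∈ Subgroup.normalizer (E' : Set K)) : Inv F E' m :=
  ih E' m h hP (by rw [cv_of_mem hm]; exact hP)

/-- The Frattini step: fusion inside a normal subgroup acting on `E` as a `p`-group can be carried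
to a larger subgroup of `P`. -/
theorem step {F E : Subgroup K} (hE : FullyNormalized p (P : Subgroup K) E) (ih : IH P F E)
    (M : Subgroup K) (hMN : M ≤ normalizer (E : Set K))
    (hn : normalizer (E : Set K) ≤ normalizer (M : Set K))
    (hM : ∀ h ∈ M, (orderOf h).Coprime p → h ∈ centralizer (E : Set K))
    (hbig : ¬ (P : Subgroup K) ⊓ normalizer (E : Set K) ⊓ M ≤ E) :
    ∀ n ∈ normalizer (E : Set K), Inv F E n := by
  intro n hn'
  set T := (P : Subgroup K) ⊓ normalizer (E : Set K) ⊓ M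
  have hT : IsSylIn p T M := hE.syl.inf_normal hMN hn
  have h1 := hT.conj n
  rw [conj_map_of_mem (hn hn')] at h1
  obtain ⟨a, ha, hag⟩ := h1.exists_conj hT
  have hm : a * n ∈ normalizer (T : Set K) :=
    mem_normalizer_of_conj_map (by rw [← conj_map_map]; exact hag)
  obtain ⟨c, hc, t, ht, hct⟩ := exists_mul_centralizer hT hMN hM a⁻¹ (inv_mem ha)
  have htn : t * (a * n) ∈ normalizer (E : Set K) ⊓ normalizer (T : Set K) :=
    ⟨mul_mem (hMN (hT.le ht)) (mul_mem (hMN ha) hn'), mul_mem (le_normalizer ht) hm⟩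
  have heq : n = c * (t * (a * n)) := by rw [← mul_assoc, ← hct, inv_mul_cancel_left]
  rw [heq]
  refine Inv.centralizer_mul hc (Inv.mono (le_sup_left (b := T)) (ih.normalizer ?_ ?_ ?_))
  · exact left_lt_sup.2 hbig
  · exact sup_le hE.le (inf_le_left.trans inf_le_left)
  · exact mem_normalizer_of_conj_map
      (by rw [Subgroup.map_sup, conj_map_of_mem htn.1, conj_map_of_mem htn.2])

/-- The reduction of transfer to the local steps. -/
theorem reduce (hperf : commutator K = ⊤) (P : Sylow p K) {F : Subgroup K}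
    (hder : ∀ a ∈ (P : Subgroup K), ∀ b ∈ (P : Subgroup K), a⁻¹ * (b⁻¹ * a * b) ∈ F)
    (hP : ∀ h ∈ Subgroup.normalizer ((P : Subgroup K) : Set K), (orderOf h).Coprime p →
      Inv F (P : Subgroup K) h)
    (key : ∀ E, FullyNormalized p (P : Subgroup K) E → E ≠ (P : Subgroup K) → IH P F E →
      ∀ n ∈ Subgroup.normalizer (E : Set K), Inv F E n) : (P : Subgroup K) ≤ F := by
  have hall : ∀ (D : Subgroup K) (g : K), D ≤ (P : Subgroup K) → cv g D ≤ (P : Subgroup K) → Inv F D g := by
    intro D g hD hg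
    refine Techniques.Alperin.Basic.induction (P := P) (Inv F) (fun _ _ _ h => Inv.mono h)
      (fun _ _ _ => Inv.mul) (fun _ _ => Inv.symm) (fun E hE ih => ?_) D g hD hg
    by_cases hEP : E = (P : Subgroup K)
    · subst hEP
      have hT : IsSylIn p (P : Subgroup K) (Subgroup.normalizer ((P : Subgroup K) : Set K)) :=
        isSylIn_of_not_dvd P.2 le_normalizer fun hd =>
          P.not_dvd_index (hd.trans (relIndex_dvd_index_of_le le_normalizer))
      intro n hn
      have hle : Subgroup.normalizer ((P : Subgroup K) : Set K) ≤ invSub F (P : Subgroup K) :=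
        le_of_sylow_of_coprime hT (fun t ht => ⟨le_normalizer ht, fun d hd => hder d hd t ht⟩)
          fun h hh ho => ⟨hh, hP h hh ho⟩
      exact (hle hn).2
    · exact key E hE hEP ih
  have h := Transfer.Fusion.focal_le_of_fusion P (F := F) fun a ha g hg => ⟨g, rfl, ?_⟩
  · rw [hperf, top_inf_eq] at h
    exact h
  have hD : zpowers a⁻¹ ≤ (P : Subgroup K) := zpowers_le.2 (inv_mem ha)
  have hD' : cv g⁻¹ (zpowers a⁻¹) ≤ (P : Subgroup K) := by
    rw [cv, inv_inv, MonoidHom.map_zpowers, zpowers_le, map_inv]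
    exact inv_mem hg
  have := hall _ g⁻¹ hD hD' a⁻¹ (mem_zpowers _)
  rw [inv_inv, inv_inv] at this
  convert this using 1
  rw [commutatorElement_def]
  group

variable {x : K}

/-- If `x` is not in `E`, or `E` is not centric, the centralizer carries the fusion upwards. -/
theorem step_centralizer {F E : Subgroup K} (hE : FullyNormalized p (P : Subgroup K) E) (ih : IH P F E)
    (hbig : ¬ (P : Subgroup K) ⊓ centralizer (E : Set K) ≤ E) :
    ∀ n ∈ normalizer (E : Set K), Inv F E n := by
  refine step hE ih (centralizer (E : Set K)) (centralizer_le_normalizer (s := (E : Set K)))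
    (normalizer_le_normalizer_centralizer _) (fun h hh _ => hh) fun hle => hbig fun c hc => hle ?_
  exact ⟨⟨hc.1, centralizer_le_normalizer (s := (E : Set K)) hc.2⟩, hc.2⟩

/-- A subgroup of `P` containing `x` with `N_P(E)` moving the elements of order `p` only inside
their cosets of `⟨x⟩`. -/
theorem step_unipotent (hp : p ≠ 2) (hxp : x ^ p = 1) (hiso : Cfsg.IsIsolated x) {F E : Subgroup K}
    (hE : FullyNormalized p (P : Subgroup K) E) (hne : E ≠ (P : Subgroup K)) (ih : IH P F E) (hxE : x ∈ E)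
    (hord : ∀ a ∈ E, a ^ p = 1 → ∀ g ∈ (P : Subgroup K) ⊓ normalizer (E : Set K),
      g * a * g⁻¹ * a⁻¹ ∈ zpowers x) :
    ∀ n ∈ normalizer (E : Set K), Inv F E n := by
  have hEp : IsPGroup p E := P.2.to_le hE.le
  have hfix : ∀ n ∈ normalizer (E : Set K), ∀ z ∈ zpowers x, n * z * n⁻¹ = z := by
    intro n hn z hz
    have hx : n * x * n⁻¹ = x := isolated_eq_of_pgroup hiso hEp hxE ((mem_normalizer_iff.1 hn x).1 hxE)
    obtain ⟨i, rfl⟩ := mem_zpowers_iff.1 hz
    rw [← conj_zpow, hx]
  let M : Subgroup K :=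
    { carrier := {n | n ∈ normalizer (E : Set K) ∧
        ∀ a ∈ E, a ^ p = 1 → n * a * n⁻¹ * a⁻¹ ∈ zpowers x}
      one_mem' := ⟨one_mem _, fun a _ _ => by simp⟩
      mul_mem' := fun {m n} hm hn => ⟨mul_mem hm.1 hn.1, fun a ha hap => by
        have h1 := hn.2 a ha hap
        have h2 := mul_mem h1 (hm.2 a ha hap)
        rw [show m * n * a * (m * n)⁻¹ * a⁻¹ =
          m * (n * a * n⁻¹ * a⁻¹) * m⁻¹ * (m * a * m⁻¹ * a⁻¹) by group, hfix m hm.1 _ h1]
        exact h2⟩
      inv_mem' := fun {n} hn => ⟨inv_mem hn.1, fun a ha hap => by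
        have h1 := inv_mem (hn.2 a ha hap)
        have h2 := hfix n⁻¹ (inv_mem hn.1) _ h1
        rw [show n⁻¹ * a * n⁻¹⁻¹ * a⁻¹ = n⁻¹ * (n * a * n⁻¹ * a⁻¹)⁻¹ * n⁻¹⁻¹ by group, h2]
        exact h1⟩ }
  refine step hE ih M (fun n hn => hn.1) (fun k hk => ?_) (fun h hh ho => ?_) fun hle => ?_
  · refine (le_normalizer_iff (H := normalizer (E : Set K)) (K := M)).2 (fun k hk n hn => ?_) hk
    refine ⟨mul_mem (mul_mem hk hn.1) (inv_mem hk), fun a ha hap => ?_⟩
    have ha' : k⁻¹ * a * k ∈ E := by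
      simpa using (mem_normalizer_iff.1 (inv_mem hk) a).1 ha
    have h1 := hn.2 _ ha' (by
      have h := conj_pow (i := p) (a := k⁻¹) (b := a)
      rw [inv_inv, hap, mul_one, inv_mul_cancel] at h
      exact h)
    rw [show k * n * k⁻¹ * a * (k * n * k⁻¹)⁻¹ * a⁻¹ =
      k * (n * (k⁻¹ * a * k) * n⁻¹ * (k⁻¹ * a * k)⁻¹) * k⁻¹ by group, hfix k hk _ h1]
    exact h1
  · refine Coprime.OmegaDetect.mem_centralizer_of_fix ho hEp hh.1 fun a ha hap => ?_
    rcases hap with hap | ⟨h2, -⟩
    · have h1 := hh.2 a ha hap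
      refine Coprime.OmegaDetect.eq_one_of_fix (mul_inv_eq_iff_eq_mul.1 (hfix h hh.1 _ h1)) ?_
      exact Coprime.OmegaDetect.coprime_of_mem hEp ho ((zpowers_le.2 hxE) h1)
    · exact absurd h2 hp
  · refine (hE.lt hne).not_ge fun g hg => hle ⟨hg, hg.2, fun a ha hap => hord a ha hap g hg⟩

end Cfsg.Agent.IsolatedRank
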