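import Cfsg.Agent.Lib.IsolatedRank.Small

/-!
For `p ≥ 5` the Sylow subgroup of a perfect group with a small-centralizer frame has order `p ^ 3`.
-/

set_option autoImplicit false

namespace Cfsg.Agent.IsolatedRank

open Subgroup Cfsg.Agent.CharP
open Cfsg.Agent.CharP.SmallCentralizer
open Cfsg.Agent.PGroups.MaximalClass
open scoped commutatorElement

variable {K : Type*} [Group K] [Finite K] {p : ℕ} [Fact p.Prime] {P : Subgroup K} {x w u : K}

/-- Deep enough layers have exponent dividing `p`. -/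
theorem Frame.lcs_pow_eq_one (F : Frame p P x w) (hS : SmallCent p P x w) (hu : u ∈ P) (huA : u ∉ cA P w)
    (hup : u ^ p = 1) {n : ℕ} (hn : Nat.card P = p ^ n) {i : ℕ} (hi : 1 ≤ i) (hip : n ≤ i + p) {c : P}
    (hc : c ∈ lcs P i) : c ^ p = 1 := by
  have h := (F.small hS hu huA hup).pow_mem i hi c hc
  have hn3 := F.three_le hu huA hup hn
  have hb : lcs P (n - 1) = ⊥ := lcs_eq_bot (p := p) (by omega) hn
  have h2 := lcs_antitone (G := P) (show n - 1 ≤ i + p - 1 by omega) h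
  rwa [hb, mem_bot] at h2

theorem Frame.lcs_le_cA (F : Frame p P x w) {i : ℕ} (hi : 1 ≤ i) : lcs P i ≤ (cA P w).subgroupOf P := by
  refine (lcs_antitone (G := P) hi).trans ?_
  rw [lcs_one, _root_.commutator_def, commutator_le]
  intro a _ b _
  exact mem_subgroupOf.2 (F.commutator_mem a.2 b.2)

theorem Frame.card_lcs (F : Frame p P x w) (hS : SmallCent p P x w) (hu : u ∈ P) (huA : u ∉ cA P w)
    (hup : u ^ p = 1) {n : ℕ} (hn : Nat.card P = p ^ n) {i : ℕ} (hi : 1 ≤ i) (hin : i ≤ n - 1) :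
    Nat.card (lcs P i) = p ^ (n - 1 - i) := by
  have hn3 := F.three_le hu huA hup hn
  have h := index_lcs (p := p) hn3 hn (F.class_eq hS hu huA hup hn) hi hin
  have h2 := (lcs P i).card_mul_index
  rw [h, hn] at h2
  refine Nat.eq_of_mul_eq_mul_right (pow_pos (Fact.out : p.Prime).pos (i + 1)) ?_
  rw [h2, ← pow_add]
  congr 1
  omega

theorem Frame.card_le_four (F : Frame p P x w) (hS : SmallCent p P x w) (hu : u ∈ P) (huA : u ∉ cA P w)
    (hup : u ^ p = 1) (hp5 : 5 ≤ p) {n : ℕ} (hn : Nat.card P = p ^ n) : n ≤ 4 := by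
  by_contra h5
  push Not at h5
  have hc := F.card_lcs hS hu huA hup hn (i := n - 4) (by omega) (by omega)
  rw [show n - 1 - (n - 4) = 3 by omega] at hc
  have hle : Nat.card (lcs P (n - 4)) ≤ Nat.card (IsolatedRank.omega F.pcentral) := by
    refine Nat.card_le_card_of_injective (fun c : lcs P (n - 4) =>
      (⟨((c : P) : K), mem_subgroupOf.1 (F.lcs_le_cA (by omega) c.2),
        congrArg Subtype.val (F.lcs_pow_eq_one hS hu huA hup hn (i := n - 4) (by omega) (by omega) c.2)⟩ :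
        IsolatedRank.omega F.pcentral)) fun a b e => ?_
    have e' := congrArg Subtype.val e
    exact Subtype.ext (Subtype.ext e')
  rw [hc, F.card_omega] at hle
  exact absurd ((Nat.pow_le_pow_iff_right (Fact.out : p.Prime).one_lt).1 hle) (by norm_num)

omit [Finite K] [Fact p.Prime] in
theorem mul_pow_iterate {v a b z : K} (hb : v * a * v⁻¹ = a * b) (hz : v * b * v⁻¹ = b * z)
    (hvz : Commute v z) (hbz : Commute b z) (hab : Commute a b) (haz : Commute a z) :
    ∀ m : ℕ, (a * v) ^ m = a ^ m * b ^ m.choose 2 * z ^ m.choose 3 * v ^ m := by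
  intro m
  induction m with
  | zero => simp
  | succ m ih =>
    calc (a * v) ^ (m + 1) = (a * v) ^ m * (a * v) := pow_succ _ _
      _ = a ^ m * b ^ m.choose 2 * z ^ m.choose 3 * (v ^ m * a * (v ^ m)⁻¹) * v ^ (m + 1) := by
        rw [ih, pow_succ v]; group
      _ = a ^ m * (b ^ m.choose 2 * (z ^ m.choose 3 * a)) * b ^ m * z ^ m.choose 2 * v ^ (m + 1) := by
        rw [conj_pow_iterate hb hz hvz hbz m]; group
      _ = a ^ m * a * b ^ m.choose 2 * (z ^ m.choose 3 * b ^ m) * z ^ m.choose 2 * v ^ (m + 1) := by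
        rw [← (haz.pow_right (m.choose 3)).eq, ← mul_assoc (b ^ m.choose 2), ← (hab.pow_right (m.choose 2)).eq]
        simp only [mul_assoc]
      _ = a ^ (m + 1) * b ^ (m.choose 2 + m) * z ^ (m.choose 3 + m.choose 2) * v ^ (m + 1) := by
        rw [← (hbz.pow_pow m (m.choose 3)).eq, pow_succ a, pow_add b, pow_add z]
        simp only [mul_assoc]
      _ = _ := by
        rw [Nat.choose_succ_succ m 2, Nat.choose_succ_succ m 1, Nat.choose_one_right, add_comm (m.choose 3),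
          add_comm (m.choose 2) m]

theorem four_false (hperf : commutator K = ⊤) (hiso : Cfsg.IsIsolated x)
    (S : Sylow p K) (F : Frame p (S : Subgroup K) x w) (hS : SmallCent p (S : Subgroup K) x w)
    (hu : u ∈ (S : Subgroup K)) (huA : u ∉ cA (S : Subgroup K) w) (hup : u ^ p = 1) (hp5 : 5 ≤ p)
    (hn : Nat.card (S : Subgroup K) = p ^ 4) : False := by
  have hpp : p.Prime := Fact.out
  have hp : p ≠ 2 := by omega
  set A := cA (S : Subgroup K) w
  set Ω := IsolatedRank.omega F.pcentral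
  have hAS : A ≤ (S : Subgroup K) := F.cA_le
  have hAc : Nat.card A = p ^ 3 := by
    have h := F.card_inf_cA le_rfl hu huA hup
    rw [inf_eq_right.2 hAS, hn, pow_succ p 3] at h
    exact Nat.eq_of_mul_eq_mul_right hpp.pos h
  have hΩA : Ω ≤ A := fun a ha => ha.1
  have hder : ∀ a ∈ (S : Subgroup K), ∀ b ∈ (S : Subgroup K), ⁅a, b⁆ ∈ Ω := by
    intro a ha b hb
    have hmem : ⁅(⟨a, ha⟩ : (S : Subgroup K)), ⟨b, hb⟩⁆ ∈ lcs (S : Subgroup K) 1 := by
      rw [lcs_one]
      exact commutator_mem_commutator (mem_top _) (mem_top _)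
    exact ⟨F.commutator_mem ha hb,
      congrArg Subtype.val (F.lcs_pow_eq_one hS hu huA hup hn (i := 1) le_rfl (by omega) hmem)⟩
  have hAcomm : ∀ a ∈ A, ∀ b ∈ A, Commute a b := by
    set Ω' := Ω.subgroupOf A
    have hcen : Ω' ≤ Subgroup.center A := fun e he => mem_center_iff.2 fun g => Subtype.ext
      (F.pcentral _ e.2 he.2 g g.2).eq
    haveI : Ω'.Normal := ⟨fun e he g => by
      rw [mem_center_iff.1 (hcen he) g, mul_inv_cancel_right]
      exact he⟩
    have h1 := card_eq_card_quotient_mul_card_subgroup Ω'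
    rw [Nat.card_congr (subgroupOfEquivOfLe hΩA).toEquiv, F.card_omega, hAc, pow_succ'] at h1
    haveI : IsCyclic (A ⧸ Ω') :=
      isCyclic_of_prime_card (p := p) (Nat.eq_of_mul_eq_mul_right (pow_pos hpp.pos 2) h1).symm
    haveI : IsMulCommutative A := MonoidHom.isMulCommutative_of_isCyclic_of_ker_le_center (QuotientGroup.mk' Ω') (by
      rw [QuotientGroup.ker_mk']; exact hcen)
    exact fun a ha b hb => congrArg Subtype.val (mul_comm' (⟨a, ha⟩ : A) ⟨b, hb⟩)
  have hwx : Commute w x := F.central w F.mem_w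
  -- the `p`-th power of `a u ^ k`
  have hpow : ∀ a ∈ A, ∀ k : ℕ, (a * u ^ k) ^ p = a ^ p := by
    intro a ha k
    have hb0 := hder (u ^ k) (_root_.pow_mem hu k) a ha.1
    set b := a⁻¹ * ⁅u ^ k, a⁆ * a with hb
    have hbΩ : b ∈ Ω := by
      have : b = ⁅u ^ k, a⁆ := by
        rw [hb, mul_assoc, (hAcomm _ hb0.1 a ha).eq, inv_mul_cancel_left]
      rw [this]; exact hb0
    obtain ⟨i, j, hbij⟩ := F.omega b hbΩ.1.1 (mem_cA.1 hbΩ.1).2 hbΩ.2
    obtain ⟨c, hc⟩ := F.move (u ^ k) (_root_.pow_mem hu k)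
    have hz : u ^ k * b * (u ^ k)⁻¹ = b * x ^ (c * i) := by
      rw [hbij, ← conj_mul, ← conj_zpow, ← conj_zpow, hc, (hwx.zpow_right c).mul_zpow, ← zpow_mul,
        (F.central _ (_root_.pow_mem hu k)).eq, mul_inv_cancel_right, mul_assoc, mul_assoc, ← zpow_add, ← zpow_add,
        add_comm (c * i)]
    have h := mul_pow_iterate (v := u ^ k) (a := a) (b := b)
      (by rw [hb, commutatorElement_def]; group) hz
      ((F.central _ (_root_.pow_mem hu k)).zpow_right _) ((F.central b hbΩ.1.1).zpow_right _)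
      (hAcomm a ha b hbΩ.1) ((F.central a ha.1).zpow_right _) p
    obtain ⟨m2, hm2⟩ := hpp.dvd_choose_self two_ne_zero (show 2 < p by omega)
    obtain ⟨m3, hm3⟩ := hpp.dvd_choose_self three_ne_zero (show 3 < p by omega)
    rw [hm2, hm3, pow_mul b, hbΩ.2, one_pow, mul_one, pow_mul, ← zpow_natCast (x ^ _), ← zpow_mul,
      zpow_eq_one_of_dvd F.pow_x (dvd_mul_left _ _), one_pow, mul_one, ← pow_mul u, mul_comm k, pow_mul u, hup,
      one_pow, mul_one] at h
    exact h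
  have hform : ∀ e ∈ (S : Subgroup K), ∃ (a : K) (k : ℕ), a ∈ A ∧ e = a * u ^ k := by
    intro e he
    obtain ⟨k, hk⟩ := F.exists_pow_mul hu huA he
    exact ⟨u ^ k * ((u ^ k)⁻¹ * e) * (u ^ k)⁻¹, k, F.conj_mem (_root_.pow_mem hu k) hk, by group⟩
  let C : Subgroup K :=
    { carrier := {e | ∃ (a : K) (k : ℕ), a ∈ Ω ∧ e = a * u ^ k}
      one_mem' := ⟨1, 0, one_mem _, by simp⟩
      mul_mem' := fun {e e'} he he' => by
        obtain ⟨a, k, ha, rfl⟩ := he
        obtain ⟨b, l, hb, rfl⟩ := he'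
        refine ⟨a * (u ^ k * b * (u ^ k)⁻¹), k + l, mul_mem ha ⟨F.conj_mem (_root_.pow_mem hu k) hb.1, ?_⟩, by
          rw [pow_add]; group⟩
        rw [conj_pow, hb.2, mul_one, mul_inv_cancel]
      inv_mem' := fun {e} he => by
        obtain ⟨a, k, ha, rfl⟩ := he
        have hk' : (u ^ k)⁻¹ = u ^ ((p - 1) * k) := by
          refine inv_eq_of_mul_eq_one_left ?_
          rw [← pow_add, show (p - 1) * k + k = p * k by
            rw [← Nat.succ_mul, show (p - 1).succ = p by omega], pow_mul, hup, one_pow]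
        refine ⟨(u ^ k)⁻¹ * a⁻¹ * (u ^ k), (p - 1) * k, ⟨?_, ?_⟩, by rw [← hk']; group⟩
        · simpa using F.conj_mem (inv_mem (_root_.pow_mem hu k)) (inv_mem ha.1)
        · have := conj_pow (i := p) (a := (u ^ k)⁻¹) (b := a⁻¹)
          rwa [inv_inv, inv_pow a, ha.2, inv_one, mul_one, inv_mul_cancel] at this }
  have hΩC : Ω ≤ C := fun a ha => ⟨a, 0, ha, by simp⟩
  have hCp : ∀ e, e ∈ (S : Subgroup K) → (e ∈ C ↔ e ^ p = 1) := by
    intro e he
    constructor
    · rintro ⟨a, k, ha, rfl⟩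
      rw [hpow a ha.1 k, ha.2]
    · intro hep
      obtain ⟨a, k, ha, rfl⟩ := hform e he
      exact ⟨a, k, ⟨ha, (hpow a ha k).symm.trans hep⟩, rfl⟩
  obtain ⟨g, hg, hgp⟩ : ∃ g ∈ A, g ^ p ≠ 1 := by
    by_contra hno
    push Not at hno
    have hle : A ≤ Ω := fun a ha => ⟨ha, hno a ha⟩
    have := card_le_of_le hle
    rw [hAc, F.card_omega] at this
    exact absurd ((Nat.pow_le_pow_iff_right hpp.one_lt).1 this) (by norm_num)
  have hgen : ∀ e ∈ (S : Subgroup K), ∃ i : ℕ, (g ^ i)⁻¹ * e ∈ C := by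
    intro e he
    obtain ⟨a, k, ha, rfl⟩ := hform e he
    haveI hn1 : (Ω.subgroupOf A).Normal := ⟨fun b hb c => mem_subgroupOf.2 ⟨(c * b * c⁻¹).2, by
      push_cast
      rw [conj_pow, (mem_subgroupOf.1 hb).2, mul_one, mul_inv_cancel]⟩⟩
    have h1 := card_eq_card_quotient_mul_card_subgroup (Ω.subgroupOf A)
    rw [Nat.card_congr (subgroupOfEquivOfLe hΩA).toEquiv, F.card_omega, hAc, pow_succ'] at h1
    have hcard : Nat.card (A ⧸ Ω.subgroupOf A) = p :=
      (Nat.eq_of_mul_eq_mul_right (pow_pos hpp.pos 2) h1).symm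
    have hne : QuotientGroup.mk' (Ω.subgroupOf A) ⟨g, hg⟩ ≠ 1 := fun e1 =>
      hgp (mem_subgroupOf.1 ((QuotientGroup.eq_one_iff _).1 e1)).2
    obtain ⟨i, hi⟩ := mem_powers_of_prime_card (g' := QuotientGroup.mk' (Ω.subgroupOf A) ⟨a, ha⟩) hcard hne
    refine ⟨i, ?_⟩
    have h2 : (⟨g, hg⟩ : A) ^ i = (⟨g, hg⟩ : A) ^ i := rfl
    have h3 : ((⟨g, hg⟩ : A) ^ i)⁻¹ * ⟨a, ha⟩ ∈ Ω.subgroupOf A := QuotientGroup.eq.1 (by
      rw [← QuotientGroup.mk'_apply, ← QuotientGroup.mk'_apply, map_pow]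
      exact hi)
    exact ⟨(g ^ i)⁻¹ * a, k, by simpa using mem_subgroupOf.1 h3, by group⟩
  have hgC : g ∉ C := fun h => hgp ((hCp g hg.1).1 h)
  have h := reduce hperf S (F := C) (fun a ha b hb => hΩC (by
      have h := hder _ (inv_mem ha) _ (inv_mem hb)
      convert h using 1
      rw [commutatorElement_def]
      group)) (fun h hh _ d hd => ?_) fun E hE hne ih => ?_
  · exact hgC (h hg.1)
  · have hh' : h⁻¹ ∈ Subgroup.normalizer ((S : Subgroup K) : Set K) := inv_mem hh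
    have hhx : Commute h x := mul_inv_eq_iff_eq_mul.1
      (isolated_eq_of_pgroup hiso S.2 F.mem_x ((mem_normalizer_iff.1 hh x).1 F.mem_x))
    have hgP : h⁻¹ * g * h ∈ (S : Subgroup K) := by simpa using (mem_normalizer_iff.1 hh' g).1 hg.1
    obtain ⟨i, c, hc, hgc⟩ : ∃ (i : ℕ), ∃ c ∈ C, h⁻¹ * g * h = g ^ i * c := by
      obtain ⟨i, hi⟩ := hgen _ hgP
      exact ⟨i, _, hi, (mul_inv_cancel_left _ _).symm⟩
    obtain ⟨a, k, ha, rfl⟩ := hc
    obtain ⟨e, f, hef⟩ : ∃ e f : ℤ, g ^ p = w ^ e * x ^ f := by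
      refine F.omega _ (_root_.pow_mem hg.1 p) ((mem_cA.1 hg).2.pow_left p) ?_
      have hmem : g ^ p ∈ Ω := by
        haveI hn1 : (Ω.subgroupOf A).Normal := ⟨fun b hb c => mem_subgroupOf.2 ⟨(c * b * c⁻¹).2, by
          push_cast
          rw [conj_pow, (mem_subgroupOf.1 hb).2, mul_one, mul_inv_cancel]⟩⟩
        have h1 := card_eq_card_quotient_mul_card_subgroup (Ω.subgroupOf A)
        rw [Nat.card_congr (subgroupOfEquivOfLe hΩA).toEquiv, F.card_omega, hAc, pow_succ'] at h1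
        have h2 := pow_card_eq_one' (x := QuotientGroup.mk' (Ω.subgroupOf A) ⟨g, hg⟩)
        rw [(Nat.eq_of_mul_eq_mul_right (pow_pos hpp.pos 2) h1).symm, ← map_pow] at h2
        simpa using mem_subgroupOf.1 ((QuotientGroup.eq_one_iff _).1 h2)
      exact hmem.2
    obtain ⟨cu, hcu⟩ := F.move u hu
    have he0 : (p : ℤ) ∣ e := by
      have h1 : u * g * u⁻¹ = g * (g⁻¹ * ⁅u, g⁆ * g) := by rw [commutatorElement_def]; group
      have h2 : (g⁻¹ * ⁅u, g⁆ * g) ^ p = 1 := by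
        have := conj_pow (i := p) (a := g⁻¹) (b := ⁅u, g⁆)
        rwa [inv_inv, (hder u hu g hg.1).2, mul_one, inv_mul_cancel] at this
      have h3 : u * g ^ p * u⁻¹ = g ^ p := by
        rw [← conj_pow, h1, (hAcomm g hg _ (mul_mem (mul_mem (inv_mem hg) (hder u hu g hg.1).1) hg)).mul_pow, h2,
          mul_one]
      rw [hef, ← conj_mul, ← conj_zpow, ← conj_zpow, hcu, (hwx.zpow_right cu).mul_zpow, ← zpow_mul,
        (F.central u hu).eq, mul_inv_cancel_right, mul_assoc, mul_right_inj, mul_eq_right] at h3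
      rcases Int.Prime.dvd_mul' hpp (F.eq_one_of_zpow h3) with h | h
      · exact absurd (mem_cA.2 ⟨hu, conj_eq_iff.1 (by rw [hcu, zpow_eq_one_of_dvd F.pow_x h, mul_one])⟩) huA
      · exact h
    have hgx : g ^ p = x ^ f := by rw [hef, zpow_eq_one_of_dvd F.pow_w he0, one_mul]
    have hi : (p : ℤ) ∣ (i : ℤ) - 1 := by
      have h1 : (h⁻¹ * g * h) ^ p = x ^ f := by
        have := conj_pow (i := p) (a := h⁻¹) (b := g)
        rw [inv_inv, hgx] at this
        rw [this, (hhx.inv_left.zpow_right f).eq, inv_mul_cancel_right]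
      rw [hgc, ← mul_assoc, hpow _ (mul_mem (_root_.pow_mem hg i) ha.1) k,
        (hAcomm _ (_root_.pow_mem hg i) a ha.1).mul_pow, ha.2, mul_one, ← pow_mul, mul_comm, pow_mul, hgx,
        ← zpow_natCast (x ^ f), ← zpow_mul, ← mul_inv_eq_one, ← zpow_neg, ← zpow_add] at h1
      have h2 := F.eq_one_of_zpow h1
      rw [show f * (i : ℤ) + -f = f * ((i : ℤ) - 1) by ring] at h2
      refine (Int.Prime.dvd_mul' hpp h2).resolve_left fun hf => hgp ?_
      rw [hgx, zpow_eq_one_of_dvd F.pow_x hf]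
    -- modulo `C` everything is a power of `g`
    haveI hCn : (C.subgroupOf (S : Subgroup K)).Normal := ⟨fun e he y => by
      rw [mem_subgroupOf] at he ⊢
      rw [hCp _ (y * e * y⁻¹).2]
      push_cast
      rw [conj_pow, ((hCp _ e.2).1 he), mul_one, mul_inv_cancel]⟩
    set π := QuotientGroup.mk' (C.subgroupOf (S : Subgroup K))
    let φ : (S : Subgroup K) →* (S : Subgroup K) :=
      { toFun := fun y => ⟨h⁻¹ * y * h, by simpa using (mem_normalizer_iff.1 hh' y).1 y.2⟩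
        map_one' := Subtype.ext (by simp)
        map_mul' := fun y z => Subtype.ext (by push_cast; group) }
    have hπC : ∀ y : (S : Subgroup K), (y : K) ∈ C → π y = 1 := fun y hy =>
      (QuotientGroup.eq_one_iff y).2 (mem_subgroupOf.2 hy)
    have hgp' : π ⟨g, hg.1⟩ ^ p = 1 := by
      rw [← map_pow]
      refine hπC _ (hΩC ⟨?_, ?_⟩)
      · exact _root_.pow_mem hg p
      · push_cast
        rw [hgx, ← zpow_natCast, ← zpow_mul, zpow_eq_one_of_dvd F.pow_x (dvd_mul_left _ _)]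
    have hφg : π (φ ⟨g, hg.1⟩) = π ⟨g, hg.1⟩ := by
      have h1 : φ ⟨g, hg.1⟩ = ⟨g, hg.1⟩ ^ i * ⟨a * u ^ k, mul_mem ha.1.1 (_root_.pow_mem hu k)⟩ := Subtype.ext hgc
      rw [h1, map_mul, map_pow, hπC ⟨a * u ^ k, _⟩ ⟨a, k, ha, rfl⟩, mul_one, ← zpow_natCast,
        ← sub_add_cancel (i : ℤ) 1, zpow_add_one, zpow_eq_one_of_dvd hgp' hi, one_mul]
    have hall : ∀ y : (S : Subgroup K), π (φ y) = π y := by
      intro y
      obtain ⟨m, hm⟩ := hgen y y.2
      have hy : y = ⟨g, hg.1⟩ ^ m * ⟨(g ^ m)⁻¹ * y, mul_mem (inv_mem (_root_.pow_mem hg.1 m)) y.2⟩ :=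
        Subtype.ext (by push_cast; group)
      have hC' : ((φ ⟨(g ^ m)⁻¹ * y, mul_mem (inv_mem (_root_.pow_mem hg.1 m)) y.2⟩ : (S : Subgroup K)) : K) ∈ C := by
        refine (hCp _ (SetLike.coe_mem _)).2 ?_
        show (h⁻¹ * ((g ^ m)⁻¹ * (y : K)) * h) ^ p = 1
        have := conj_pow (i := p) (a := h⁻¹) (b := (g ^ m)⁻¹ * (y : K))
        rw [inv_inv, (hCp _ (mul_mem (inv_mem (_root_.pow_mem hg.1 m)) y.2)).1 hm, mul_one, inv_mul_cancel] at this
        exact this
      rw [hy, map_mul, map_mul, map_mul, map_pow, map_pow, map_pow, hφg, hπC _ hC', hπC ⟨(g ^ m)⁻¹ * y, _⟩ hm]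
    exact mem_subgroupOf.1 (QuotientGroup.eq.1 (hall ⟨d, hd⟩).symm)
  · by_cases hbig : (S : Subgroup K) ⊓ centralizer (E : Set K) ≤ E
    swap
    · exact step_centralizer hE ih hbig
    have hxE : x ∈ E := hbig ⟨F.mem_x, fun e he => (F.central e (hE.le he)).eq⟩
    by_cases huni : ∀ a ∈ E, a ^ p = 1 → ∀ y ∈ (S : Subgroup K) ⊓ Subgroup.normalizer (E : Set K),
        y * a * y⁻¹ * a⁻¹ ∈ zpowers x
    · exact step_unipotent hp F.pow_x hiso hE hne ih hxE huni
    push Not at huni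
    obtain ⟨v, hv, hvp, y, ⟨hy, hyE⟩, hyv⟩ := huni
    have hvA : v ∉ A := fun hA => hyv (F.move_omega (hE.le hv) (mem_cA.1 hA).2 hvp hy)
    have hdE : y * v * y⁻¹ * v⁻¹ ∈ E := mul_mem ((mem_normalizer_iff.1 hyE v).1 hv) (inv_mem hv)
    have hd0 := hder y hy v (hE.le hv)
    obtain ⟨i, j, hij⟩ := F.omega _ (hE.le hdE) (mem_cA.1 hd0.1).2 hd0.2
    have hi : ¬ (p : ℤ) ∣ i := fun hd' => hyv (by
      rw [hij, zpow_eq_one_of_dvd F.pow_w hd', one_mul]
      exact ⟨j, rfl⟩)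
    have hwE : w ∈ E := by
      obtain ⟨c, d', hcd⟩ := ((Nat.prime_iff_prime_int).1 hpp).coprime_iff_not_dvd.2 hi
      have h1 : w ^ i ∈ E := by
        rw [show w ^ i = y * v * y⁻¹ * v⁻¹ * (x ^ j)⁻¹ by rw [hij, mul_inv_cancel_right]]
        exact mul_mem hdE (inv_mem (zpow_mem hxE _))
      have h2 := zpow_mem h1 d'
      rwa [← zpow_mul, show i * d' = 1 - c * (p : ℤ) by linear_combination hcd, zpow_sub, zpow_one,
        zpow_eq_one_of_dvd F.pow_w (dvd_mul_left _ _), inv_one, mul_one] at h2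
    have hΩE : Ω ≤ E ⊓ A := fun a ha => by
      refine ⟨?_, ha.1⟩
      obtain ⟨i', j', rfl⟩ := F.omega a ha.1.1 (mem_cA.1 ha.1).2 ha.2
      exact E.mul_mem (E.zpow_mem hwE i') (E.zpow_mem hxE j')
    have hcE := F.card_inf_cA hE.le hv hvA hvp
    have hlt : Nat.card E < p ^ 4 := by
      rw [← hn]
      exact lt_of_not_ge fun hge => hne (eq_of_le_of_card_ge hE.le hge)
    have hEA : Ω = E ⊓ A := by
      refine eq_of_le_of_card_ge hΩE ?_
      rw [F.card_omega]
      obtain ⟨m, hm⟩ := (S.2.to_le (inf_le_left.trans hE.le) : IsPGroup p (E ⊓ A : Subgroup K)).exists_card_eq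
      rw [← hcE, hm, ← pow_succ] at hlt
      rw [hm]
      exact Nat.pow_le_pow_right hpp.pos (by have := (Nat.pow_lt_pow_iff_right hpp.one_lt).1 hlt; omega)
    have hEC : E ≤ C := fun e he => by
      obtain ⟨k, hk⟩ := F.exists_pow_mul (hE.le hv) hvA (hE.le he)
      have hmem : (v ^ k)⁻¹ * e ∈ Ω := hEA.ge ⟨E.mul_mem (E.inv_mem (E.pow_mem hv k)) he, hk⟩
      have h1 := mul_mem (_root_.pow_mem ((hCp v (hE.le hv)).2 hvp) k) (hΩC hmem)
      rwa [mul_inv_cancel_left] at h1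
    intro n hn' e he
    exact mul_mem (inv_mem (hEC he)) (hEC (by simpa using (mem_normalizer_iff.1 (inv_mem hn') e).1 he))

end Cfsg.Agent.IsolatedRank
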