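import Cfsg.Agent.Lib.IsolatedRank.ThreeLocal

/-!
For `p = 3` a frame with small centralizers in a perfect group has order an odd power of `3`.
-/

set_option autoImplicit false

namespace Cfsg.Agent.IsolatedRank

open Subgroup Cfsg.Agent.CharP
open Cfsg.Agent.PGroups.MaximalClass
open scoped commutatorElement


/-- Commutators of inverted elements. -/
theorem commutator_inverted {V : Type*} [Group V] {c a z z0 : V} (hz : ∀ g, Commute z g) (hcz : Commute c z0)
    (hg : ∀ g, Commute ⁅c, a⁆ g) :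
    ⁅c * z, a⁻¹ * z0⁆ = ⁅c, a⁆⁻¹ ∧ ⁅c⁻¹ * z, a⁻¹ * z0⁆ = ⁅c, a⁆ := by
  have h1 : ∀ c : V, Commute c z0 → ⁅c * z, a⁻¹ * z0⁆ = ⁅c, a⁻¹⁆ := fun c hcz => by
    have e1 : z * (a⁻¹ * z0) * z⁻¹ = a⁻¹ * z0 := by rw [(hz _).eq, mul_inv_cancel_right]
    calc ⁅c * z, a⁻¹ * z0⁆ = c * (z * (a⁻¹ * z0) * z⁻¹) * c⁻¹ * (a⁻¹ * z0)⁻¹ := by
          rw [commutatorElement_def]; group
      _ = c * a⁻¹ * (z0 * c⁻¹) * z0⁻¹ * a := by rw [e1]; group
      _ = _ := by rw [← hcz.inv_left.eq, commutatorElement_def]; group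
  have h2 : ⁅c, a⁻¹⁆ = ⁅c, a⁆⁻¹ := by
    calc ⁅c, a⁻¹⁆ = a⁻¹ * ⁅c, a⁆⁻¹ * a := by rw [commutatorElement_def, commutatorElement_def]; group
      _ = _ := by rw [mul_assoc, ((hg a).inv_left).eq, inv_mul_cancel_left]
  refine ⟨(h1 c hcz).trans h2, (h1 c⁻¹ hcz.inv_left).trans ?_⟩
  calc ⁅c⁻¹, a⁻¹⁆ = c⁻¹ * ⁅c, a⁻¹⁆⁻¹ * c := by rw [commutatorElement_def, commutatorElement_def]; group
    _ = _ := by rw [h2, inv_inv, mul_assoc, (hg c).eq, inv_mul_cancel_left]

/-- An endomorphism inverting a group modulo its derived subgroup acts on the `j`-th layer of the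
lower central series by the sign `(-1) ^ (j + 1)`. -/
theorem layer_sign {X : Type*} [Group X] [Finite X] (φ : X →* X) (h0 : ∀ a : X, a * φ a ∈ lcs X 1) :
    ∀ j : ℕ, ∀ c ∈ lcs X j, (Even j → c * φ c ∈ lcs X (j + 1)) ∧ (¬ Even j → c⁻¹ * φ c ∈ lcs X (j + 1)) := by
  intro j
  induction j with
  | zero => exact fun c _ => ⟨fun _ => h0 c, fun h => absurd Even.zero h⟩
  | succ j ih =>
    set f := QuotientGroup.mk' (lcs X (j + 2))
    have hcent : ∀ z ∈ lcs X (j + 1), ∀ g, Commute (f z) g := fun z hz g => by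
      obtain ⟨g, rfl⟩ := QuotientGroup.mk'_surjective (lcs X (j + 2)) g
      exact SmallCentralizer.central_mod hz g
    have hφ : ∀ i, ∀ z ∈ lcs X i, φ z ∈ lcs X i := by
      intro i
      induction i with
      | zero => intro z _; rw [lcs_zero]; exact mem_top _
      | succ i ihi =>
        intro z hz
        have hle : lcs X (i + 1) ≤ (lcs X (i + 1)).comap φ := by
          conv_lhs => rw [lcs_succ]
          rw [commutator_le]
          intro a ha b _
          rw [mem_comap, map_commutatorElement, lcs_succ]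
          exact commutator_mem_commutator (ihi a ha) (mem_top _)
        exact hle hz
    -- the elements of the layer with the right sign
    let H : Subgroup X :=
      { carrier := {c | c ∈ lcs X (j + 1) ∧ f (φ c) = if Even (j + 1) then (f c)⁻¹ else f c}
        one_mem' := ⟨one_mem _, by rw [map_one φ, map_one f]; split_ifs <;> first | rfl | exact inv_one.symm⟩
        mul_mem' := fun {a b} ha hb => ⟨mul_mem ha.1 hb.1, by
          rw [map_mul φ, map_mul f, ha.2, hb.2, map_mul f]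
          split_ifs
          · rw [mul_inv_rev, ((hcent a ha.1 (f b)).inv_inv).eq]
          · rfl⟩
        inv_mem' := fun {a} ha => ⟨inv_mem ha.1, by
          rw [map_inv φ, map_inv f, ha.2, map_inv f]
          split_ifs <;> rfl⟩ }
    have hle : lcs X (j + 1) ≤ H := by
      conv_lhs => rw [lcs_succ]
      rw [commutator_le]
      intro c hc a _
      have hd : ⁅c, a⁆ ∈ lcs X (j + 1) := by
        rw [lcs_succ]; exact commutator_mem_commutator hc (mem_top a)
      have hca : ∀ g, Commute ⁅f c, f a⁆ g := fun g => by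
        rw [← map_commutatorElement]; exact hcent _ hd g
      have hz0 : Commute (f c) (f (a * φ a)) := by
        rw [← commutatorElement_eq_one_iff_commute, ← map_commutatorElement]
        exact (QuotientGroup.eq_one_iff _).2 (SmallCentralizer.lcs_commutator_le j 1
          (commutator_mem_commutator hc (h0 a)))
      have ea : f (φ a) = (f a)⁻¹ * f (a * φ a) := by rw [map_mul, inv_mul_cancel_left]
      refine ⟨hd, ?_⟩
      rw [map_commutatorElement φ, map_commutatorElement f, map_commutatorElement f, ea]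
      by_cases hj : Even j
      · have hz : c * φ c ∈ lcs X (j + 1) := (ih c hc).1 hj
        have ec : f (φ c) = (f c)⁻¹ * f (c * φ c) := by rw [map_mul, inv_mul_cancel_left]
        rw [if_neg (fun h => (Nat.even_add_one.1 h) hj), ec]
        exact (commutator_inverted (hcent _ hz) hz0 hca).2
      · have hz : c⁻¹ * φ c ∈ lcs X (j + 1) := (ih c hc).2 hj
        have ec : f (φ c) = f c * f (c⁻¹ * φ c) := by rw [map_mul f, map_inv, mul_inv_cancel_left]
        rw [if_pos (Nat.even_add_one.2 hj), ec]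
        exact (commutator_inverted (hcent _ hz) hz0 hca).1
    intro c hc
    have h1 := (hle hc).2
    refine ⟨fun he => ?_, fun he => ?_⟩
    · rw [if_pos he] at h1
      refine (QuotientGroup.eq_one_iff _).1 (show f (c * φ c) = 1 from ?_)
      rw [map_mul, h1, mul_inv_cancel]
    · rw [if_neg he] at h1
      refine (QuotientGroup.eq_one_iff _).1 (show f (c⁻¹ * φ c) = 1 from ?_)
      rw [map_mul, map_inv, h1, inv_mul_cancel]

variable {K : Type*} [Group K] [Finite K] {p : ℕ} [Fact p.Prime] {P : Subgroup K} {x w u : K}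

/-- In order at least `p ^ 4`, `p = 3`, `w` is a commutator element. -/
theorem Frame.w_mem_commutator (F : Frame p P x w) (hS : SmallCent p P x w) (hu : u ∈ P) (huA : u ∉ cA P w)
    (hup : u ^ p = 1) (hp3 : p = 3) {n : ℕ} (hn : Nat.card P = p ^ n) (hn4 : 4 ≤ n) :
    w ∈ ⁅P, P⁆ := by
  have hmem : ∀ c : lcs P (n - 3), ((c : P) : K) ∈ IsolatedRank.omega F.pcentral := fun c =>
    ⟨mem_subgroupOf.1 (F.lcs_le_cA (by omega) c.2),
      congrArg Subtype.val (F.lcs_pow_eq_one hS hu huA hup hn (i := n - 3) (by omega) (by omega) c.2)⟩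
  let f : lcs P (n - 3) → IsolatedRank.omega F.pcentral := fun c => ⟨_, hmem c⟩
  have hf : Function.Injective f := fun a b e => by
    have e' := congrArg Subtype.val e
    exact Subtype.ext (Subtype.ext e')
  have hc := F.card_lcs hS hu huA hup hn (i := n - 3) (by omega) (by omega)
  rw [show n - 1 - (n - 3) = 2 by omega] at hc
  obtain ⟨c, hcw⟩ := (hf.bijective_of_nat_card_le (by rw [F.card_omega, hc])).2
    ⟨w, mem_cA.2 ⟨F.mem_w, Commute.refl w⟩, F.pow_w⟩
  rw [← map_subtype_commutator]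
  have h1 := lcs_antitone (G := P) (show 1 ≤ n - 3 by omega) c.2
  rw [lcs_one] at h1
  exact ⟨_, h1, congrArg Subtype.val hcw⟩

theorem three_odd (hperf : commutator K = ⊤) (hiso : Cfsg.IsIsolated x) (S : Sylow p K)
    (F : Frame p (S : Subgroup K) x w) (hS : SmallCent p (S : Subgroup K) x w)
    (hu : u ∈ (S : Subgroup K)) (huA : u ∉ cA (S : Subgroup K) w) (hup : u ^ p = 1) (hp3 : p = 3) {n : ℕ}
    (hn : Nat.card (S : Subgroup K) = p ^ n) (hn4 : 4 ≤ n) : ¬ Even n := by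
  intro heven
  have hpp : p.Prime := Fact.out
  have hp : p ≠ 2 := by omega
  set P := (S : Subgroup K)
  have hder : ∀ a ∈ P, ∀ b ∈ P, a⁻¹ * (b⁻¹ * a * b) ∈ ⁅P, P⁆ := fun a ha b hb => by
    have h := commutator_mem_commutator (inv_mem ha) (inv_mem hb)
    convert h using 1
    rw [commutatorElement_def]
    group
  have hDA : ⁅P, P⁆ ≤ cA P w := commutator_le.2 fun a ha b hb => F.commutator_mem ha hb
  have hwD := F.w_mem_commutator hS hu huA hup hp3 hn hn4
  have hxA : x ∈ cA P w := mem_cA.2 ⟨F.mem_x, (F.central w F.mem_w).symm⟩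
  have hwA : w ∈ cA P w := mem_cA.2 ⟨F.mem_w, Commute.refl w⟩
  have hxD : x ∈ ⁅P, P⁆ := by
    obtain ⟨g, hg, hgw⟩ := F.nc
    obtain ⟨c, hc⟩ := F.move g hg
    have h1 : x ^ c ∈ ⁅P, P⁆ := by
      have h := commutator_mem_commutator hg F.mem_w
      rwa [commutatorElement_def, hc, ((F.central w F.mem_w).zpow_right c).eq, mul_inv_cancel_right] at h
    obtain ⟨α, β, hab⟩ := ((Nat.prime_iff_prime_int).1 hpp).coprime_iff_not_dvd.2
      (fun hd => hgw (by rw [hc, zpow_eq_one_of_dvd F.pow_x hd, mul_one]) : ¬ (p : ℤ) ∣ c)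
    have h2 := zpow_mem h1 β
    rwa [← zpow_mul, show c * β = 1 - α * (p : ℤ) by linear_combination hab, zpow_sub, zpow_one,
      zpow_eq_one_of_dvd F.pow_x (dvd_mul_left _ _), inv_one, mul_one] at h2
  have hfix : ∀ h ∈ Subgroup.normalizer (P : Set K), Commute h x := fun h hh => mul_inv_eq_iff_eq_mul.1
    (isolated_eq_of_pgroup hiso S.2 F.mem_x ((mem_normalizer_iff.1 hh x).1 F.mem_x))
  have hbig : p ^ 3 < Nat.card P := by rw [hn]; exact Nat.pow_lt_pow_right hpp.one_lt (by omega)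
  have hwform : ∀ h ∈ Subgroup.normalizer (P : Set K), ∃ i j : ℤ, h * w * h⁻¹ = w ^ i * x ^ j := fun h hh =>
    F.conj_w_form hS le_rfl F.mem_w hu huA hup hbig hh (hfix h hh)
  have hkey : ∀ Fs : Subgroup K, x ∈ Fs → w ∈ Fs → ∀ E, Techniques.Alperin.Basic.FullyNormalized p P E →
      E ≠ P → IH S Fs E → ∀ m ∈ Subgroup.normalizer (E : Set K), Inv Fs E m :=
    fun Fs hx hw E hE hne ih => three_key hp3 hiso F hS hx hw hE hne ih
  by_cases hall : ∀ h ∈ Subgroup.normalizer (P : Set K), (orderOf h).Coprime p → Commute h w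
  · have h := reduce hperf S (F := cA P w) (fun a ha b hb => hDA (hder a ha b hb)) (fun h hh ho d hd => ?_)
      (hkey _ hxA hwA)
    · exact huA (h hu)
    · rw [mul_assoc h⁻¹, F.centralizes hp le_rfl ho hh (hfix h hh) (hall h hh ho) d hd, inv_mul_cancel_left,
        inv_mul_cancel]
      exact one_mem _
  push Not at hall
  obtain ⟨h, hh, ho, hnw⟩ := hall
  have hp0 : (p : ℤ) = 3 := by exact_mod_cast hp3
  have hminus : ∀ g ∈ Subgroup.normalizer (P : Set K), (orderOf g).Coprime p → ¬ Commute g w →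
      ∃ i j : ℤ, g * w * g⁻¹ = w ^ i * x ^ j ∧ (p : ℤ) ∣ i + 1 := by
    intro g hg hog hgw
    obtain ⟨i, j, hij⟩ := hwform g hg
    refine ⟨i, j, hij, ?_⟩
    by_contra hne
    rcases (by rw [hp0] at hne ⊢; omega : (p : ℤ) ∣ i ∨ (p : ℤ) ∣ i - 1) with hd | hd
    · refine F.w_not ⟨j, ?_⟩
      show x ^ j = w
      rw [zpow_eq_one_of_dvd F.pow_w hd, one_mul] at hij
      calc x ^ j = g⁻¹ * x ^ j * g := by rw [((hfix g hg).inv_left.zpow_right j).eq, inv_mul_cancel_right]
        _ = w := by rw [← hij]; group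
    · refine hgw (F.commute_w hog (hfix g hg) (j := j) ?_)
      rw [hij, zpow_congr_dvd F.pow_w hd, zpow_one]
  have hwx : Commute w x := F.central w F.mem_w
  have hcx : ∀ (g : K) (l : ℤ), g ∈ Subgroup.normalizer (P : Set K) → g * x ^ l * g⁻¹ = x ^ l := fun g l hg => by
    rw [((hfix g hg).zpow_right l).eq, mul_inv_cancel_right]
  obtain ⟨i, j, hij, hdi⟩ := hminus h hh ho hnw
  -- `h` induces an involution on `P`
  have hh2 : h * h ∈ centralizer (P : Set K) := by
    have hoo : (orderOf (h * h)).Coprime p := by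
      rw [← pow_two]
      exact Nat.Coprime.coprime_dvd_left (orderOf_pow_dvd 2) ho
    refine F.centralizes hp le_rfl hoo (mul_mem hh hh) (hfix _ (mul_mem hh hh)) ?_
    refine F.commute_w hoo (hfix _ (mul_mem hh hh)) (j := j * i + j) ?_
    have hdd : (p : ℤ) ∣ i * i - 1 := by
      have h := (hdi.mul_left i).sub hdi
      rwa [show i * (i + 1) - (i + 1) = i * i - 1 by ring] at h
    calc h * h * w * (h * h)⁻¹ = h * (h * w * h⁻¹) * h⁻¹ := by group
      _ = (h * w * h⁻¹) ^ i * (h * x ^ j * h⁻¹) := by rw [conj_zpow, hij]; group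
      _ = _ := by
        rw [hij, hcx h j hh, (hwx.zpow_zpow _ _).mul_zpow, ← zpow_mul, ← zpow_mul, mul_assoc, ← zpow_add,
          zpow_congr_dvd F.pow_w hdd, zpow_one]
  have hflip : ∀ d ∈ P, h⁻¹ * d * h = h * d * h⁻¹ := by
    intro d hd
    have hd' : h * d * h⁻¹ ∈ P := (mem_normalizer_iff.1 hh d).1 hd
    calc h⁻¹ * d * h = h⁻¹ * (d * (h * h)) * h⁻¹ := by group
      _ = h⁻¹ * (h * h * d) * h⁻¹ := by rw [hh2 d hd]
      _ = _ := by group
  set e := u⁻¹ * (h * u * h⁻¹) with he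
  have heP : e ∈ P := mul_mem (inv_mem hu) ((mem_normalizer_iff.1 hh u).1 hu)
  have hei : h * e * h⁻¹ = e⁻¹ := by
    have h1 : h * (h * u * h⁻¹) * h⁻¹ = u := by
      calc h * (h * u * h⁻¹) * h⁻¹ = h * h * u * (h * h)⁻¹ := by group
        _ = u := by rw [(hh2 u hu).symm, mul_inv_cancel_right]
    calc h * e * h⁻¹ = (h * u * h⁻¹)⁻¹ * (h * (h * u * h⁻¹) * h⁻¹) := by rw [he]; group
      _ = _ := by rw [h1, he]; group
  have heA : e ∉ cA P w := by
    intro heA
    refine hnw (F.commute_of_coset ho (hfix h hh) hu huA hij ?_)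
    rw [show h * u * h⁻¹ = u * e by rw [he]; group]
    calc u * e * w * (u * e)⁻¹ = u * (e * w * e⁻¹) * u⁻¹ := by group
      _ = _ := by rw [conj_eq_iff.2 (mem_cA.1 heA).2]
  have hepp : e ^ p = 1 := by
    by_contra hne
    obtain ⟨m, hm⟩ := IsPGroup.iff_orderOf.1 F.pgrp ⟨e ^ p, _root_.pow_mem heP p⟩
    rw [orderOf_mk] at hm
    obtain ⟨m', rfl⟩ : ∃ m', m = m' + 1 := Nat.exists_eq_succ_of_ne_zero fun h0 => hne
      (orderOf_eq_one_iff.1 (by rw [hm, h0, pow_zero]))
    set a := (e ^ p) ^ p ^ m' with ha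
    have hap : a ^ p = 1 := by rw [ha, ← pow_mul, ← pow_succ, ← hm, pow_orderOf_eq_one]
    have hax := F.mem_zpowers_of_commute heP heA (_root_.pow_mem (F.pow_mem heP) _) hap
      (((Commute.refl e).pow_right p).pow_right _)
    obtain ⟨c, hc⟩ := mem_zpowers_iff.1 hax
    have h1 : h * a * h⁻¹ = a⁻¹ := by
      show h * ((e ^ p) ^ p ^ m') * h⁻¹ = ((e ^ p) ^ p ^ m')⁻¹
      rw [← conj_pow, ← conj_pow, hei, inv_pow, inv_pow]
    have hc' : x ^ c = a := hc
    rw [← hc', hcx h c hh, hc'] at h1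
    have h2 : a ^ 2 = 1 := by rw [pow_two]; nth_rw 1 [h1]; rw [inv_mul_cancel]
    have h3 : orderOf a ∣ 1 := by
      have := Nat.dvd_gcd (orderOf_dvd_of_pow_eq_one hap) (orderOf_dvd_of_pow_eq_one h2)
      rwa [show Nat.gcd p 2 = 1 by rw [hp3]; rfl] at this
    have h4 : orderOf (e ^ p) ∣ p ^ m' :=
      orderOf_dvd_of_pow_eq_one (orderOf_eq_one_iff.1 (Nat.dvd_one.1 h3))
    rw [hm] at h4
    exact absurd ((Nat.pow_dvd_pow_iff_le_right hpp.one_lt).1 h4) (by omega)
  -- `C_P(w)` modulo the derived subgroup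
  have hcD : Nat.card (⁅P, P⁆ : Subgroup K) = p ^ (n - 2) := by
    have h1 := F.card_lcs hS hu huA hup hn (i := 1) le_rfl (by omega)
    rw [lcs_one] at h1
    rw [← map_subtype_commutator, card_map_of_injective P.subtype_injective, h1]
    congr 1
  have hcA : Nat.card (cA P w) = p ^ (n - 1) := by
    have h1 := F.card_inf_cA le_rfl hu huA hup
    rw [inf_eq_right.2 F.cA_le, hn] at h1
    refine Nat.eq_of_mul_eq_mul_right hpp.pos ?_
    rw [h1, ← pow_succ]
    congr 1
    omega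
  obtain ⟨g, hg, hgD⟩ : ∃ g ∈ cA P w, g ∉ ⁅P, P⁆ := by
    by_contra hno
    push Not at hno
    have := card_le_of_le (show cA P w ≤ ⁅P, P⁆ from hno)
    rw [hcA, hcD, Nat.pow_le_pow_iff_right hpp.one_lt] at this
    omega
  have hDn : ∀ t ∈ P, ∀ c ∈ ⁅P, P⁆, t * c * t⁻¹ ∈ ⁅P, P⁆ := fun t ht c hc => by
    have h := mul_mem (commutator_mem_commutator ht (F.cA_le (hDA hc))) hc
    convert h using 1
    rw [commutatorElement_def]
    group
  have hgmod : ∀ a ∈ cA P w, ∃ l : ℕ, (g ^ l)⁻¹ * a ∈ ⁅P, P⁆ := by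
    intro a ha
    haveI : (⁅P, P⁆.subgroupOf (cA P w)).Normal := ⟨fun c hc t => mem_subgroupOf.2 (by
      push_cast
      exact hDn t (F.cA_le t.2) c (mem_subgroupOf.1 hc))⟩
    have h1 := card_eq_card_quotient_mul_card_subgroup (⁅P, P⁆.subgroupOf (cA P w))
    rw [Nat.card_congr (subgroupOfEquivOfLe hDA).toEquiv, hcA, hcD, show n - 1 = n - 2 + 1 by omega, pow_succ'] at h1
    have hcard := (Nat.eq_of_mul_eq_mul_right (pow_pos hpp.pos (n - 2)) h1).symm
    have hne : QuotientGroup.mk' (⁅P, P⁆.subgroupOf (cA P w)) ⟨g, hg⟩ ≠ 1 := fun e1 =>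
      hgD (mem_subgroupOf.1 ((QuotientGroup.eq_one_iff _).1 e1))
    obtain ⟨l, hl⟩ := mem_powers_of_prime_card
      (g' := QuotientGroup.mk' (⁅P, P⁆.subgroupOf (cA P w)) ⟨a, ha⟩) hcard hne
    refine ⟨l, ?_⟩
    have h3 : ((⟨g, hg⟩ : cA P w) ^ l)⁻¹ * ⟨a, ha⟩ ∈ ⁅P, P⁆.subgroupOf (cA P w) := QuotientGroup.eq.1 (by
      rw [← QuotientGroup.mk'_apply, ← QuotientGroup.mk'_apply, map_pow]
      exact hl)
    simpa using mem_subgroupOf.1 h3
  have hgp : g ^ p ∈ ⁅P, P⁆ := by
    have h1 := pow_dvd_index (p := p) F.pgrp (G := P) (fun e1 => ?_) 1 le_rfl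
    · haveI : (⁅P, P⁆.subgroupOf (cA P w)).Normal := ⟨fun c hc t => mem_subgroupOf.2 (by
        push_cast
        exact hDn t (F.cA_le t.2) c (mem_subgroupOf.1 hc))⟩
      have h1 := card_eq_card_quotient_mul_card_subgroup (⁅P, P⁆.subgroupOf (cA P w))
      rw [Nat.card_congr (subgroupOfEquivOfLe hDA).toEquiv, hcA, hcD, show n - 1 = n - 2 + 1 by omega, pow_succ'] at h1
      have h2 := pow_card_eq_one' (x := QuotientGroup.mk' (⁅P, P⁆.subgroupOf (cA P w)) ⟨g, hg⟩)
      rw [(Nat.eq_of_mul_eq_mul_right (pow_pos hpp.pos (n - 2)) h1).symm, ← map_pow] at h2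
      simpa using mem_subgroupOf.1 ((QuotientGroup.eq_one_iff _).1 h2)
    · have := congrArg (Subgroup.map P.subtype) e1
      rw [map_subtype_commutator, Subgroup.map_bot] at this
      rw [this, mem_bot] at hxD
      exact F.x_ne hxD
  have hgA' : h * g * h⁻¹ ∈ cA P w :=
    (mem_normalizer_iff.1 (F.mem_normalizer_cA hh (hfix h hh) hij) g).1 hg
  obtain ⟨l, hl⟩ := hgmod _ hgA'
  -- quotients by normal subgroups containing the derived subgroup
  let φ : P →* P :=
    { toFun := fun y => ⟨h * y * h⁻¹, (mem_normalizer_iff.1 hh y).1 y.2⟩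
      map_one' := Subtype.ext (by simp)
      map_mul' := fun y z => Subtype.ext (by push_cast; group) }
  have hdecomp : ∀ y : P, ∃ (k m : ℕ) (c : P), (c : K) ∈ ⁅P, P⁆ ∧
      y = ⟨e, heP⟩ ^ k * ⟨g, hg.1⟩ ^ m * c := by
    intro y
    obtain ⟨k, hk⟩ := F.exists_pow_mul heP heA y.2
    obtain ⟨m, hm⟩ := hgmod _ hk
    exact ⟨k, m, ⟨_, F.cA_le (hDA hm)⟩, hm, Subtype.ext (by push_cast; group)⟩
  have hDφ : ∀ c : P, (c : K) ∈ ⁅P, P⁆ → ((φ c : P) : K) ∈ ⁅P, P⁆ := by
    intro c hc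
    have : ⁅P, P⁆.map (MulAut.conj h).toMonoidHom = ⁅P, P⁆ := by
      rw [map_commutator]
      exact congrArg (fun Y => ⁅Y, Y⁆) (mem_normalizer_iff_map_conj_eq.1 hh)
    exact this.le ⟨_, hc, rfl⟩
  have hlsq : (p : ℤ) ∣ (l : ℤ) * l - 1 := by
    set D' := ⁅P, P⁆.subgroupOf P
    haveI : D'.Normal := ⟨fun c hc t => mem_subgroupOf.2 (by
      push_cast
      exact hDn t t.2 c (mem_subgroupOf.1 hc))⟩
    set π := QuotientGroup.mk' D'
    have hπl : π (φ ⟨g, hg.1⟩) = π ⟨g, hg.1⟩ ^ l := by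
      rw [← map_pow, eq_comm]
      exact QuotientGroup.eq.2 (mem_subgroupOf.2 hl)
    have hπp : π ⟨g, hg.1⟩ ^ p = 1 := by
      rw [← map_pow]
      exact (QuotientGroup.eq_one_iff _).2 (mem_subgroupOf.2 (by simpa using hgp))
    have hπne : π ⟨g, hg.1⟩ ≠ 1 := fun e1 => hgD (mem_subgroupOf.1 ((QuotientGroup.eq_one_iff _).1 e1))
    have hψ : D' ≤ D'.comap φ := fun c hc => show φ c ∈ D' from mem_subgroupOf.2 (hDφ c (mem_subgroupOf.1 hc))
    have h2 : π (φ (φ ⟨g, hg.1⟩)) = π ⟨g, hg.1⟩ := by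
      refine congrArg π (Subtype.ext ?_)
      show h * (h * g * h⁻¹) * h⁻¹ = g
      calc h * (h * g * h⁻¹) * h⁻¹ = h * h * g * (h * h)⁻¹ := by group
        _ = g := by rw [(hh2 g hg.1).symm, mul_inv_cancel_right]
    have h3 : π ⟨g, hg.1⟩ ^ (((l : ℤ) * l) - 1) = 1 := by
      have h4 : π (φ (φ ⟨g, hg.1⟩)) = π (φ ⟨g, hg.1⟩) ^ l := by
        rw [← map_pow π, ← map_pow φ]
        exact congrArg (QuotientGroup.map D' D' φ hψ) (hπl.trans (map_pow π _ _).symm)
      rw [zpow_sub, zpow_one, mul_inv_eq_one, ← Nat.cast_mul, zpow_natCast, pow_mul, ← hπl, ← h4, h2]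
    rw [← orderOf_eq_prime hπp hπne]
    exact orderOf_dvd_iff_zpow_eq_one.2 h3
  have hl2 : (p : ℤ) ∣ (l : ℤ) - 1 ∨ (p : ℤ) ∣ (l : ℤ) + 1 := by
    rw [show (l : ℤ) * l - 1 = ((l : ℤ) - 1) * ((l : ℤ) + 1) by ring] at hlsq
    exact Int.Prime.dvd_mul' hpp hlsq
  rcases hl2 with hl1 | hl1
  · set Fs := zpowers e ⊔ ⁅P, P⁆
    have hzn : zpowers e ≤ Subgroup.normalizer ((⁅P, P⁆ : Subgroup K) : Set K) :=
      le_normalizer_iff.2 fun t ht c hc => hDn t ((zpowers_le.2 heP) ht) c hc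
    have hFP : Fs ≤ P := sup_le (zpowers_le.2 heP) (hDA.trans F.cA_le)
    haveI hFn : (Fs.subgroupOf P).Normal := ⟨fun c hc t => mem_subgroupOf.2 (by
      have h1 := mul_mem (mem_sup_right (S := zpowers e) (commutator_mem_commutator t.2 c.2)) (mem_subgroupOf.1 hc)
      convert h1 using 1
      push_cast
      rw [commutatorElement_def]
      group)⟩
    set π := QuotientGroup.mk' (Fs.subgroupOf P)
    have hπD : ∀ c : P, (c : K) ∈ ⁅P, P⁆ → π c = 1 := fun c hc =>
      (QuotientGroup.eq_one_iff _).2 (mem_subgroupOf.2 (mem_sup_right hc))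
    have hπe : π ⟨e, heP⟩ = 1 :=
      (QuotientGroup.eq_one_iff _).2 (mem_subgroupOf.2 (mem_sup_left (mem_zpowers e)))
    have hπφe : π (φ ⟨e, heP⟩) = 1 := by
      rw [show φ ⟨e, heP⟩ = (⟨e, heP⟩ : P)⁻¹ from Subtype.ext hei, map_inv, hπe, inv_one]
    have hgp' : π ⟨g, hg.1⟩ ^ p = 1 := by rw [← map_pow]; exact hπD _ (by simpa using hgp)
    have hπφg : π (φ ⟨g, hg.1⟩) = π ⟨g, hg.1⟩ := by
      have h1 : φ ⟨g, hg.1⟩ = ⟨g, hg.1⟩ ^ l * ⟨(g ^ l)⁻¹ * (h * g * h⁻¹), F.cA_le (hDA hl)⟩ :=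
        Subtype.ext (show h * g * h⁻¹ = _ by push_cast; group)
      rw [h1, map_mul, map_pow, hπD ⟨_, F.cA_le (hDA hl)⟩ hl, mul_one, ← zpow_natCast, zpow_congr_dvd hgp' hl1,
        zpow_one]
    have hinvh : h ∈ invSub Fs P := ⟨hh, fun d hd => by
      obtain ⟨k, m, c, hc, hy⟩ := hdecomp ⟨d, hd⟩
      have h1 : π (φ ⟨d, hd⟩) = π ⟨d, hd⟩ := by
        rw [hy, map_mul φ, map_mul φ, map_pow φ, map_pow φ, map_mul π, map_mul π, map_pow π, map_pow π, hπφe, hπφg,
          hπD _ (hDφ c hc), map_mul π, map_mul π, map_pow π, map_pow π, hπe, hπD c hc]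
      rw [hflip d hd]
      exact mem_subgroupOf.1 (QuotientGroup.eq.1 h1.symm)⟩
    have h := reduce hperf S (F := Fs) (fun a ha b hb => mem_sup_right (hder a ha b hb)) (fun k hk hok => ?_)
      (hkey _ (mem_sup_right hxD) (mem_sup_right hwD))
    · have hgF : g ∈ Fs := h hg.1
      rw [show Fs = ⁅P, P⁆ ⊔ zpowers e from sup_comm _ _] at hgF
      obtain ⟨c, hc, t, ht, hct⟩ := (Coprime.mem_sup_of_le_normalizer hzn).1 hgF
      have htA : t ∈ cA P w := by
        rw [show t = c⁻¹ * g by rw [← hct, inv_mul_cancel_left]]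
        exact mul_mem (inv_mem (hDA hc)) hg
      rcases Techniques.IsolatedRankTwo.zpow_mem_cases hepp ht with h1 | h1
      · exact hgD (by rw [← hct, h1, mul_one]; exact hc)
      · exact heA ((zpowers_le.2 htA) h1)
    · by_cases hkw : Commute k w
      · intro d hd
        rw [mul_assoc k⁻¹, F.centralizes hp le_rfl hok hk (hfix k hk) hkw d hd, inv_mul_cancel_left, inv_mul_cancel]
        exact one_mem _
      obtain ⟨i', j', hij', hdi'⟩ := hminus k hk hok hkw
      let M : Subgroup K :=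
        { carrier := {m | m ∈ Subgroup.normalizer (P : Set K) ∧ ∃ r : ℤ, m * w * m⁻¹ = w * x ^ r}
          one_mem' := ⟨one_mem _, 0, by simp⟩
          mul_mem' := fun {m q} hm hq => ⟨mul_mem hm.1 hq.1, by
            obtain ⟨a, ha⟩ := hm.2
            obtain ⟨b, hb⟩ := hq.2
            refine ⟨a + b, ?_⟩
            calc m * q * w * (m * q)⁻¹ = m * (q * w * q⁻¹) * m⁻¹ := by group
              _ = m * w * m⁻¹ * (m * x ^ b * m⁻¹) := by rw [hb]; group
              _ = _ := by rw [ha, hcx m b hm.1, mul_assoc, ← zpow_add]⟩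
          inv_mem' := fun {m} hm => ⟨inv_mem hm.1, by
            obtain ⟨a, ha⟩ := hm.2
            refine ⟨-a, ?_⟩
            calc m⁻¹ * w * m⁻¹⁻¹ = m⁻¹ * (w * x ^ a) * (x ^ (-a) * m) := by group
              _ = m⁻¹ * (m * w * m⁻¹) * (m * x ^ (-a)) := by rw [ha, ← ((hfix m hm.1).zpow_right (-a)).eq]
              _ = _ := by group⟩ }
      have hkh : k * h ∈ M := by
        refine ⟨mul_mem hk hh, j' * i + j, ?_⟩
        have hdd : (p : ℤ) ∣ i' * i - 1 := by
          have h := (hdi.mul_left i').sub hdi'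
          rwa [show i' * (i + 1) - (i' + 1) = i' * i - 1 by ring] at h
        calc k * h * w * (k * h)⁻¹ = k * (h * w * h⁻¹) * k⁻¹ := by group
          _ = (k * w * k⁻¹) ^ i * (k * x ^ j * k⁻¹) := by rw [hij, conj_zpow]; group
          _ = _ := by
            rw [hij', hcx k j hk, (hwx.zpow_zpow _ _).mul_zpow, ← zpow_mul, ← zpow_mul, mul_assoc, ← zpow_add,
              zpow_congr_dvd F.pow_w hdd, zpow_one]
      have hPM : P ≤ M := fun t ht => ⟨le_normalizer ht, F.move t ht⟩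
      have hT : IsSylIn p P M :=
        isSylIn_of_not_dvd S.2 hPM fun hd => S.not_dvd_index (hd.trans (relIndex_dvd_index_of_le hPM))
      obtain ⟨c, hc, t, ht, hct⟩ := exists_mul_centralizer hT (fun m hm => hm.1) (fun m hm hom => by
        obtain ⟨r, hr⟩ := hm.2
        exact F.centralizes hp le_rfl hom hm.1 (hfix m hm.1) (F.commute_w hom (hfix m hm.1) hr)) _ hkh
      have hti : t ∈ invSub Fs P := ⟨le_normalizer ht, fun d hd => mem_sup_right (hder d hd t ht)⟩
      have hci : c ∈ invSub Fs P := ⟨centralizer_le_normalizer (s := (P : Set K)) hc, fun d hd => by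
        rw [mul_assoc c⁻¹, hc d hd, inv_mul_cancel_left, inv_mul_cancel]
        exact one_mem _⟩
      have hki : k ∈ invSub Fs P := by
        rw [show k = c * t * h⁻¹ by rw [← hct, mul_inv_cancel_right]]
        exact mul_mem (mul_mem hci hti) (inv_mem hinvh)
      exact hki.2
  · -- the layers alternate, so `x` would be inverted
    set π := QuotientGroup.mk' (lcs P 1)
    have hπD : ∀ c : P, (c : K) ∈ ⁅P, P⁆ → π c = 1 := fun c hc => by
      refine (QuotientGroup.eq_one_iff _).2 ?_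
      rw [lcs_one]
      rw [← map_subtype_commutator] at hc
      obtain ⟨c', hc', hcc⟩ := hc
      rwa [show c = c' from Subtype.ext hcc.symm]
    have hπc : ∀ a b : P, Commute (π a) (π b) := fun a b => by
      rw [← commutatorElement_eq_one_iff_commute, ← map_commutatorElement]
      refine (QuotientGroup.eq_one_iff _).2 ?_
      rw [lcs_one]
      exact commutator_mem_commutator (mem_top a) (mem_top b)
    have hgp' : π ⟨g, hg.1⟩ ^ p = 1 := by rw [← map_pow]; exact hπD _ (by simpa using hgp)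
    have h0 : ∀ a : P, a * φ a ∈ lcs P 1 := by
      intro a
      refine (QuotientGroup.eq_one_iff _).1 (show π (a * φ a) = 1 from ?_)
      have h1 : φ ⟨g, hg.1⟩ = ⟨g, hg.1⟩ ^ l * ⟨(g ^ l)⁻¹ * (h * g * h⁻¹), F.cA_le (hDA hl)⟩ :=
        Subtype.ext (show h * g * h⁻¹ = _ by push_cast; group)
      have hπφg : π (φ ⟨g, hg.1⟩) = (π ⟨g, hg.1⟩)⁻¹ := by
        rw [h1, map_mul, map_pow, hπD ⟨_, F.cA_le (hDA hl)⟩ hl, mul_one, ← zpow_natCast,
          zpow_congr_dvd hgp' (n := -1) (by simpa using hl1), zpow_neg_one]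
      obtain ⟨k, m, c, hc, rfl⟩ := hdecomp a
      rw [map_mul φ, map_mul φ, map_pow φ, map_pow φ, map_mul π, map_mul π, map_mul π, map_mul π, map_mul π,
        map_pow π, map_pow π, map_pow π, map_pow π, hπφg,
        show φ ⟨e, heP⟩ = (⟨e, heP⟩ : P)⁻¹ from Subtype.ext hei, map_inv π, hπD c hc, hπD _ (hDφ c hc), mul_one,
        mul_one, inv_pow, inv_pow, ((hπc ⟨e, heP⟩ ⟨g, hg.1⟩).pow_pow k m).inv_inv.eq]
      group
    have hx' : (⟨x, F.mem_x⟩ : P) ∈ lcs P (n - 2) := by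
      have hb : lcs P (n - 1) = ⊥ := lcs_eq_bot (p := p) (by omega) hn
      have hle : (lcs P (n - 2)).map P.subtype ≤ zpowers x := by
        rintro _ ⟨c, hc, rfl⟩
        refine (F.center_eq hS hu huA hup).1 (mem_center_iff.2 fun y => ?_)
        have h1 : ⁅c, y⁆ ∈ lcs P (n - 2 + 1) := by
          rw [lcs_succ]; exact commutator_mem_commutator hc (mem_top y)
        rw [show n - 2 + 1 = n - 1 by omega, hb, mem_bot, commutatorElement_eq_one_iff_mul_comm] at h1
        exact h1.symm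
      have hc := F.card_lcs hS hu huA hup hn (i := n - 2) (by omega) (by omega)
      rw [show n - 1 - (n - 2) = 1 by omega, pow_one] at hc
      have heq := eq_of_le_of_card_ge hle (by
        rw [card_map_of_injective P.subtype_injective, hc, Nat.card_zpowers, orderOf_eq_prime F.pow_x F.x_ne])
      obtain ⟨c, hc', hcx'⟩ := heq.ge (mem_zpowers x)
      rwa [show (⟨x, F.mem_x⟩ : P) = c from Subtype.ext hcx'.symm]
    have he2 : Even (n - 2) := by
      rw [Nat.even_sub (by omega)]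
      simp [heven]
    have h1 := (layer_sign φ h0 (n - 2) _ hx').1 he2
    rw [show n - 2 + 1 = n - 1 by omega, lcs_eq_bot (p := p) (by omega) hn, mem_bot] at h1
    have h2 : x * (h * x * h⁻¹) = 1 := congrArg Subtype.val h1
    rw [(hfix h hh).eq, mul_inv_cancel_right, ← pow_two] at h2
    have h3 := Nat.dvd_gcd (orderOf_dvd_of_pow_eq_one F.pow_x) (orderOf_dvd_of_pow_eq_one h2)
    rw [show Nat.gcd p 2 = 1 by rw [hp3]; rfl] at h3
    exact F.x_ne (orderOf_eq_one_iff.1 (Nat.dvd_one.1 h3))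

end Cfsg.Agent.IsolatedRank
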