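import Cfsg.Agent.Lib.IsolatedRank.CentralCase
import Cfsg.Agent.Lib.IsolatedRank.Three
import Cfsg.Agent.Lib.PLocal.CyclicExtension

/-!
The Sylow structure of a perfect group of `p`-rank at most two with an isolated element of order `p`.
-/

set_option autoImplicit false

namespace Cfsg.Agent.IsolatedRank

open Subgroup Cfsg.Agent.CharP

variable {K : Type*} [Group K] [Finite K] {p : ℕ} [Fact p.Prime]

/-- A noncyclic `p`-subgroup, `p` odd, has a normal elementary abelian subgroup of order `p ^ 2`. -/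
theorem exists_normal_sq (hp : p ≠ 2) {P : Subgroup K} (hP : IsPGroup p P) (hnc : ¬ IsCyclic P) :
    ∃ E : Subgroup P, E.Normal ∧ Cfsg.IsElementaryAbelian p E ∧ Nat.card E = p ^ 2 := by
  obtain ⟨E, -, hn, he, hc⟩ := PLocal.CyclicExtension.exists_normal_elementaryAbelian_sq hp hP ⊤
    fun h => hnc (Subgroup.topEquiv.isCyclic.mp h)
  exact ⟨E, hn, he, hc⟩

theorem exists_frame (hp : p ≠ 2) (hrank : Cfsg.PRankLE p 2 K) {x : K} (hxp : x ^ p = 1) (hx1 : x ≠ 1)
    (hiso : Cfsg.IsIsolated x) (S : Sylow p K) (hxS : x ∈ (S : Subgroup K)) (hc : ¬ PCentral p (S : Subgroup K)) :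
    ∃ w, Frame p (S : Subgroup K) x w := by
  have hpp : p.Prime := Fact.out
  have hcx : ∀ g ∈ (S : Subgroup K), Commute g x := fun g hg => isolated_commute_of_pgroup hiso S.2 hxS hg
  have hnc : ¬ IsCyclic (S : Subgroup K) := fun h => hc fun e he _ g hg => by
    letI : CommGroup (S : Subgroup K) := IsCyclic.commGroup
    exact congrArg Subtype.val (mul_comm (⟨g, hg⟩ : (S : Subgroup K)) ⟨e, he⟩)
  obtain ⟨E, hEn, ⟨hEc, hEp⟩, hE⟩ := exists_normal_sq hp S.2 hnc
  obtain ⟨a, haE, hax⟩ : ∃ a ∈ E, (a : K) ∉ zpowers x := by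
    by_contra hno
    push Not at hno
    have hle : E.map (S : Subgroup K).subtype ≤ zpowers x := by
      rintro _ ⟨a, ha, rfl⟩
      exact hno a ha
    have := card_le_of_le hle
    rw [card_map_of_injective (S : Subgroup K).subtype_injective, hE, Nat.card_zpowers, orderOf_eq_prime hxp hx1] at this
    exact absurd this (not_le.2 (by nlinarith [hpp.two_le]))
  set w := (a : K)
  have hwp : w ^ p = 1 := congrArg Subtype.val (hEp a haE)
  have hom : ∀ b ∈ (S : Subgroup K), Commute b w → b ^ p = 1 → ∃ i j : ℤ, b = w ^ i * x ^ j := by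
    intro b hb hbw hbp
    obtain ⟨s, hs, t, ht, rfl⟩ := Techniques.IsolatedRankTwo.exists_mul_eq hrank hwp hxp hbp (hcx w a.2)
      hbw.symm (hcx b hb).symm hx1 hax
    obtain ⟨i, rfl⟩ := mem_zpowers_iff.1 hs
    obtain ⟨j, rfl⟩ := mem_zpowers_iff.1 ht
    exact ⟨i, j, rfl⟩
  have hwx : Commute w x := hcx w a.2
  have hmove : ∀ g ∈ (S : Subgroup K), ∃ c : ℤ, g * w * g⁻¹ = w * x ^ c := by
    intro g hg
    have hgE : (⟨g, hg⟩ : (S : Subgroup K)) * a * (⟨g, hg⟩ : (S : Subgroup K))⁻¹ ∈ E := hEn.conj_mem a haE _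
    have hcm : Commute (g * w * g⁻¹) w := congrArg (fun e : E => ((e : (S : Subgroup K)) : K))
      (mul_comm' (⟨_, hgE⟩ : E) ⟨a, haE⟩)
    obtain ⟨i, j, hij⟩ := hom _ (mul_mem (mul_mem hg a.2) (inv_mem hg)) hcm
      (by rw [conj_pow, hwp, mul_one, mul_inv_cancel])
    have hiter : ∀ k : ℕ, ∃ c : ℤ, g ^ k * w * (g ^ k)⁻¹ = w ^ (i ^ k) * x ^ c := by
      intro k
      induction k with
      | zero => exact ⟨0, by simp⟩
      | succ k ih =>
        obtain ⟨c, hc⟩ := ih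
        refine ⟨j * i ^ k + c, ?_⟩
        calc g ^ (k + 1) * w * (g ^ (k + 1))⁻¹ = g * (g ^ k * w * (g ^ k)⁻¹) * g⁻¹ := by rw [pow_succ']; group
          _ = (g * w * g⁻¹) ^ (i ^ k) * (g * x ^ c * g⁻¹) := by rw [hc, conj_zpow]; group
          _ = _ := by
            rw [hij, ((hcx g hg).zpow_right c).eq, mul_inv_cancel_right, (hwx.zpow_zpow _ _).mul_zpow, ← zpow_mul,
              ← zpow_mul, mul_assoc, ← zpow_add, ← pow_succ']
    obtain ⟨m, hm⟩ := IsPGroup.iff_orderOf.1 S.2 ⟨g, hg⟩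
    rw [orderOf_mk] at hm
    obtain ⟨c, hc⟩ := hiter (orderOf g)
    rw [pow_orderOf_eq_one, one_mul, inv_one, mul_one, hm] at hc
    have hd : (p : ℤ) ∣ i ^ p ^ m - 1 := by
      by_contra hd
      obtain ⟨α, β, hab⟩ := ((Nat.prime_iff_prime_int).1 hpp).coprime_iff_not_dvd.2 hd
      refine hax ⟨-c * β, ?_⟩
      show x ^ (-c * β) = w
      rw [zpow_mul, zpow_neg, show (x ^ c)⁻¹ = w ^ (i ^ p ^ m - 1) from by
        rw [zpow_sub_one]
        calc (x ^ c)⁻¹ = (w ^ (i ^ p ^ m) * x ^ c)⁻¹ * w ^ (i ^ p ^ m) := by group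
          _ = w⁻¹ * w ^ (i ^ p ^ m) := by rw [← hc]
          _ = _ := ((Commute.refl w).zpow_right _).inv_left.eq,
        ← zpow_mul, show (i ^ p ^ m - 1) * β = 1 - α * (p : ℤ) by linear_combination hab, zpow_sub, zpow_one,
        zpow_eq_one_of_dvd hwp (dvd_mul_left _ _), inv_one, mul_one]
    have hd1 : (p : ℤ) ∣ i - 1 := by
      have h1 : ((i ^ p ^ m - 1 : ℤ) : ZMod p) = 0 := (ZMod.intCast_zmod_eq_zero_iff_dvd _ _).2 hd
      refine (ZMod.intCast_zmod_eq_zero_iff_dvd _ _).1 ?_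
      rwa [Int.cast_sub, Int.cast_pow, ZMod.pow_card_pow, ← Int.cast_sub] at h1
    exact ⟨j, by rw [hij, zpow_congr_dvd hwp hd1, zpow_one]⟩
  refine ⟨w, ⟨S.2, hxS, hxp, hx1, hcx, a.2, hwp, hax, hmove, ?_, hom⟩⟩
  by_contra hno
  push Not at hno
  refine hc fun b hb hbp g hg => ?_
  obtain ⟨i, j, rfl⟩ := hom b hb (mul_inv_eq_iff_eq_mul.1 (hno b hb)) hbp
  have hgw : Commute g w := mul_inv_eq_iff_eq_mul.1 (hno g hg)
  exact (hgw.zpow_right i).mul_right ((hcx g hg).zpow_right j)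

/-- The structure of a Sylow subgroup containing the isolated element. -/
theorem sylow_structure (hp : p ≠ 2) (hperf : commutator K = ⊤) (hrank : Cfsg.PRankLE p 2 K) {x : K}
    (hxo : orderOf x = p) (hiso : Cfsg.IsIsolated x) (S : Sylow p K) (hxS : x ∈ (S : Subgroup K)) :
    (Cfsg.IsExtraspecial p (S : Subgroup K) ∧ Nat.card (S : Subgroup K) = p ^ 3 ∧
        ∀ y ∈ (S : Subgroup K), y ^ p = 1) ∨
      (p = 3 ∧ ∃ k : ℕ, 2 ≤ k ∧ Nat.card (S : Subgroup K) = 3 ^ (2 * k + 1) ∧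
        ∃ _ : Group.IsNilpotent (S : Subgroup K), Group.nilpotencyClass (S : Subgroup K) = 2 * k) := by
  have hpp : p.Prime := Fact.out
  have hxp : x ^ p = 1 := by rw [← hxo, pow_orderOf_eq_one]
  have hx1 : x ≠ 1 := fun e => hpp.ne_one (by rw [← hxo, e, orderOf_one])
  by_cases hc : PCentral p (S : Subgroup K)
  · exact (central_false hp hperf hrank hiso hxp hx1 S hxS hc).elim
  obtain ⟨w, F⟩ := exists_frame hp hrank hxp hx1 hiso S hxS hc
  obtain ⟨u, hu, hup, huA⟩ := outside_exists hp hperf hiso S F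
  have hS : SmallCent p (S : Subgroup K) x w := fun v hv hvA hvp a ha hva => by
    by_contra hax
    exact big_false hp hperf hiso S F hv hvA hvp ha hva hax
  obtain ⟨n, hn⟩ := IsPGroup.iff_card.1 S.2
  have hn3 := F.three_le hu huA hup hn
  rcases hn3.eq_or_lt with h3 | h4
  · subst h3
    obtain ⟨he, hexp⟩ := F.extraspecial hp hS hu huA hup hn
    exact Or.inl ⟨he, hn, hexp⟩
  have hp3 : p = 3 := by
    by_contra hne
    have hp5 : 5 ≤ p := by
      rcases hpp.eq_two_or_odd' with h | h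
      · exact absurd h hp
      · obtain ⟨k, hk⟩ := h
        have := hpp.two_le
        omega
    have h := F.card_le_four hS hu huA hup hp5 hn
    exact four_false hperf hiso S F hS hu huA hup hp5 (by rw [hn, show n = 4 by omega])
  have hodd : ¬ Even n := three_odd hperf hiso S F hS hu huA hup hp3 hn (by omega)
  obtain ⟨k, hk⟩ := Nat.not_even_iff_odd.1 hodd
  refine Or.inr ⟨hp3, k, by omega, ?_, S.2.isNilpotent, ?_⟩
  · rw [hn, hk, hp3]
  · rw [F.class_eq hS hu huA hup hn]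
    omega

/-- The Sylow subgroups avoiding the conjugates of the isolated element are cyclic. -/
theorem sylow_cyclic (hp : p ≠ 2) (hrank : Cfsg.PRankLE p 2 K) {x : K} (hxo : orderOf x = p)
    (hiso : Cfsg.IsIsolated x) {P : Subgroup K} (hP : IsPGroup p P) (hno : ∀ g : K, g * x * g⁻¹ ∉ P) :
    IsCyclic P := by
  by_contra hnc
  have hpp : p.Prime := Fact.out
  obtain ⟨E, -, ⟨hEc, hEp⟩, hE⟩ := exists_normal_sq hp hP hnc
  obtain ⟨R, hR⟩ := hP.exists_le_sylow
  obtain ⟨c, hc⟩ := Techniques.IsolatedRankTwo.exists_conj_mem hxo R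
  have hy : ∀ g ∈ (R : Subgroup K), Commute g (c * x * c⁻¹) := fun g hg =>
    isolated_commute_of_pgroup (Techniques.IsolatedRankTwo.isolated_conj hiso c) R.2 hc hg
  have hcard : ∀ b : P, b ∈ E → Nat.card (zpowers b) < Nat.card E := fun b hb => by
    rw [hE, Nat.card_zpowers]
    exact lt_of_le_of_lt (Nat.le_of_dvd hpp.pos (orderOf_dvd_of_pow_eq_one (hEp b hb))) (by nlinarith [hpp.two_le])
  obtain ⟨a, ha, ha1⟩ : ∃ a ∈ E, a ≠ (1 : P) := by
    by_contra h
    push Not at h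
    have := hcard 1 (one_mem _)
    rw [zpowers_one_eq_bot, card_bot, (eq_bot_iff_forall E).2 h, card_bot] at this
    omega
  obtain ⟨b, hb, hba⟩ : ∃ b ∈ E, b ∉ zpowers a := by
    by_contra h
    push Not at h
    exact (hcard a ha).not_ge (card_le_of_le h)
  obtain ⟨s, hs, t, ht, hst⟩ := Techniques.IsolatedRankTwo.exists_mul_eq hrank
    (a := (b : K)) (b := (a : K)) (c := c * x * c⁻¹) (congrArg Subtype.val (hEp b hb))
    (congrArg Subtype.val (hEp a ha)) (by rw [conj_pow, ← hxo, pow_orderOf_eq_one, mul_one, mul_inv_cancel])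
    (congrArg (fun e : E => ((e : P) : K)) (mul_comm' (⟨b, hb⟩ : E) ⟨a, ha⟩))
    (hy _ (hR b.2)) (hy _ (hR a.2)) (fun e => ha1 (Subtype.ext e))
    (fun h => hba (by
      obtain ⟨i, hi⟩ := mem_zpowers_iff.1 h
      exact ⟨i, Subtype.ext (by simpa using hi)⟩))
  refine hno c ?_
  rw [hst]
  exact mul_mem ((zpowers_le.2 b.2) hs) ((zpowers_le.2 a.2) ht)

end Cfsg.Agent.IsolatedRank
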