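import Cfsg.Agent.Lib.IsolatedRank.Frame
import Cfsg.Agent.Lib.IsolatedRank.Eigen

/-!
The case of a noncentral `w` with all elements of order `p` of the Sylow subgroup commuting with it.
-/

set_option autoImplicit false

namespace Cfsg.Agent.IsolatedRank

open Subgroup Cfsg.Agent.CharP
open scoped commutatorElement

variable {K : Type*} [Group K] {p : ℕ} [Fact p.Prime] {P : Subgroup K} {x w : K}

/-- `P` moves the elements of order `p` of `C_P(w)` inside their cosets of `⟨x⟩`. -/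
theorem Frame.move_omega (F : Frame p P x w) {a g : K} (ha : a ∈ P) (haw : Commute a w) (hap : a ^ p = 1)
    (hg : g ∈ P) : g * a * g⁻¹ * a⁻¹ ∈ zpowers x := by
  obtain ⟨i, j, rfl⟩ := F.omega a ha haw hap
  obtain ⟨c, hc⟩ := F.move g hg
  refine ⟨c * i, ?_⟩
  show x ^ (c * i) = _
  have hwx : Commute w x := F.central w F.mem_w
  rw [← conj_mul, ← conj_zpow, ← conj_zpow, hc, (hwx.zpow_right c).mul_zpow, ← zpow_mul, (F.central g hg).eq,
    mul_inv_cancel_right, mul_inv_rev]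
  have h1 : Commute (x ^ (c * i)) ((w ^ i)⁻¹) := (hwx.symm.zpow_zpow _ _).inv_right
  calc x ^ (c * i) = x ^ (c * i) * (w ^ i) * (w ^ i)⁻¹ := by group
    _ = _ := by rw [(hwx.symm.zpow_zpow _ _).eq]; group

variable [Finite K]

/-- A `p'`-element of the normalizer of `P` fixing `x` and normalizing `⟨w, x⟩` normalizes `C_P(w)`. -/
theorem Frame.mem_normalizer_cA (F : Frame p P x w) {h : K} (hh : h ∈ normalizer (P : Set K)) (hhx : Commute h x)
    {i j : ℤ} (hw : h * w * h⁻¹ = w ^ i * x ^ j) : h ∈ normalizer (cA P w : Set K) := by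
  refine mem_normalizer_iff_map_conj_eq.2 (eq_of_le_of_card_ge ?_
    (card_map_of_injective (MulAut.conj h).injective).ge)
  rintro _ ⟨a, ha, rfl⟩
  obtain ⟨haP, haw⟩ := mem_cA.1 ha
  refine mem_cA.2 ⟨(mem_normalizer_iff.1 hh a).1 haP, ?_⟩
  show Commute (h * a * h⁻¹) w
  have h1 : Commute (h * a * h⁻¹) (w ^ i * x ^ j) := hw ▸ (Commute.conj_iff h).2 haw
  have h2 : Commute (h * a * h⁻¹) (w ^ i) := by
    simpa using h1.mul_right ((F.central _ ((mem_normalizer_iff.1 hh a).1 haP)).zpow_right (-j))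
  by_cases hd : (p : ℤ) ∣ i
  · exfalso
    refine F.w_not ⟨j, ?_⟩
    show x ^ j = w
    rw [zpow_eq_one_of_dvd F.pow_w hd, one_mul] at hw
    calc x ^ j = h⁻¹ * x ^ j * h := by rw [(hhx.inv_left.zpow_right j).eq, inv_mul_cancel_right]
      _ = w := by rw [← hw]; group
  · obtain ⟨c, d, hcd⟩ := ((Nat.prime_iff_prime_int).1 (Fact.out : p.Prime)).coprime_iff_not_dvd.2 hd
    have h3 := h2.zpow_right d
    rwa [← zpow_mul, show i * d = 1 - c * (p : ℤ) by linear_combination hcd, zpow_sub, zpow_one,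
      zpow_eq_one_of_dvd F.pow_w (dvd_mul_left _ _), inv_one, mul_one] at h3

/-- A `p'`-element of the normalizer of `P` acts on `P / C_P(w)` as a power map. -/
theorem Frame.exists_power_action (F : Frame p P x w) {h : K} (hh : h ∈ normalizer (P : Set K))
    (hhx : Commute h x) {i j : ℤ} (hw : h⁻¹ * w * h = w ^ i * x ^ j) :
    ∀ g ∈ P, (g ^ (i % (p : ℤ)).toNat)⁻¹ * (h * g * h⁻¹) ∈ cA P w := by
  intro g hg
  have hgP : h * g * h⁻¹ ∈ P := (mem_normalizer_iff.1 hh g).1 hg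
  refine mem_cA.2 ⟨mul_mem (inv_mem (_root_.pow_mem hg _)) hgP, conj_w_eq_iff.1 ?_⟩
  obtain ⟨b, hb⟩ := F.move g hg
  have hwx : Commute w x := F.central w F.mem_w
  have hw' : h * (w ^ i * x ^ j) * h⁻¹ = w := by rw [← hw]; group
  have hgw : g * (w ^ i * x ^ j) * g⁻¹ = w ^ i * x ^ j * x ^ (b * i) := by
    rw [← conj_mul, ← conj_zpow, ← conj_zpow, hb, (hwx.zpow_right b).mul_zpow, ← zpow_mul, (F.central g hg).eq,
      mul_inv_cancel_right, mul_assoc, mul_assoc, ← zpow_add, ← zpow_add, add_comm (b * i)]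
  rw [F.pow_move hg hb, Int.toNat_of_nonneg (Int.emod_nonneg _ (by exact_mod_cast (Fact.out : p.Prime).ne_zero))]
  calc h * g * h⁻¹ * w * (h * g * h⁻¹)⁻¹
      = h * (g * (h⁻¹ * w * h) * g⁻¹) * h⁻¹ := by group
    _ = h * (w ^ i * x ^ j * x ^ (b * i)) * h⁻¹ := by rw [hw, hgw]
    _ = w * x ^ (b * i) := by rw [← conj_mul, hw', (hhx.zpow_right _).eq, mul_inv_cancel_right]
    _ = w * x ^ (i % (p : ℤ) * b) := by
      rw [mul_right_inj, ← mul_inv_eq_one, ← zpow_neg, ← zpow_add]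
      refine zpow_eq_one_of_dvd F.pow_x ⟨b * (i / (p : ℤ)), ?_⟩
      linear_combination (-b) * Int.emod_add_mul_ediv i (p : ℤ)

theorem outside_exists (hp : p ≠ 2) (hperf : commutator K = ⊤) {x w : K} (hiso : Cfsg.IsIsolated x)
    (S : Sylow p K) (F : Frame p (S : Subgroup K) x w) :
    ∃ u ∈ (S : Subgroup K), u ^ p = 1 ∧ u ∉ cA (S : Subgroup K) w := by
  by_contra hno
  push Not at hno
  have hall : ∀ a ∈ (S : Subgroup K), a ^ p = 1 → Commute a w := fun a ha hap => (mem_cA.1 (hno a ha hap)).2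
  have h := reduce hperf S (F := cA (S : Subgroup K) w) (fun a ha b hb => by
      have h := F.commutator_mem (inv_mem ha) (inv_mem hb)
      convert h using 1
      rw [commutatorElement_def]
      group) (fun h hh ho d hd => ?_) fun E hE hne ih => ?_
  · obtain ⟨g, hg, hgw⟩ := F.nc
    exact hgw (conj_eq_iff.2 (mem_cA.1 (h hg)).2)
  · have hhx : Commute h x := mul_inv_eq_iff_eq_mul.1
      (isolated_eq_of_pgroup hiso S.2 F.mem_x ((mem_normalizer_iff.1 hh x).1 F.mem_x))
    have hwP : h * w * h⁻¹ ∈ (S : Subgroup K) := (mem_normalizer_iff.1 hh w).1 F.mem_w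
    have hwp : (h * w * h⁻¹) ^ p = 1 := by rw [conj_pow, F.pow_w, mul_one, mul_inv_cancel]
    obtain ⟨i, j, hw⟩ := F.omega _ hwP (hall _ hwP hwp) hwp
    have hwP' : h⁻¹ * w * h ∈ (S : Subgroup K) := by
      simpa using (mem_normalizer_iff.1 (inv_mem hh) w).1 F.mem_w
    have hwp' : (h⁻¹ * w * h) ^ p = 1 := by
      have := conj_pow (i := p) (a := h⁻¹) (b := w)
      rwa [inv_inv, F.pow_w, mul_one, inv_mul_cancel] at this
    obtain ⟨i', j', hw'⟩ := F.omega _ hwP' (hall _ hwP' hwp') hwp'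
    obtain ⟨u, hu, huA⟩ : ∃ u ∈ (S : Subgroup K), u ∉ cA (S : Subgroup K) w := by
      obtain ⟨g, hg, hgw⟩ := F.nc
      exact ⟨g, hg, fun hA => hgw (conj_eq_iff.2 (mem_cA.1 hA).2)⟩
    obtain ⟨e, he, heA, hhe⟩ := exists_invariant_zpowers S.2 (fun a ha b hb => F.commutator_mem ha hb) ho hh
      (F.exists_power_action hh hhx hw') (fun g hg => F.pow_mem hg) hu huA
    have hce := centralizes_of_unique hp (S.2.to_le (zpowers_le.2 he)) ho hhe hhx fun a ha hap => by
      have haP : a ∈ (S : Subgroup K) := (zpowers_le.2 he) ha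
      obtain ⟨k, rfl⟩ := mem_zpowers_iff.1 ha
      exact F.mem_zpowers_of_commute he heA (hno _ haP hap) hap ((Commute.refl e).zpow_right k)
    have hce' : h * e * h⁻¹ = e := mul_inv_eq_iff_eq_mul.2 (hce e (mem_zpowers e)).symm
    have hhw := F.commute_of_coset ho hhx he heA hw (by rw [hce'])
    have hcen := F.centralizes hp le_rfl ho hh hhx hhw
    rw [mul_assoc h⁻¹, hcen d hd, inv_mul_cancel_left, inv_mul_cancel]
    exact one_mem _
  · by_cases hxE : x ∈ E
    · exact step_unipotent hp F.pow_x hiso hE hne ih hxE fun a ha hap g hg =>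
        F.move_omega (hE.le ha) (hall a (hE.le ha) hap) hap hg.1
    · exact step_centralizer hE ih fun hle => hxE (hle ⟨F.mem_x, fun e he => (F.central e (hE.le he)).eq⟩)

end Cfsg.Agent.IsolatedRank
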