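import Cfsg.Agent.Lib.IsolatedRank.BigCent
import Cfsg.Agent.Techniques.IsolatedRankTwo
import Cfsg.Agent.Lib.IsolatedRank.PCentral
import Cfsg.Agent.GStructB.MaxClass
import Cfsg.Agent.S5238
import Cfsg.Prelude.Def_Transfer

/-!
Frames in which every outside element of order `p` centralizes only `⟨x⟩` in `C_P(w)`: the group has
maximal class.
-/

set_option autoImplicit false

namespace Cfsg.Agent.IsolatedRank

open Subgroup
open scoped commutatorElement

variable {K : Type*} [Group K] {p : ℕ} [Fact p.Prime] {P : Subgroup K} {x w : K}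

/-- The outside elements of order `p` centralize only `⟨x⟩` in `C_P(w)`. -/
def SmallCent (p : ℕ) (P : Subgroup K) (x w : K) : Prop :=
  ∀ v ∈ P, v ∉ cA P w → v ^ p = 1 → ∀ a ∈ cA P w, Commute v a → a ∈ zpowers x

variable [Finite K]

/-- The index of `C_E(w)` in a subgroup `E` with an outside element of order `p`. -/
theorem Frame.card_inf_cA (F : Frame p P x w) {E : Subgroup K} (hE : E ≤ P) {v : K} (hv : v ∈ E)
    (hvA : v ∉ cA P w) (hvp : v ^ p = 1) : Nat.card (E ⊓ cA P w : Subgroup K) * p = Nat.card E := by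
  have hv1 : v ≠ 1 := fun e => hvA (e ▸ one_mem _)
  have hn : zpowers v ≤ normalizer ((E ⊓ cA P w : Subgroup K) : Set K) := by
    refine le_normalizer_iff.2 fun g hg b hb => ?_
    have hgE : g ∈ E := (zpowers_le.2 hv) hg
    exact ⟨E.mul_mem (E.mul_mem hgE hb.1) (E.inv_mem hgE), F.conj_mem (hE hgE) hb.2⟩
  have hd : Disjoint (E ⊓ cA P w) (zpowers v) := by
    rw [disjoint_iff, eq_bot_iff]
    intro g ⟨hg, hgv⟩
    obtain ⟨k, rfl⟩ := mem_zpowers_iff.1 hgv
    by_cases hd : (p : ℤ) ∣ k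
    · exact mem_bot.2 (zpow_eq_one_of_dvd hvp hd)
    · obtain ⟨c, d, hcd⟩ := ((Nat.prime_iff_prime_int).1 (Fact.out : p.Prime)).coprime_iff_not_dvd.2 hd
      have h1 := (cA P w).zpow_mem hg.2 d
      rw [← zpow_mul, show k * d = 1 - c * (p : ℤ) by linear_combination hcd, zpow_sub, zpow_one,
        zpow_eq_one_of_dvd hvp (dvd_mul_left _ _), inv_one, mul_one] at h1
      exact absurd h1 hvA
  have heq : (E ⊓ cA P w) ⊔ zpowers v = E := by
    refine le_antisymm (sup_le inf_le_left (zpowers_le.2 hv)) fun e he => ?_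
    obtain ⟨k, hk⟩ := F.exists_pow_mul (hE hv) hvA (hE he)
    have h1 := mul_mem (mem_sup_right (S := E ⊓ cA P w) (_root_.pow_mem (mem_zpowers v) k))
      (mem_sup_left (T := zpowers v) (show (v ^ k)⁻¹ * e ∈ E ⊓ cA P w from
        ⟨E.mul_mem (E.inv_mem (E.pow_mem hv k)) he, hk⟩))
    rwa [mul_inv_cancel_left] at h1
  have h := Coprime.card_sup_of_disjoint hn hd
  rw [heq, Nat.card_zpowers, orderOf_eq_prime hvp hv1] at h
  exact h.symm

theorem Frame.omega_eq (F : Frame p P x w) :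
    IsolatedRank.omega F.pcentral = zpowers w ⊔ zpowers x := by
  refine le_antisymm (fun a ha => ?_) (sup_le (zpowers_le.2 ?_) (zpowers_le.2 ?_))
  · obtain ⟨i, j, rfl⟩ := F.omega a ha.1.1 (mem_cA.1 ha.1).2 ha.2
    exact mul_mem (mem_sup_left (zpow_mem (mem_zpowers w) i)) (mem_sup_right (zpow_mem (mem_zpowers x) j))
  · exact ⟨mem_cA.2 ⟨F.mem_w, Commute.refl w⟩, F.pow_w⟩
  · exact ⟨mem_cA.2 ⟨F.mem_x, (F.central w F.mem_w).symm⟩, F.pow_x⟩

theorem Frame.card_omega (F : Frame p P x w) : Nat.card (IsolatedRank.omega F.pcentral) = p ^ 2 := by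
  have hn : zpowers x ≤ normalizer (zpowers w : Set K) := by
    refine (zpowers_le.2 ?_).trans (centralizer_le_normalizer (s := (zpowers w : Set K)))
    refine mem_centralizer_iff.2 fun g hg => ?_
    obtain ⟨i, rfl⟩ := mem_zpowers_iff.1 hg
    exact ((F.central w F.mem_w).zpow_left i).eq
  have hd : Disjoint (zpowers w) (zpowers x) := by
    rw [disjoint_iff, eq_bot_iff]
    intro g ⟨hg, hgx⟩
    rcases Techniques.IsolatedRankTwo.zpow_mem_cases F.pow_w hg with h | h
    · exact mem_bot.2 h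
    · exact absurd ((zpowers_le.2 hgx) h) F.w_not
  rw [F.omega_eq, Coprime.card_sup_of_disjoint hn hd, Nat.card_zpowers, Nat.card_zpowers,
    orderOf_eq_prime F.pow_w (fun e => F.w_not (e ▸ one_mem _)), orderOf_eq_prime F.pow_x F.x_ne, sq]

variable {u : K}

theorem Frame.commute_form (F : Frame p P x w) (hS : SmallCent p P x w) {v g : K} (hv : v ∈ P)
    (hvA : v ∉ cA P w) (hvp : v ^ p = 1) (hg : g ∈ P) (hgv : Commute v g) :
    ∃ (k : ℕ) (j : ℤ), g = v ^ k * x ^ j := by
  obtain ⟨k, hk⟩ := F.exists_pow_mul hv hvA hg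
  obtain ⟨j, hj⟩ := mem_zpowers_iff.1
    (hS v hv hvA hvp _ hk (((Commute.refl v).pow_right k).inv_right.mul_right hgv))
  exact ⟨k, j, by rw [hj, mul_inv_cancel_left]⟩

/-- The subgroup `⟨u, x⟩`, seen inside `P`. -/
theorem Frame.exists_self_centralizing (F : Frame p P x w) (hS : SmallCent p P x w) (hu : u ∈ P)
    (huA : u ∉ cA P w) (hup : u ^ p = 1) :
    ∃ A : Subgroup P, Nat.card A = p ^ 2 ∧ centralizer (A : Set P) = A ∧ (⟨u, hu⟩ : P) ∈ A ∧
      centralizer ({(⟨u, hu⟩ : P)} : Set P) ≤ A := by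
  have hxu : Commute u x := F.central u hu
  set B := zpowers u ⊔ zpowers x with hB
  have hBP : B ≤ P := sup_le (zpowers_le.2 hu) (zpowers_le.2 F.mem_x)
  have hn : zpowers x ≤ normalizer (zpowers u : Set K) := by
    refine (zpowers_le.2 ?_).trans (centralizer_le_normalizer (s := (zpowers u : Set K)))
    refine mem_centralizer_iff.2 fun g hg => ?_
    obtain ⟨i, rfl⟩ := mem_zpowers_iff.1 hg
    exact (hxu.zpow_left i).eq
  have hu1 : u ≠ 1 := fun e => huA (e ▸ one_mem _)
  have hd : Disjoint (zpowers u) (zpowers x) := by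
    rw [disjoint_iff, eq_bot_iff]
    intro g ⟨hg, hgx⟩
    rcases Techniques.IsolatedRankTwo.zpow_mem_cases hup hg with h | h
    · exact mem_bot.2 h
    · refine absurd (mem_cA.2 ⟨hu, ?_⟩) huA
      obtain ⟨i, hi⟩ := mem_zpowers_iff.1 ((zpowers_le.2 hgx) h)
      rw [← hi]
      exact ((F.central w F.mem_w).zpow_right i).symm
  have hcard : Nat.card (B.subgroupOf P) = p ^ 2 := by
    rw [Nat.card_congr (subgroupOfEquivOfLe hBP).toEquiv, Coprime.card_sup_of_disjoint hn hd, Nat.card_zpowers,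
      Nat.card_zpowers, orderOf_eq_prime hup hu1, orderOf_eq_prime F.pow_x F.x_ne, sq]
  have huB : (⟨u, hu⟩ : P) ∈ B.subgroupOf P := mem_subgroupOf.2 (mem_sup_left (mem_zpowers u))
  have hcu : centralizer ({(⟨u, hu⟩ : P)} : Set P) ≤ B.subgroupOf P := fun g hg => by
    obtain ⟨k, j, hkj⟩ := F.commute_form hS hu huA hup g.2
      (congrArg Subtype.val (mem_centralizer_singleton_iff.1 hg)).symm
    rw [mem_subgroupOf, hkj]
    exact mul_mem (mem_sup_left (_root_.pow_mem (mem_zpowers u) k)) (mem_sup_right (zpow_mem (mem_zpowers x) j))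
  refine ⟨B.subgroupOf P, hcard, le_antisymm (fun g hg => hcu ?_) ?_, huB, hcu⟩
  · exact mem_centralizer_singleton_iff.2 (mem_centralizer_iff.1 hg _ huB).symm
  · have hcomm := GStructB.MaxClass.comm_of_card (p := p) le_rfl hcard
    exact fun g hg y hy => congrArg Subtype.val (hcomm ⟨y, hy⟩ ⟨g, hg⟩)

theorem Frame.small (F : Frame p P x w) (hS : SmallCent p P x w) (hu : u ∈ P) (huA : u ∉ cA P w)
    (hup : u ^ p = 1) : CharP.SmallCentralizer.Small p (⟨u, hu⟩ : P) := by
  obtain ⟨A, hA, -, -, hcu⟩ := F.exists_self_centralizing hS hu huA hup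
  exact S5238.small_mk F.pgrp (fun e => huA (by rw [show u = 1 from congrArg Subtype.val e]; exact one_mem _))
    (Subtype.ext hup) (hA ▸ card_le_of_le hcu)

theorem Frame.three_le (F : Frame p P x w) (hu : u ∈ P) (huA : u ∉ cA P w) (hup : u ^ p = 1) {n : ℕ}
    (hn : Nat.card P = p ^ n) : 3 ≤ n := by
  have h := F.card_inf_cA le_rfl hu huA hup
  have hle : IsolatedRank.omega F.pcentral ≤ P ⊓ cA P w := fun a ha => ⟨ha.1.1, ha.1⟩
  have h2 := card_le_of_le hle
  rw [F.card_omega] at h2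
  have h3 : p ^ 3 ≤ Nat.card P := by
    rw [← h, pow_succ]
    exact Nat.mul_le_mul_right p h2
  rw [hn] at h3
  exact (Nat.pow_le_pow_iff_right (Fact.out : p.Prime).one_lt).1 h3

theorem Frame.class_eq (F : Frame p P x w) (hS : SmallCent p P x w) (hu : u ∈ P) (huA : u ∉ cA P w)
    (hup : u ^ p = 1) {n : ℕ} (hn : Nat.card P = p ^ n) : Group.nilpotencyClass P = n - 1 := by
  obtain ⟨A, hA, hC, -, -⟩ := F.exists_self_centralizing hS hu huA hup
  exact (GStructB.MaxClass.class_aux n).1 P hn A hA hC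

theorem Frame.center_eq (F : Frame p P x w) (hS : SmallCent p P x w) (hu : u ∈ P) (huA : u ∉ cA P w)
    (hup : u ^ p = 1) {g : P} : g ∈ Subgroup.center P ↔ (g : K) ∈ zpowers x := by
  constructor
  · intro hg
    have hgw : Commute (g : K) w :=
      (show Commute w (g : K) from congrArg Subtype.val (mem_center_iff.1 hg ⟨w, F.mem_w⟩)).symm
    exact hS u hu huA hup g (mem_cA.2 ⟨g.2, hgw⟩) (congrArg Subtype.val (mem_center_iff.1 hg ⟨u, hu⟩))
  · intro hg
    obtain ⟨i, hi⟩ := mem_zpowers_iff.1 hg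
    exact mem_center_iff.2 fun y => Subtype.ext (by
      show (y : K) * (g : K) = (g : K) * (y : K)
      rw [← hi]
      exact ((F.central y y.2).zpow_right i).eq)

/-- Order `p ^ 3`: extraspecial of exponent `p`. -/
theorem Frame.extraspecial (F : Frame p P x w) (hp : p ≠ 2) (hS : SmallCent p P x w) (hu : u ∈ P)
    (huA : u ∉ cA P w) (hup : u ^ p = 1) (h3 : Nat.card P = p ^ 3) :
    Cfsg.IsExtraspecial p P ∧ ∀ y ∈ P, y ^ p = 1 := by
  have hpp : p.Prime := Fact.out
  have hAc : Nat.card (P ⊓ cA P w : Subgroup K) = p ^ 2 := by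
    refine Nat.eq_of_mul_eq_mul_right hpp.pos ?_
    rw [F.card_inf_cA le_rfl hu huA hup, h3, pow_succ]
  have hΩ : IsolatedRank.omega F.pcentral = P ⊓ cA P w := by
    refine eq_of_le_of_card_ge (fun a ha => ⟨ha.1.1, ha.1⟩) ?_
    rw [hAc, F.card_omega]
  have hna : ¬ ∀ a b : P, a * b = b * a := fun h => by
    obtain ⟨g, hg, hgw⟩ := F.nc
    exact hgw (mul_inv_eq_iff_eq_mul.2 (congrArg Subtype.val (h ⟨g, hg⟩ ⟨w, F.mem_w⟩)))
  have hZ := GStructB.MaxClass.card_center h3 hna
  have hder : commutator P ≤ Subgroup.center P := by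
    have hc : Nat.card (P ⧸ Subgroup.center P) = p ^ 2 := by
      refine Nat.eq_of_mul_eq_mul_right hpp.pos ?_
      rw [← pow_succ, ← h3, card_eq_card_quotient_mul_card_subgroup (Subgroup.center P), hZ]
    rw [_root_.commutator_def, commutator_le]
    intro a _ b _
    rw [← QuotientGroup.eq_one_iff, ← QuotientGroup.mk'_apply, map_commutatorElement,
      commutatorElement_eq_one_iff_mul_comm]
    exact GStructB.MaxClass.comm_of_card (p := p) le_rfl hc _ _
  have hd : commutator P = Subgroup.center P := by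
    refine eq_of_le_of_card_ge hder ?_
    obtain ⟨i, hi⟩ := (F.pgrp.to_subgroup (commutator P)).exists_card_eq
    rw [hZ, hi]
    refine Nat.le_self_pow (fun h0 => hna fun a b => ?_) p
    rw [h0, pow_zero] at hi
    have hab : ⁅a, b⁆ ∈ commutator P := commutator_mem_commutator (mem_top a) (mem_top b)
    rw [card_eq_one.1 hi, mem_bot] at hab
    exact commutatorElement_eq_one_iff_mul_comm.1 hab
  haveI := F.pgrp.isNilpotent
  obtain ⟨A', hA', -, huA', -⟩ := F.exists_self_centralizing hS hu huA hup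
  have hco : ∀ M : Subgroup P, Nat.card M = p ^ 2 → IsCoatom M := by
    intro M hM
    refine ⟨fun e => ?_, fun L hL => ?_⟩
    · rw [e, Subgroup.card_top, h3] at hM
      exact absurd (Nat.pow_right_injective hpp.two_le hM) (by norm_num)
    · obtain ⟨i, hi, hLi⟩ := (Nat.dvd_prime_pow hpp).1 (h3 ▸ card_subgroup_dvd_card L)
      refine eq_top_of_le_card L ?_
      rw [h3, hLi]
      refine Nat.pow_le_pow_right hpp.pos ?_
      by_contra hlt
      refine hL.ne (eq_of_le_of_card_ge hL.le ?_)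
      rw [hLi, hM]
      exact Nat.pow_le_pow_right hpp.pos (by omega)
  have hZle : frattini P = Subgroup.center P := by
    refine le_antisymm ?_ (hd ▸ Coprime.commutator_le_frattini P)
    intro g hg
    have h1 := frattini_le_coatom (hco ((cA P w).subgroupOf P) (by
      rw [Nat.card_congr (subgroupOfEquivOfLe (F.cA_le)).toEquiv, ← hAc, inf_eq_right.2 F.cA_le])) hg
    have h2 := frattini_le_coatom (hco A' hA') hg
    have hcomm := GStructB.MaxClass.comm_of_card (p := p) le_rfl hA' ⟨_, huA'⟩ ⟨g, h2⟩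
    exact (F.center_eq hS hu huA hup).2 (hS u hu huA hup g (mem_subgroupOf.1 h1)
      (congrArg (fun t : A' => ((t : P) : K)) hcomm))
  refine ⟨⟨⟨F.pgrp, hZle, hd⟩, hZ⟩, fun y hy => ?_⟩
  obtain ⟨k, hk⟩ := F.exists_pow_mul hu huA hy
  have hkp : ((u ^ k)⁻¹ * y) ^ p = 1 :=
    (hΩ.ge (show (u ^ k)⁻¹ * y ∈ P ⊓ cA P w from ⟨hk.1, hk⟩)).2
  set a := (u ^ k)⁻¹ * y with ha
  obtain ⟨c, hc⟩ : ∃ c, u ^ k * a = a * u ^ k * c ∧ c ∈ zpowers x := by
    refine ⟨(a * u ^ k)⁻¹ * (u ^ k * a), by group, ?_⟩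
    have h := (F.center_eq hS hu huA hup).1 (hd.le (commutator_mem_commutator
      (mem_top ((⟨u ^ k, _root_.pow_mem hu k⟩ : P)⁻¹)) (mem_top ((⟨a, hk.1⟩ : P)⁻¹))))
    convert h using 1
    rw [commutatorElement_def]
    push_cast
    group
  obtain ⟨m, hm⟩ := hpp.dvd_choose_self two_ne_zero (lt_of_le_of_ne hpp.two_le (Ne.symm hp))
  obtain ⟨j, rfl⟩ := mem_zpowers_iff.1 hc.2
  have h := Coprime.OmegaDetect.mul_pow_central hc.1
    ((F.central _ (_root_.pow_mem hu k)).zpow_right j).symm ((F.central a hk.1).zpow_right j).symm p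
  rw [hkp, ← pow_mul u, mul_comm k p, pow_mul u, hup, one_pow, one_mul, one_mul, hm, pow_mul, ← zpow_natCast (x ^ j),
    ← zpow_mul, zpow_eq_one_of_dvd F.pow_x (dvd_mul_left _ _), one_pow] at h
  rw [show y = u ^ k * (a * u ^ k) * (u ^ k)⁻¹ by rw [ha]; group, conj_pow, h, mul_one, mul_inv_cancel]

end Cfsg.Agent.IsolatedRank
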