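import Cfsg.Agent.Lib.IsolatedRank.Large

/-!
The local steps for `p = 3`: a fully normalized subgroup with an outside element of order `3` either
hands its fusion to a larger subgroup or lies in the absorbing subgroup.
-/

set_option autoImplicit false

namespace Cfsg.Agent.IsolatedRank

open Subgroup Cfsg.Agent.CharP
open Cfsg.Agent.PGroups.MaximalClass
open scoped commutatorElement

variable {K : Type*} [Group K] [Finite K] {p : ℕ} [Fact p.Prime] {P : Subgroup K} {x w : K}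

omit [Finite K] in
theorem Frame.zpow_move (F : Frame p P x w) {g : K} (hg : g ∈ P) {s : ℤ} (hs : g * w * g⁻¹ = w * x ^ s) :
    ∀ a : ℤ, g ^ a * w * (g ^ a)⁻¹ = w * x ^ (a * s) := by
  have hs' : g⁻¹ * w * g⁻¹⁻¹ = w * x ^ (-s) := by
    calc g⁻¹ * w * g⁻¹⁻¹ = g⁻¹ * (w * x ^ s) * g * x ^ (-s) := by
          rw [mul_assoc g⁻¹ (w * x ^ s), mul_assoc w, ← ((F.central g hg).zpow_right s).eq]
          group
      _ = _ := by rw [← hs]; group
  intro a
  induction a using Int.induction_on with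
  | zero => simp
  | succ k ih => rw [zpow_add_one, F.mul_move (zpow_mem hg _) ih hs, add_mul, one_mul]
  | pred k ih => rw [zpow_sub_one, F.mul_move (zpow_mem hg _) ih hs', sub_mul, one_mul, sub_eq_add_neg]

/-- If `v` moves `a` inside `a⟨x⟩`, a power of `w` corrects it. -/
theorem Frame.exists_correct (F : Frame p P x w) {v a : K} (hv : v ∈ P) (hvA : v ∉ cA P w) (ha : a ∈ P) {c : ℤ}
    (hc : v * a * v⁻¹ = a * x ^ c) : ∃ t : ℤ, Commute v ((w ^ t)⁻¹ * a) := by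
  obtain ⟨s, hs⟩ := F.move v hv
  have hns : ¬ (p : ℤ) ∣ s := fun hd => hvA (mem_cA.2 ⟨hv, conj_eq_iff.1 (by
    rw [hs, zpow_eq_one_of_dvd F.pow_x hd, mul_one])⟩)
  obtain ⟨α, β, hab⟩ := ((Nat.prime_iff_prime_int).1 (Fact.out : p.Prime)).coprime_iff_not_dvd.2 hns
  refine ⟨c * β, mul_inv_eq_iff_eq_mul.1 ?_⟩
  have hwx : Commute w x := F.central w F.mem_w
  have hW : v * w ^ (c * β) * v⁻¹ = w ^ (c * β) * x ^ (s * (c * β)) := by
    rw [← conj_zpow, hs, (hwx.zpow_right s).mul_zpow, ← zpow_mul]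
  calc v * ((w ^ (c * β))⁻¹ * a) * v⁻¹ = (v * w ^ (c * β) * v⁻¹)⁻¹ * (v * a * v⁻¹) := by group
    _ = (x ^ (s * (c * β)))⁻¹ * (((w ^ (c * β))⁻¹ * a) * x ^ c) := by rw [hW, hc]; group
    _ = (w ^ (c * β))⁻¹ * a * (x ^ (-(s * (c * β))) * x ^ c) := by
      rw [← mul_assoc, ← zpow_neg x, ← ((F.central _ (mul_mem (inv_mem (zpow_mem F.mem_w _)) ha)).zpow_right _).eq,
        mul_assoc]
    _ = _ := by
      rw [← zpow_add, zpow_eq_one_of_dvd F.pow_x ⟨c * α, by linear_combination (-c) * hab⟩, mul_one]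

/-- The members of a large subgroup moved only inside their cosets of `⟨x⟩` lie in `⟨w, x⟩`, so a
normalizing element sends `w` into `⟨w, x⟩`. -/
theorem Frame.conj_w_form (F : Frame p P x w) (hS : SmallCent p P x w) {E : Subgroup K} (hE : E ≤ P)
    (hwE : w ∈ E) {v : K} (hv : v ∈ E) (hvA : v ∉ cA P w) (hvp : v ^ p = 1) (hbig : p ^ 3 < Nat.card E) {h : K}
    (hh : h ∈ normalizer (E : Set K)) (hhx : Commute h x) : ∃ i j : ℤ, h * w * h⁻¹ = w ^ i * x ^ j := by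
  have hwx : Commute w x := F.central w F.mem_w
  set e := h * w * h⁻¹
  have heE : e ∈ E := (mem_normalizer_iff.1 hh w).1 hwE
  have hprop : ∀ g ∈ E, ∃ c : ℤ, g * e * g⁻¹ = e * x ^ c := by
    intro g hg
    obtain ⟨c, hc⟩ := F.move (h⁻¹ * g * h) (hE (by simpa using (mem_normalizer_iff.1 (inv_mem hh) g).1 hg))
    refine ⟨c, ?_⟩
    calc g * e * g⁻¹ = h * (h⁻¹ * g * h * w * (h⁻¹ * g * h)⁻¹) * h⁻¹ := by simp only [e]; group
      _ = e * (h * x ^ c * h⁻¹) := by rw [hc]; simp only [e]; group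
      _ = _ := by rw [(hhx.zpow_right c).eq, mul_inv_cancel_right]
  obtain ⟨c, hc⟩ := hprop v hv
  obtain ⟨t, ht⟩ := F.exists_correct (hE hv) hvA (hE heE) hc
  obtain ⟨l, j, hl⟩ := F.commute_form hS (hE hv) hvA hvp (mul_mem (inv_mem (zpow_mem F.mem_w t)) (hE heE)) ht
  by_cases hd : (p : ℤ) ∣ (l : ℤ)
  · refine ⟨t, j, ?_⟩
    rw [← zpow_natCast v l, zpow_eq_one_of_dvd hvp hd, one_mul] at hl
    show e = _
    rw [← hl, mul_inv_cancel_left]
  exfalso
  obtain ⟨α, β, hab⟩ := ((Nat.prime_iff_prime_int).1 (Fact.out : p.Prime)).coprime_iff_not_dvd.2 hd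
  have hvl : ∀ g ∈ E, ∃ c : ℤ, g * v * g⁻¹ = v * x ^ c := by
    intro g hg
    obtain ⟨c1, hc1⟩ := hprop g hg
    obtain ⟨c2, hc2⟩ := F.move g (hE hg)
    have hgx : g * x ^ (-j) * g⁻¹ = x ^ (-j) := by rw [((F.central g (hE hg)).zpow_right _).eq, mul_inv_cancel_right]
    have he : v ^ l = (w ^ t)⁻¹ * e * x ^ (-j) := by rw [hl, zpow_neg, mul_inv_cancel_right]
    have h1 : g * v ^ l * g⁻¹ = v ^ l * x ^ (c1 - c2 * t) := by
      have hW : g * w ^ t * g⁻¹ = w ^ t * x ^ (c2 * t) := by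
        rw [← conj_zpow, hc2, (hwx.zpow_right c2).mul_zpow, ← zpow_mul]
      calc g * v ^ l * g⁻¹ = (g * w ^ t * g⁻¹)⁻¹ * (g * e * g⁻¹) * (g * x ^ (-j) * g⁻¹) := by rw [he]; group
        _ = (x ^ (c2 * t))⁻¹ * ((w ^ t)⁻¹ * e) * (x ^ c1 * x ^ (-j)) := by rw [hW, hc1, hgx]; group
        _ = (w ^ t)⁻¹ * e * ((x ^ (c2 * t))⁻¹ * (x ^ c1 * x ^ (-j))) := by
          rw [← ((F.central _ (mul_mem (inv_mem (zpow_mem F.mem_w t)) (hE heE))).zpow_right (c2 * t)).inv_right.eq,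
            mul_assoc ((w ^ t)⁻¹ * e)]
        _ = _ := by rw [he]; group
    refine ⟨(c1 - c2 * t) * β, ?_⟩
    have h2 : v = (v ^ l) ^ β := by
      rw [← zpow_natCast v l, ← zpow_mul, show (l : ℤ) * β = 1 - α * (p : ℤ) by linear_combination hab,
        zpow_sub, zpow_one, zpow_eq_one_of_dvd hvp (dvd_mul_left _ _), inv_one, mul_one]
    conv_lhs => rw [h2]
    rw [← conj_zpow, h1, ((F.central _ (_root_.pow_mem (hE hv) l)).zpow_right _).mul_zpow, ← zpow_mul, ← h2]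
  have hsub : E ⊓ cA P w ≤ IsolatedRank.omega F.pcentral := by
    rintro a ⟨haE, haA⟩
    obtain ⟨c, hc⟩ := hvl a haE
    have hc' : v * a * v⁻¹ = a * x ^ (-c) := by
      have hxc : Commute (a * v) (x ^ (-c)) := (F.central _ (mul_mem (hE haE) (hE hv))).zpow_right _
      calc v * a * v⁻¹ = (a * v * a⁻¹) * x ^ (-c) * a * v⁻¹ := by rw [hc]; group
        _ = a * v * (a⁻¹ * x ^ (-c) * a) * v⁻¹ := by group
        _ = a * x ^ (-c) := by
          rw [((F.central a⁻¹ (inv_mem (hE haE))).zpow_right (-c)).eq, inv_mul_cancel_right, hxc.eq]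
          rw [mul_assoc, mul_inv_cancel_right]
          exact ((F.central a (hE haE)).zpow_right (-c)).eq.symm
    obtain ⟨t', ht'⟩ := F.exists_correct (hE hv) hvA (hE haE) hc'
    have hwA : ∀ k : ℤ, w ^ k ∈ cA P w := fun k => zpow_mem (mem_cA.2 ⟨F.mem_w, Commute.refl w⟩) k
    obtain ⟨j', hj'⟩ := mem_zpowers_iff.1 (hS v (hE hv) hvA hvp _ (mul_mem (inv_mem (hwA t')) haA) ht')
    rw [F.omega_eq, show a = w ^ t' * x ^ j' by rw [hj', mul_inv_cancel_left]]
    exact mul_mem (mem_sup_left (zpow_mem (mem_zpowers w) t')) (mem_sup_right (zpow_mem (mem_zpowers x) j'))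
  have h1 := F.card_inf_cA hE hv hvA hvp
  have h2 := card_le_of_le hsub
  rw [F.card_omega] at h2
  rw [← h1, pow_succ p 2] at hbig
  exact absurd (Nat.mul_le_mul_right p h2) hbig.not_ge

/-- A subgroup with an outside element of order `p` and an element of `C_P(w)` outside `⟨x⟩` contains
`w`. -/
theorem Frame.exists_w_mem (F : Frame p P x w) (hS : SmallCent p P x w) {E : Subgroup K} (hE : E ≤ P)
    (hxE : x ∈ E) {v : K} (hv : v ∈ E) (hvA : v ∉ cA P w) (hvp : v ^ p = 1) {d : K} (hdE : d ∈ E)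
    (hdA : d ∈ cA P w) (hdx : d ∉ zpowers x) : w ∈ E := by
  obtain ⟨N, hN⟩ := SmallCentralizer.exists_lcs_bot F.pgrp
  suffices ∀ r j, N ≤ j + r → ∀ d : P, d ∈ lcs P j → (d : K) ∈ E → (d : K) ∈ cA P w →
      (d : K) ∉ zpowers x → w ∈ E from
    this N 0 (by omega) ⟨d, hE hdE⟩ (by rw [lcs_zero]; exact mem_top _) hdE hdA hdx
  intro r
  induction r with
  | zero =>
    intro j hj d hd _ _ hdx
    refine absurd ?_ hdx
    have h1 := lcs_antitone (G := P) (show N ≤ j by omega) hd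
    rw [hN, mem_bot] at h1
    rw [h1]
    exact one_mem _
  | succ r ih =>
    intro j hj d hd hdE hdA hdx
    set d' : P := ⁅d, (⟨v, hE hv⟩ : P)⁆ with hd'
    have hd'l : d' ∈ lcs P (j + 1) := by
      rw [lcs_succ]
      exact commutator_mem_commutator hd (mem_top _)
    have hd'c : (d' : K) = (d : K) * v * (d : K)⁻¹ * v⁻¹ := rfl
    have hd'E : (d' : K) ∈ E := by
      rw [hd'c]
      exact mul_mem (mul_mem (mul_mem hdE hv) (inv_mem hdE)) (inv_mem hv)
    by_cases hx' : (d' : K) ∈ zpowers x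
    · obtain ⟨c, hc⟩ := mem_zpowers_iff.1 hx'
      have hc' : v * (d : K) * v⁻¹ = (d : K) * x ^ (-c) := by
        rw [((F.central _ d.2).zpow_right (-c)).eq, zpow_neg, hc, hd'c]
        group
      obtain ⟨t, ht⟩ := F.exists_correct (hE hv) hvA d.2 hc'
      obtain ⟨j', hj'⟩ := mem_zpowers_iff.1 (hS v (hE hv) hvA hvp _
        (mul_mem (inv_mem (zpow_mem (mem_cA.2 ⟨F.mem_w, Commute.refl w⟩) t)) hdA) ht)
      have hwt : w ^ t ∈ E := by
        rw [show w ^ t = (d : K) * (x ^ j')⁻¹ by rw [hj']; group]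
        exact mul_mem hdE (inv_mem (zpow_mem hxE _))
      by_cases hp' : (p : ℤ) ∣ t
      · refine absurd ?_ hdx
        rw [show (d : K) = x ^ j' by rw [hj', zpow_eq_one_of_dvd F.pow_w hp', inv_one, one_mul]]
        exact zpow_mem (mem_zpowers x) _
      · obtain ⟨α, β, hab⟩ := ((Nat.prime_iff_prime_int).1 (Fact.out : p.Prime)).coprime_iff_not_dvd.2 hp'
        have h2 := zpow_mem hwt β
        rwa [← zpow_mul, show t * β = 1 - α * (p : ℤ) by linear_combination hab, zpow_sub, zpow_one,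
          zpow_eq_one_of_dvd F.pow_w (dvd_mul_left _ _), inv_one, mul_one] at h2
    · exact ih (j + 1) (by omega) d' hd'l hd'E (F.commutator_mem d.2 (hE hv)) hx'

omit [Finite K] [Fact p.Prime] in
/-- Congruent exponents give equal powers. -/
theorem zpow_congr_dvd {G : Type*} [Group G] {y : G} (hy : y ^ p = 1) {m n : ℤ} (h : (p : ℤ) ∣ m - n) :
    y ^ m = y ^ n := by
  obtain ⟨k, hk⟩ := h
  rw [show m = n + (p : ℤ) * k by omega, zpow_add, zpow_mul, zpow_natCast, hy, one_zpow, mul_one]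

/-- A `p'`-element acting nontrivially on a subgroup `⟨v, w, x⟩` of order `27` has a power inverting it
modulo `⟨x⟩`. -/
theorem Frame.exists_inverting (F : Frame p P x w) (hp3 : p = 3) {E : Subgroup K} (hE : E ≤ P) {v : K}
    (hv : v ∈ E) (hvA : v ∉ cA P w) (hvp : v ^ p = 1) (hxE : x ∈ E) (hwE : w ∈ E)
    (hform : ∀ e ∈ E, ∃ a b c : ℤ, e = v ^ a * w ^ b * x ^ c) {h : K} (hh : h ∈ normalizer (E : Set K))
    (ho : (orderOf h).Coprime p) (hhx : Commute h x) (hnc : h ∉ centralizer (E : Set K)) :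
    ∃ k : ℕ, ∀ e ∈ E, h ^ k * e * (h ^ k)⁻¹ * e ∈ zpowers x := by
  have hwx : Commute w x := F.central w F.mem_w
  have hvx : Commute v x := F.central v (hE hv)
  haveI hXn : ((zpowers x).subgroupOf E).Normal := ⟨fun e he g => by
    obtain ⟨i, hi⟩ := mem_zpowers_iff.1 (mem_subgroupOf.1 he)
    refine mem_subgroupOf.2 ⟨i, ?_⟩
    show x ^ i = ((g * e * g⁻¹ : E) : K)
    push_cast
    rw [← hi, ((F.central _ (hE g.2)).zpow_right i).eq, mul_inv_cancel_right]⟩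
  set Z := (zpowers x).subgroupOf E
  set π := QuotientGroup.mk' Z
  let φ : E →* E :=
    { toFun := fun e => ⟨h * e * h⁻¹, (mem_normalizer_iff.1 hh e).1 e.2⟩
      map_one' := Subtype.ext (by simp)
      map_mul' := fun a b => Subtype.ext (by push_cast; group) }
  have hφZ : Z ≤ Z.comap φ := fun e he => by
    obtain ⟨i, hi⟩ := mem_zpowers_iff.1 (mem_subgroupOf.1 he)
    show φ e ∈ Z
    refine mem_subgroupOf.2 ⟨i, ?_⟩
    show x ^ i = h * (e : K) * h⁻¹
    rw [← hi, (hhx.zpow_right i).eq, mul_inv_cancel_right]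
  set ψ := QuotientGroup.map Z Z φ hφZ
  have hψ : ∀ e : E, ψ (π e) = π (φ e) := fun e => rfl
  set fv := π ⟨v, hv⟩
  set fw := π ⟨w, hwE⟩
  have hfv : fv ^ p = 1 := by
    rw [← map_pow, show (⟨v, hv⟩ : E) ^ p = 1 from Subtype.ext hvp, map_one]
  have hfw : fw ^ p = 1 := by
    rw [← map_pow, show (⟨w, hwE⟩ : E) ^ p = 1 from Subtype.ext F.pow_w, map_one]
  obtain ⟨s, hs⟩ := F.move v (hE hv)
  have hc : Commute fv fw := by
    rw [← commutatorElement_eq_one_iff_commute, ← map_commutatorElement]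
    refine (QuotientGroup.eq_one_iff _).2 (mem_subgroupOf.2 ⟨s, ?_⟩)
    show x ^ s = v * w * v⁻¹ * w⁻¹
    rw [hs, (hwx.zpow_right s).eq, mul_inv_cancel_right]
  have hrep : ∀ y : E ⧸ Z, ∃ a b : ℤ, y = fv ^ a * fw ^ b := by
    intro y
    obtain ⟨e, rfl⟩ := QuotientGroup.mk'_surjective Z y
    obtain ⟨a, b, c, habc⟩ := hform e e.2
    refine ⟨a, b, ?_⟩
    have he : e = (⟨v, hv⟩ : E) ^ a * ⟨w, hwE⟩ ^ b * ⟨x, hxE⟩ ^ c := Subtype.ext (by push_cast; exact habc)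
    have hx1 : π ⟨x, hxE⟩ = 1 := (QuotientGroup.eq_one_iff _).2 (mem_subgroupOf.2 (mem_zpowers x))
    rw [he, map_mul, map_mul, map_zpow, map_zpow, map_zpow, hx1, one_zpow, mul_one]
  obtain ⟨a, b, e1, hav⟩ := hform _ ((mem_normalizer_iff.1 hh v).1 hv)
  obtain ⟨c, d, e2, hcw⟩ := hform _ ((mem_normalizer_iff.1 hh w).1 hwE)
  have hψv : ψ fv = fv ^ a * fw ^ b := by
    rw [hψ, show φ ⟨v, hv⟩ = (⟨v, hv⟩ : E) ^ a * ⟨w, hwE⟩ ^ b * ⟨x, hxE⟩ ^ e1 from Subtype.ext (by push_cast; exact hav),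
      map_mul, map_mul, map_zpow, map_zpow, map_zpow,
      show π ⟨x, hxE⟩ = 1 from (QuotientGroup.eq_one_iff _).2 (mem_subgroupOf.2 (mem_zpowers x)), one_zpow, mul_one]
  have hψw : ψ fw = fv ^ c * fw ^ d := by
    rw [hψ, show φ ⟨w, hwE⟩ = (⟨v, hv⟩ : E) ^ c * ⟨w, hwE⟩ ^ d * ⟨x, hxE⟩ ^ e2 from Subtype.ext (by push_cast; exact hcw),
      map_mul, map_mul, map_zpow, map_zpow, map_zpow,
      show π ⟨x, hxE⟩ = 1 from (QuotientGroup.eq_one_iff _).2 (mem_subgroupOf.2 (mem_zpowers x)), one_zpow, mul_one]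
  -- the determinant is one
  have hdet : (p : ℤ) ∣ a * d - b * c - 1 := by
    have hVW : ∀ k l : ℤ, v ^ k * w ^ l * (v ^ k)⁻¹ = w ^ l * x ^ (k * s * l) := fun k l => by
      rw [← conj_zpow, F.zpow_move (hE hv) hs k, (hwx.zpow_right _).mul_zpow, ← zpow_mul]
    have hWV : w ^ b * v ^ c * (w ^ b)⁻¹ = v ^ c * x ^ (-(c * s * b)) := by
      have h1 := hVW c b
      have h2 : Commute (w ^ b) (x ^ (c * s * b)) := hwx.zpow_zpow _ _
      calc w ^ b * v ^ c * (w ^ b)⁻¹ = v ^ c * ((v ^ c)⁻¹ * w ^ b * v ^ c * (w ^ b)⁻¹) := by group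
        _ = v ^ c * ((v ^ (-c) * w ^ b * (v ^ (-c))⁻¹) * (w ^ b)⁻¹) := by rw [zpow_neg, inv_inv]
        _ = _ := by rw [hVW, (hwx.zpow_zpow _ _).eq, mul_inv_cancel_right, show -c * s * b = -(c * s * b) by ring]
    have hx : ∀ (g : K) (k : ℤ), g ∈ P → g * x ^ k * g⁻¹ = x ^ k := fun g k hg => by
      rw [((F.central g hg).zpow_right k).eq, mul_inv_cancel_right]
    have hvP : ∀ k : ℤ, v ^ k ∈ P := fun k => zpow_mem (hE hv) k
    have hwP : ∀ k : ℤ, w ^ k ∈ P := fun k => zpow_mem F.mem_w k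
    have key : (v ^ a * w ^ b) * (v ^ c * w ^ d) * (v ^ a * w ^ b)⁻¹ = v ^ c * w ^ d * x ^ (s * (a * d - b * c)) := by
      calc (v ^ a * w ^ b) * (v ^ c * w ^ d) * (v ^ a * w ^ b)⁻¹
          = v ^ a * ((w ^ b * v ^ c * (w ^ b)⁻¹) * (w ^ b * w ^ d * (w ^ b)⁻¹)) * (v ^ a)⁻¹ := by group
        _ = v ^ a * (v ^ c * x ^ (-(c * s * b)) * w ^ d) * (v ^ a)⁻¹ := by
          rw [hWV, ((Commute.refl w).zpow_zpow b d).eq, mul_inv_cancel_right]
        _ = v ^ c * (v ^ a * x ^ (-(c * s * b)) * (v ^ a)⁻¹) * (v ^ a * w ^ d * (v ^ a)⁻¹) := by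
          rw [show v ^ c * (v ^ a * x ^ (-(c * s * b)) * (v ^ a)⁻¹) * (v ^ a * w ^ d * (v ^ a)⁻¹) =
            (v ^ c * v ^ a) * x ^ (-(c * s * b)) * w ^ d * (v ^ a)⁻¹ by group, ((Commute.refl v).zpow_zpow c a).eq]
          group
        _ = v ^ c * x ^ (-(c * s * b)) * (w ^ d * x ^ (a * s * d)) := by rw [hx _ _ (hvP a), hVW]
        _ = _ := by
          rw [mul_assoc (v ^ c), ← mul_assoc (x ^ _) (w ^ d), ← (hwx.zpow_zpow d (-(c * s * b))).eq,
            mul_assoc (w ^ d), ← zpow_add, ← mul_assoc]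
          congr 2
          ring
    have h1 : h * (v * w * v⁻¹) * h⁻¹ = h * w * h⁻¹ * x ^ s := by
      rw [hs, show h * (w * x ^ s) * h⁻¹ = h * w * h⁻¹ * (h * x ^ s * h⁻¹) by group, (hhx.zpow_right s).eq,
        mul_inv_cancel_right]
    have hV : h * v * h⁻¹ = v ^ a * w ^ b * x ^ e1 := hav
    have hW : h * w * h⁻¹ = v ^ c * w ^ d * x ^ e2 := hcw
    rw [show h * (v * w * v⁻¹) * h⁻¹ = (h * v * h⁻¹) * (h * w * h⁻¹) * (h * v * h⁻¹)⁻¹ by group, hV, hW,
      show v ^ a * w ^ b * x ^ e1 * (v ^ c * w ^ d * x ^ e2) * (v ^ a * w ^ b * x ^ e1)⁻¹ =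
        v ^ a * w ^ b * (x ^ e1 * (v ^ c * w ^ d * x ^ e2) * (x ^ e1)⁻¹) * (v ^ a * w ^ b)⁻¹ by group,
      ← ((F.central _ (mul_mem (mul_mem (hvP c) (hwP d)) (zpow_mem F.mem_x e2))).zpow_right e1).eq,
      mul_inv_cancel_right,
      show v ^ a * w ^ b * (v ^ c * w ^ d * x ^ e2) * (v ^ a * w ^ b)⁻¹ =
        v ^ a * w ^ b * (v ^ c * w ^ d) * (v ^ a * w ^ b)⁻¹ * (v ^ a * w ^ b * x ^ e2 * (v ^ a * w ^ b)⁻¹) by group,
      hx _ _ (mul_mem (hvP a) (hwP b)), key, mul_assoc, mul_assoc (v ^ c * w ^ d), mul_right_inj, ← zpow_add,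
      ← zpow_add, ← mul_inv_eq_one, ← zpow_neg, ← zpow_add,
      show s * (a * d - b * c) + e2 + -(e2 + s) = s * (a * d - b * c - 1) by ring] at h1
    refine (Int.Prime.dvd_mul' (Fact.out : p.Prime) (F.eq_one_of_zpow h1)).resolve_left fun hd' => hvA ?_
    exact mem_cA.2 ⟨hE hv, conj_eq_iff.1 (by rw [hs, zpow_eq_one_of_dvd F.pow_x hd', mul_one])⟩
  -- Cayley–Hamilton
  have hCH : ∀ y, ψ (ψ y) * y = ψ y ^ (a + d) := by
    have hlin : ∀ k l : ℤ, ψ (fv ^ k * fw ^ l) = fv ^ (a * k + c * l) * fw ^ (b * k + d * l) := by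
      intro k l
      rw [map_mul, map_zpow, map_zpow, hψv, hψw, (hc.zpow_zpow a b).mul_zpow, (hc.zpow_zpow c d).mul_zpow,
        ← zpow_mul, ← zpow_mul, ← zpow_mul, ← zpow_mul, zpow_add, zpow_add,
        mul_assoc (fv ^ (a * k)), ← mul_assoc (fw ^ (b * k)), ← (hc.zpow_zpow (c * l) (b * k)).eq]
      simp only [mul_assoc]
    intro y
    obtain ⟨k, l, rfl⟩ := hrep y
    rw [hlin, hlin, (hc.zpow_zpow _ _).mul_zpow, ← zpow_mul, ← zpow_mul]
    have hsplit : ∀ A B C D : ℤ, fv ^ A * fw ^ B * (fv ^ C * fw ^ D) = fv ^ (A + C) * fw ^ (B + D) := by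
      intro A B C D
      rw [zpow_add, zpow_add, mul_assoc, ← mul_assoc (fw ^ B), ← (hc.zpow_zpow C B).eq]
      simp only [mul_assoc]
    rw [hsplit]
    obtain ⟨q, hq⟩ := hdet
    rw [zpow_congr_dvd hfv (m := a * (a * k + c * l) + c * (b * k + d * l) + k) (n := (a * k + c * l) * (a + d))
        ⟨-q * k, by linear_combination (-k) * hq⟩,
      zpow_congr_dvd hfw (m := b * (a * k + c * l) + d * (b * k + d * l) + l) (n := (b * k + d * l) * (a + d))
        ⟨-q * l, by linear_combination (-l) * hq⟩]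
  have hexp : ∀ y : E ⧸ Z, y ^ p = 1 := fun y => by
    obtain ⟨k, l, rfl⟩ := hrep y
    rw [(hc.zpow_zpow k l).mul_pow, ← zpow_natCast, ← zpow_natCast (fw ^ l), zpow_comm, zpow_comm fw, zpow_natCast,
      zpow_natCast, hfv, hfw, one_zpow, one_zpow, one_mul]
  have hiter : ∀ (k : ℕ) (e : E), (ψ^[k]) (π e) =
      π ⟨h ^ k * e * (h ^ k)⁻¹, (mem_normalizer_iff.1 (_root_.pow_mem hh k) e).1 e.2⟩ := by
    intro k e
    induction k with
    | zero => simp
    | succ k ih =>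
      rw [Function.iterate_succ_apply', ih, hψ]
      congr 1
      exact Subtype.ext (show h * (h ^ k * (e : K) * (h ^ k)⁻¹) * h⁻¹ = h ^ (k + 1) * (e : K) * (h ^ (k + 1))⁻¹ by
        rw [pow_succ' h k]; group)
  have hread : ∀ k : ℕ, (∀ y, (ψ^[k]) y * y = 1) → ∀ e ∈ E, h ^ k * e * (h ^ k)⁻¹ * e ∈ zpowers x := by
    intro k hk e he
    have h1 := hk (π ⟨e, he⟩)
    rw [hiter, ← map_mul] at h1
    exact mem_subgroupOf.1 ((QuotientGroup.eq_one_iff _).1 h1)
  have hp0 : (p : ℤ) = 3 := by exact_mod_cast hp3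
  have hV : ∀ y z : E ⧸ Z, Commute y z := fun y z => by
    obtain ⟨k, l, rfl⟩ := hrep y
    obtain ⟨k', l', rfl⟩ := hrep z
    exact Commute.mul_left (Commute.mul_right ((Commute.refl fv).zpow_zpow k k') (hc.zpow_zpow k l'))
      (Commute.mul_right (hc.symm.zpow_zpow l k') ((Commute.refl fw).zpow_zpow l l'))
  rcases (by omega : (a + d) % 3 = 0 ∨ (a + d) % 3 = 1 ∨ (a + d) % 3 = 2) with ht | ht | ht
  · refine ⟨2, hread 2 fun y => ?_⟩
    show ψ (ψ y) * y = 1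
    rw [hCH, zpow_congr_dvd (hexp _) (n := 0) (by rw [hp0]; omega), zpow_zero]
  · refine ⟨3, hread 3 fun y => ?_⟩
    show ψ (ψ (ψ y)) * y = 1
    have h2 : ∀ z, ψ (ψ z) * z = ψ z := fun z => by
      rw [hCH, zpow_congr_dvd (hexp _) (n := 1) (by rw [hp0]; omega), zpow_one]
    have h3 : ψ (ψ y) = ψ y * y⁻¹ := eq_mul_inv_of_mul_eq (h2 y)
    rw [h3, map_mul, map_inv, h3, (hV (ψ y) y⁻¹).eq]
    group
  · exfalso
    have h2 : ∀ z, ψ (ψ z) * z = ψ z * ψ z := fun z => by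
      rw [hCH, zpow_congr_dvd (hexp _) (n := 2) (by rw [hp0]; omega), zpow_two]
    have h3 : ∀ y, ψ (ψ (ψ y)) = y := fun y => by
      have e2 : ψ (ψ y) = ψ y * ψ y * y⁻¹ := eq_mul_inv_of_mul_eq (h2 y)
      have hy2 : y⁻¹ * y⁻¹ = y := by
        have h5 := hexp y
        rw [hp3, pow_three] at h5
        rw [← mul_inv_rev]
        exact inv_eq_of_mul_eq_one_left h5
      have hψ3 : ψ y * ψ y * ψ y = 1 := by
        have h5 := hexp (ψ y)
        rw [hp3, pow_three] at h5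
        rw [mul_assoc]; exact h5
      rw [e2, map_mul, map_mul, map_inv, e2, (hV y⁻¹ _).mul_mul_mul_comm, hy2,
        mul_assoc _ y, (hV y (ψ y)⁻¹).eq]
      calc ψ y * ψ y * (ψ y * ψ y) * ((ψ y)⁻¹ * y) = (ψ y * ψ y * ψ y) * y := by group
        _ = y := by rw [hψ3, one_mul]
    refine hnc ?_
    have hXp : IsPGroup p (zpowers x) := F.pgrp.to_le (zpowers_le.2 F.mem_x)
    have ho3 : (orderOf (h ^ 3)).Coprime p := Nat.Coprime.coprime_dvd_left (orderOf_pow_dvd 3) ho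
    have h4 : h ^ 3 ∈ centralizer (E : Set K) := by
      refine Coprime.OmegaDetect.centralizes_of_commutators (F.pgrp.to_le hE) ho3 (_root_.pow_mem hh 3)
        (D := zpowers x) (fun e he => ?_) ?_
      · have h5 : π ⟨h ^ 3 * e * (h ^ 3)⁻¹, (mem_normalizer_iff.1 (_root_.pow_mem hh 3) e).1 he⟩ = π ⟨e, he⟩ := by
          rw [← hiter 3 ⟨e, he⟩]
          exact h3 _
        have h6 := mem_subgroupOf.1 (QuotientGroup.eq.1 h5.symm)
        push_cast at h6
        obtain ⟨i, hi⟩ := mem_zpowers_iff.1 h6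
        refine ⟨i, ?_⟩
        show x ^ i = _
        calc x ^ i = e * x ^ i * e⁻¹ := by rw [((F.central e (hE he)).zpow_right i).eq, mul_inv_cancel_right]
          _ = _ := by rw [hi]; group
      · refine mem_centralizer_iff.2 fun z hz => ?_
        obtain ⟨i, rfl⟩ := mem_zpowers_iff.1 hz
        exact (((hhx.pow_left 3).zpow_right i).eq).symm
    obtain ⟨m, hm⟩ := exists_pow_eq_self_of_coprime (x := h) (n := 3) (by rw [← hp3]; exact ho.symm)
    rw [← hm]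
    exact Subgroup.pow_mem _ h4 m

/-- The step for an exceptional subgroup when `p = 3`. -/
theorem three_key (hp3 : p = 3) (hiso : Cfsg.IsIsolated x) {S : Sylow p K}
    (F : Frame p (S : Subgroup K) x w) (hS : SmallCent p (S : Subgroup K) x w) {Fs E : Subgroup K}
    (hxF : x ∈ Fs) (hwF : w ∈ Fs) (hE : Techniques.Alperin.Basic.FullyNormalized p (S : Subgroup K) E)
    (hne : E ≠ (S : Subgroup K)) (ih : IH S Fs E) : ∀ n ∈ Subgroup.normalizer (E : Set K), Inv Fs E n := by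
  have hp : p ≠ 2 := by omega
  have hwx : Commute w x := F.central w F.mem_w
  by_cases hbig : (S : Subgroup K) ⊓ centralizer (E : Set K) ≤ E
  swap
  · exact step_centralizer hE ih hbig
  have hxE : x ∈ E := hbig ⟨F.mem_x, fun e he => (F.central e (hE.le he)).eq⟩
  by_cases huni : ∀ a ∈ E, a ^ p = 1 → ∀ y ∈ (S : Subgroup K) ⊓ Subgroup.normalizer (E : Set K),
      y * a * y⁻¹ * a⁻¹ ∈ zpowers x
  · exact step_unipotent hp F.pow_x hiso hE hne ih hxE huni
  push Not at huni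
  obtain ⟨v, hv, hvp, y, ⟨hy, hyE⟩, hyv⟩ := huni
  have hvA : v ∉ cA (S : Subgroup K) w := fun hA => hyv (F.move_omega (hE.le hv) (mem_cA.1 hA).2 hvp hy)
  have hdE : y * v * y⁻¹ * v⁻¹ ∈ E := mul_mem ((mem_normalizer_iff.1 hyE v).1 hv) (inv_mem hv)
  have hwE : w ∈ E := F.exists_w_mem hS hE.le hxE hv hvA hvp hdE (F.commutator_mem hy (hE.le hv)) hyv
  have hfix : ∀ n ∈ Subgroup.normalizer (E : Set K), Commute n x := fun n hn => mul_inv_eq_iff_eq_mul.1
    (isolated_eq_of_pgroup hiso (S.2.to_le hE.le) hxE ((mem_normalizer_iff.1 hn x).1 hxE))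
  have hnotle : ∀ M : Subgroup K, (S : Subgroup K) ⊓ Subgroup.normalizer (E : Set K) ≤ M →
      ¬ (S : Subgroup K) ⊓ Subgroup.normalizer (E : Set K) ⊓ M ≤ E := fun M hM hle =>
    (hE.lt hne).not_ge fun g hg => hle ⟨hg, hM hg⟩
  by_cases hcard : p ^ 3 < Nat.card E
  · let M : Subgroup K :=
      { carrier := {n | n ∈ Subgroup.normalizer (E : Set K) ∧ ∃ j : ℤ, n * w * n⁻¹ = w * x ^ j}
        one_mem' := ⟨one_mem _, 0, by simp⟩
        mul_mem' := fun {m n} hm hn => ⟨mul_mem hm.1 hn.1, by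
          obtain ⟨i, hi⟩ := hm.2
          obtain ⟨j, hj⟩ := hn.2
          refine ⟨i + j, ?_⟩
          calc m * n * w * (m * n)⁻¹ = m * (n * w * n⁻¹) * m⁻¹ := by group
            _ = m * w * m⁻¹ * (m * x ^ j * m⁻¹) := by rw [hj]; group
            _ = _ := by rw [hi, ((hfix m hm.1).zpow_right j).eq, mul_inv_cancel_right, mul_assoc, ← zpow_add]⟩
        inv_mem' := fun {n} hn => ⟨inv_mem hn.1, by
          obtain ⟨j, hj⟩ := hn.2
          refine ⟨-j, ?_⟩
          calc n⁻¹ * w * n⁻¹⁻¹ = n⁻¹ * (w * x ^ j) * (x ^ (-j) * n) := by group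
            _ = n⁻¹ * (n * w * n⁻¹) * (n * x ^ (-j)) := by rw [hj, ← ((hfix n hn.1).zpow_right (-j)).eq]
            _ = _ := by group⟩ }
    refine step hE ih M (fun n hn => hn.1) (fun k hk => ?_) (fun h hh ho => ?_) (hnotle M fun g hg => ?_)
    · refine (le_normalizer_iff (H := Subgroup.normalizer (E : Set K)) (K := M)).2 (fun k hk n hn => ?_) hk
      refine ⟨mul_mem (mul_mem hk hn.1) (inv_mem hk), ?_⟩
      obtain ⟨i, j, hij⟩ := F.conj_w_form hS hE.le hwE hv hvA hvp hcard (inv_mem hk) (hfix _ (inv_mem hk))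
      obtain ⟨l, hl⟩ := hn.2
      refine ⟨l * i, ?_⟩
      rw [inv_inv] at hij
      have hkw : k * (w ^ i * x ^ j) * k⁻¹ = w := by rw [← hij]; group
      calc k * n * k⁻¹ * w * (k * n * k⁻¹)⁻¹ = k * (n * (k⁻¹ * w * k) * n⁻¹) * k⁻¹ := by group
        _ = k * ((n * w * n⁻¹) ^ i * (n * x ^ j * n⁻¹)) * k⁻¹ := by rw [hij, conj_zpow]; group
        _ = k * (w ^ i * x ^ j * x ^ (l * i)) * k⁻¹ := by
          have hsw : w ^ i * x ^ (l * i) * x ^ j = w ^ i * x ^ j * x ^ (l * i) := by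
            rw [mul_assoc, mul_assoc, ← zpow_add, ← zpow_add, add_comm]
          rw [hl, ((hfix n hn.1).zpow_right j).eq, mul_inv_cancel_right, (hwx.zpow_right l).mul_zpow, ← zpow_mul, hsw]
        _ = k * (w ^ i * x ^ j) * k⁻¹ * (k * x ^ (l * i) * k⁻¹) := by group
        _ = _ := by rw [hkw, ((hfix k hk).zpow_right _).eq, mul_inv_cancel_right]
    · obtain ⟨j, hj⟩ := hh.2
      exact F.centralizes hp hE.le ho hh.1 (hfix h hh.1) (F.commute_w ho (hfix h hh.1) hj)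
    · exact ⟨hg.2, F.move g hg.1⟩
  push Not at hcard
  have hE27 : ∀ e ∈ E, ∃ a b c : ℤ, e = v ^ a * w ^ b * x ^ c := by
    have hΩE : IsolatedRank.omega F.pcentral ≤ E ⊓ cA (S : Subgroup K) w := fun a ha => by
      refine ⟨?_, ha.1⟩
      obtain ⟨i, j, rfl⟩ := F.omega a ha.1.1 (mem_cA.1 ha.1).2 ha.2
      exact E.mul_mem (E.zpow_mem hwE i) (E.zpow_mem hxE j)
    have h1 := F.card_inf_cA hE.le hv hvA hvp
    have heq : IsolatedRank.omega F.pcentral = E ⊓ cA (S : Subgroup K) w := by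
      refine eq_of_le_of_card_ge hΩE ?_
      rw [F.card_omega]
      rw [← h1, pow_succ p 2] at hcard
      exact Nat.le_of_mul_le_mul_right hcard (Fact.out : p.Prime).pos
    intro e he
    obtain ⟨k, hk⟩ := F.exists_pow_mul (hE.le hv) hvA (hE.le he)
    have hm : (v ^ k)⁻¹ * e ∈ IsolatedRank.omega F.pcentral :=
      heq.ge ⟨E.mul_mem (E.inv_mem (E.pow_mem hv k)) he, hk⟩
    obtain ⟨i, j, hij⟩ := F.omega _ hm.1.1 (mem_cA.1 hm.1).2 hm.2
    exact ⟨k, i, j, by rw [zpow_natCast, mul_assoc, ← hij, mul_inv_cancel_left]⟩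
  by_cases hall : ∀ h ∈ Subgroup.normalizer (E : Set K), (orderOf h).Coprime p → h ∈ centralizer (E : Set K)
  · exact step hE ih (Subgroup.normalizer (E : Set K)) le_rfl le_normalizer hall (hnotle _ inf_le_right)
  push Not at hall
  obtain ⟨h, hh, ho, hnc⟩ := hall
  obtain ⟨k, hinv⟩ := F.exists_inverting hp3 hE.le hv hvA hvp hxE hwE hE27 hh ho (hfix h hh) hnc
  set n0 := h ^ k
  have hn0 : n0 ∈ Subgroup.normalizer (E : Set K) := _root_.pow_mem hh k
  let Ker : Subgroup K :=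
    { carrier := {n | n ∈ Subgroup.normalizer (E : Set K) ∧ ∀ e ∈ E, e⁻¹ * (n * e * n⁻¹) ∈ zpowers x}
      one_mem' := ⟨one_mem _, fun e _ => by simp⟩
      mul_mem' := fun {m n} hm hn => ⟨mul_mem hm.1 hn.1, fun e he => by
        obtain ⟨i, hi⟩ := mem_zpowers_iff.1 (hn.2 e he)
        have : e⁻¹ * (m * n * e * (m * n)⁻¹) = e⁻¹ * (m * e * m⁻¹) * (m * (e⁻¹ * (n * e * n⁻¹)) * m⁻¹) := by group
        rw [this, ← hi, ((hfix m hm.1).zpow_right i).eq, mul_inv_cancel_right]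
        exact mul_mem (hm.2 e he) (zpow_mem (mem_zpowers x) i)⟩
      inv_mem' := fun {n} hn => ⟨inv_mem hn.1, fun e he => by
        have he' : n⁻¹ * e * n ∈ E := by simpa using (mem_normalizer_iff.1 (inv_mem hn.1) e).1 he
        have h1 := inv_mem (hn.2 _ he')
        convert h1 using 1
        group⟩ }
  have hKn : ∀ g ∈ Subgroup.normalizer (E : Set K), ∀ n ∈ Ker, g * n * g⁻¹ ∈ Ker := fun g hg n hn =>
    ⟨mul_mem (mul_mem hg hn.1) (inv_mem hg), fun e he => by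
      have he' : g⁻¹ * e * g ∈ E := by simpa using (mem_normalizer_iff.1 (inv_mem hg) e).1 he
      obtain ⟨i, hi⟩ := mem_zpowers_iff.1 (hn.2 _ he')
      refine ⟨i, ?_⟩
      show x ^ i = _
      calc x ^ i = g * x ^ i * g⁻¹ := by rw [((hfix g hg).zpow_right i).eq, mul_inv_cancel_right]
        _ = _ := by rw [hi]; group⟩
  set T := (S : Subgroup K) ⊓ Subgroup.normalizer (E : Set K)
  set L := Ker ⊔ T
  have hTn : T ≤ Subgroup.normalizer (Ker : Set K) := fun t ht =>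
    (le_normalizer_iff (H := Subgroup.normalizer (E : Set K)) (K := Ker)).2 hKn ht.2
  have hcomm : ∀ t ∈ T, n0 * t * n0⁻¹ * t⁻¹ ∈ Ker := by
    intro t ht
    refine ⟨mul_mem (mul_mem (mul_mem hn0 ht.2) (inv_mem hn0)) (inv_mem ht.2), fun e he => ?_⟩
    have hn : ∀ e ∈ E, ∃ i : ℤ, n0 * e * n0⁻¹ = e⁻¹ * x ^ i := fun e he => by
      obtain ⟨i, hi⟩ := mem_zpowers_iff.1 (hinv e he)
      refine ⟨i, ?_⟩
      rw [((F.central e⁻¹ (inv_mem (hE.le he))).zpow_right i).eq, hi, mul_inv_cancel_right]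
    set e3 := t⁻¹ * e * t
    have he3 : e3 ∈ E := by
      have := (mem_normalizer_iff.1 (inv_mem ht.2) e).1 he
      simpa [e3] using this
    set e2 := n0⁻¹ * e3 * n0
    have he2 : e2 ∈ E := by
      have := (mem_normalizer_iff.1 (inv_mem hn0) e3).1 he3
      simpa [e2] using this
    obtain ⟨i, hi⟩ := hn e2 he2
    obtain ⟨j, hj⟩ := hn e⁻¹ (inv_mem he)
    have hxt : ∀ (g : K) (l : ℤ), g ∈ Subgroup.normalizer (E : Set K) → g * x ^ l * g⁻¹ = x ^ l := fun g l hg => by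
      rw [((hfix g hg).zpow_right l).eq, mul_inv_cancel_right]
    have he2' : e2 = x ^ i * e3⁻¹ := by
      have h1 : n0 * e2 * n0⁻¹ = e3 := by simp only [e2]; group
      rw [h1] at hi
      rw [hi]
      group
    refine ⟨i + j, ?_⟩
    show x ^ (i + j) = _
    calc x ^ (i + j) = e⁻¹ * (x ^ i * (e * x ^ j)) := by
          rw [← mul_assoc (x ^ i), ← ((F.central e (hE.le he)).zpow_right i).eq, mul_assoc e, inv_mul_cancel_left,
            zpow_add]
      _ = e⁻¹ * ((n0 * x ^ i * n0⁻¹) * (n0 * e⁻¹ * n0⁻¹)) := by rw [hxt n0 i hn0, hj, inv_inv]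
      _ = e⁻¹ * (n0 * ((t * x ^ i * t⁻¹) * e⁻¹) * n0⁻¹) := by rw [hxt t i ht.2]; group
      _ = e⁻¹ * (n0 * (t * e2 * t⁻¹) * n0⁻¹) := by rw [he2']; simp only [e3]; group
      _ = _ := by simp only [e2, e3]; group
  have hLE : L ≤ Subgroup.normalizer (E : Set K) := sup_le (fun n hn => hn.1) inf_le_right
  set H := Subgroup.normalizer (E : Set K) ⊓ Subgroup.normalizer (L : Set K)
  have hn0L : n0 ∈ Subgroup.normalizer (L : Set K) := by
    refine mem_normalizer_iff_map_conj_eq.2 (eq_of_le_of_card_ge ?_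
      (card_map_of_injective (MulAut.conj n0).injective).ge)
    rw [Subgroup.map_sup]
    refine sup_le ?_ ?_
    · rintro _ ⟨n, hn, rfl⟩
      exact mem_sup_left (hKn n0 hn0 n hn)
    · rintro _ ⟨t, ht, rfl⟩
      show n0 * t * n0⁻¹ ∈ L
      have h1 := mul_mem (mem_sup_left (T := T) (hcomm t ht)) (mem_sup_right (S := Ker) ht)
      rwa [inv_mul_cancel_right] at h1
  have hTH : IsSylIn p T H := hE.syl.mono (le_inf inf_le_right ((le_sup_right).trans le_normalizer)) inf_le_left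
  obtain ⟨a, ha, m, ⟨hmH, hmT⟩, hnam⟩ := exists_mul_normalizer_of_le hTH le_sup_right
    (le_inf hLE le_normalizer) inf_le_right ⟨hn0, hn0L⟩
  obtain ⟨r, hr, t, ht, rfl⟩ := (Coprime.mem_sup_of_le_normalizer hTn).1 ha
  have hm' : t * m ∈ Subgroup.normalizer (T : Set K) := mul_mem (le_normalizer ht) hmT
  have hI := ih.normalizer (hE.lt hne) inf_le_left hm' v ⟨hE.le hv, le_normalizer hv⟩
  obtain ⟨j, hj⟩ := mem_zpowers_iff.1 (hr.2 v hv)
  have hvn : n0⁻¹ * v * n0 ∈ E := by simpa using (mem_normalizer_iff.1 (inv_mem hn0) v).1 hv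
  obtain ⟨j', hj'⟩ := mem_zpowers_iff.1 (hinv _ hvn)
  rw [show t * m = r⁻¹ * n0 by rw [hnam]; group] at hI
  have hI' : v⁻¹ * v⁻¹ * x ^ (j' + j) ∈ Fs := by
    convert hI using 1
    have h1 : n0⁻¹ * v * n0 = v⁻¹ * x ^ j' := by rw [hj']; group
    have h2 : r * v * r⁻¹ = v * x ^ j := by rw [hj]; group
    symm
    calc v⁻¹ * ((r⁻¹ * n0)⁻¹ * v * (r⁻¹ * n0)) = v⁻¹ * (n0⁻¹ * (r * v * r⁻¹) * n0) := by group
      _ = v⁻¹ * ((n0⁻¹ * v * n0) * (n0⁻¹ * x ^ j * n0)) := by rw [h2]; group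
      _ = _ := by
        rw [h1, ((hfix n0 hn0).inv_left.zpow_right j).eq, inv_mul_cancel_right, zpow_add]
        group
  have hvF : v ∈ Fs := by
    have h1 := mul_mem hI' (inv_mem (zpow_mem hxF (j' + j)))
    rw [mul_inv_cancel_right] at h1
    have h3 : v ^ 3 = 1 := by rw [← hp3]; exact hvp
    rwa [show v⁻¹ * v⁻¹ = v by
      rw [← mul_inv_rev]; exact inv_eq_of_mul_eq_one_left (by rw [← pow_three]; exact h3)] at h1
  have hEF : E ≤ Fs := fun e he => by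
    obtain ⟨a, b, c, rfl⟩ := hE27 e he
    exact Fs.mul_mem (Fs.mul_mem (Fs.zpow_mem hvF a) (Fs.zpow_mem hwF b)) (Fs.zpow_mem hxF c)
  intro n hn e he
  exact mul_mem (inv_mem (hEF he)) (hEF (by simpa using (mem_normalizer_iff.1 (inv_mem hn) e).1 he))

end Cfsg.Agent.IsolatedRank
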